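import Groth.Agent.H8FSch.Coreflect

/-!
# Kernels of maps between filtered colimits of a coreflective class
-/

set_option autoImplicit false
set_option linter.style.haveILetI false

universe v u

open CategoryTheory CategoryTheory.Limits

namespace Groth.Agent.H8FSch.Coreflect

variable {B : Type u} [Category.{v} B] [Abelian B] [IsGrothendieckAbelian.{v} B] {P : ObjectProperty B}

/-- The kernel of a map between filtered colimits of members is covered by members. -/
theorem coveredKernels_ind (hker : CoveredKernels P) {X Y : B} (hX : ObjectProperty.ind.{v} P X)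
    (hY : ObjectProperty.ind.{v} P Y) (φ : X ⟶ Y) {T : B} (t : kernel φ ⟶ T)
    (ht : ∀ (Q : B), P Q → ∀ q : Q ⟶ kernel φ, q ≫ t = 0) : t = 0 := by
  obtain ⟨J, _, _, pres, hp⟩ := hX
  let e := (colimit.isColimit pres.diag).coconePointUniqueUpToIso pres.isColimit
  refine hom_eq_zero_of_pullbacks (kernel.ι φ ≫ e.inv) t fun j Z p q hpq => ?_
  have hq : q ≫ pres.ι.app j = p ≫ kernel.ι φ := by
    have h := congrArg (· ≫ e.hom) hpq
    simp only [Category.assoc, Iso.inv_hom_id, Category.comp_id] at h
    rw [h]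
    exact congrArg (q ≫ ·) ((colimit.isColimit pres.diag).comp_coconePointUniqueUpToIso_hom
      pres.isColimit j).symm
  let uj : pres.diag.obj j ⟶ Y := pres.ι.app j ≫ φ
  have hq' : q ≫ uj = 0 := by
    show q ≫ pres.ι.app j ≫ φ = 0
    rw [reassoc_of% hq, kernel.condition, comp_zero]
  let m : kernel uj ⟶ kernel φ := kernel.lift φ (kernel.ι uj ≫ pres.ι.app j)
    (by rw [Category.assoc]; exact kernel.condition uj)
  have hm : m ≫ t = 0 := hker (hp j) hY uj (m ≫ t) fun Q hQ r => by
    rw [← Category.assoc]; exact ht Q hQ _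
  have hp' : p = kernel.lift uj q hq' ≫ m := (cancel_mono (kernel.ι φ)).1 (by simp [m, hq])
  rw [hp', Category.assoc, hm, comp_zero]

/-- The filtered colimits of members are closed under kernels. -/
theorem prop_kernel_ind [ObjectProperty.EssentiallySmall.{v} P] [P.IsClosedUnderIsomorphisms]
    (hzero : ∃ Z, IsZero Z ∧ P Z)
    (hsum : ∀ X Y, P X → P Y → P (X ⊞ Y))
    (hcok : ∀ ⦃X Y : B⦄ (f : X ⟶ Y), P X → P Y → P (cokernel f))
    (hker : CoveredKernels P) {X Y : B} (hX : ObjectProperty.ind.{v} P X)
    (hY : ObjectProperty.ind.{v} P Y) (φ : X ⟶ Y) : ObjectProperty.ind.{v} P (kernel φ) := by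
  obtain ⟨R, ε, hR, h⟩ := exists_coreflection hzero hsum hcok hker (kernel φ)
  have hmono : Mono ε := by
    have h0 : kernel.ι (ε ≫ kernel.ι φ) = 0 := by
      refine coveredKernels_ind hker hR hX _ _ fun Q hQ r => ?_
      refine (h Q (P.le_ind _ hQ) 0).unique ?_ zero_comp
      rw [← cancel_mono (kernel.ι φ), zero_comp, Category.assoc, Category.assoc, kernel.condition,
        comp_zero]
    haveI : Mono (ε ≫ kernel.ι φ) := Preadditive.mono_of_kernel_iso_zero
      (IsZero.isoZero (IsZero.of_mono_eq_zero _ h0))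
    exact mono_of_mono ε (kernel.ι φ)
  haveI : Epi ε := by
    refine (Preadditive.epi_iff_cancel_zero _).2 fun T t ht => ?_
    refine coveredKernels_ind hker hX hY φ t fun Q hQ q => ?_
    obtain ⟨g, hg, -⟩ := h Q (P.le_ind _ hQ) q
    rw [← hg, Category.assoc, ht, comp_zero]
  haveI := isIso_of_mono_of_epi ε
  exact (ObjectProperty.ind.{v} P).prop_of_iso (asIso ε) hR

end Groth.Agent.H8FSch.Coreflect
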