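import Groth.Agent.H8FSch.IndQCoh
import Groth.Agent.H8FSch.KerInd

/-!
# Ind-coherent modules on an affine formal scheme are cokernels of maps of free modules
-/

set_option autoImplicit false
set_option linter.style.haveILetI false
set_option linter.unusedSectionVars false
set_option backward.isDefEq.respectTransparency false
universe u

open CategoryTheory CategoryTheory.Limits AlgebraicGeometry TopologicalSpace Opposite TensorProduct

namespace Groth.Agent.H8FSch

open H15Site.ModTensor H15Site.ModRel H15Site.LocGen H15Site.LocPres H24FMod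

attribute [local instance 10000] H15Site.SiteInst.hasSheafifySite H15Site.SiteInst.hasWeakSheafifySite

variable {𝔛 : FSch.Sys.{u}} (hL : 𝔛.IsLocNoethFormal)

/-- On an affine formal scheme a filtered colimit of coherent modules is a quotient of a free module. -/
theorem exists_epi_free (htop : IsAffineOpen (⊤ : (𝔛.X 0).Opens)) {F : FSch.ModF 𝔛 hL.1}
    (hF : ObjectProperty.ind.{u} (Coh 𝔛 hL.1) F) :
    ∃ (β : Type u) (ψ : (SheafOfModules.free β : FSch.ModF 𝔛 hL.1) ⟶ F), Epi ψ := by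
  obtain ⟨Λ, _, _, pres, hp⟩ := hF
  let O := 𝔛.Osh hL.1
  let sec : (Σ j : Λ, Sec hL.1 (pres.diag.obj j) ⊤) → F.sections := fun p =>
    PresheafOfModules.sectionsMk
      (fun W => rs ((forg O).obj F) (homOfLE (le_top : W.unop ≤ ⊤)).op ((pres.ι.app p.1).val.app (op ⊤) p.2))
      fun W W' a => by
        show rs ((forg O).obj F) a (rs ((forg O).obj F) (homOfLE le_top).op _) = _
        rw [rs_rs]
        exact congrArg (fun q => rs ((forg O).obj F) q _) (Subsingleton.elim _ _)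
  let ψ : (SheafOfModules.free (Σ j : Λ, Sec hL.1 (pres.diag.obj j) ⊤) : FSch.ModF 𝔛 hL.1) ⟶ F :=
    F.freeHomEquiv.symm sec
  refine ⟨_, ψ, ?_⟩
  have hψ : ∀ (p : Σ j : Λ, Sec hL.1 (pres.diag.obj j) ⊤) (W : (𝔛.X 0).Opens) (r : OSec hL.1 W),
      (ψ.val.app (op W)).hom
          (((SheafOfModules.ιFree (R := ModSite.ringSh O) p).val.app (op W)).hom r) =
        (r • rs ((forg O).obj F) (homOfLE (le_top : W ≤ ⊤)).op
          ((pres.ι.app p.1).val.app (op ⊤) p.2) : Sec hL.1 F W) := by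
    intro p W r
    have h : SheafOfModules.ιFree p ≫ ψ = F.unitHomEquiv.symm (sec p) := by
      rw [← SheafOfModules.unitHomEquiv_symm_freeHomEquiv_apply, Equiv.apply_symm_apply]
    show ((SheafOfModules.ιFree p ≫ ψ).val.app (op W)).hom r = _
    rw [h]
    rfl
  rw [epi_iff_locSurj]
  intro V t
  obtain ⟨S, hS, hS'⟩ := H15Site.ColimSect.exists_local_rep pres.isColimit (V := V) t
  obtain ⟨T, hT, hT'⟩ := (H14QCohFP.goodBase hL).refine' hS
  refine ⟨T, hT, fun Z a ha => ?_⟩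
  obtain ⟨B, b, q, hB, hq, hbq⟩ := hT' a ha
  obtain ⟨j, y, hy⟩ := hS' q hq
  let l : B ⟶ ⊤ := homOfLE le_top
  letI := (rsO hL l).toAlgebra
  have key : ∀ T : OSec hL.1 B ⊗[OSec hL.1 (⊤ : (𝔛.X 0).Opens)] Sec hL.1 (pres.diag.obj j) ⊤,
      ∃ z : Sec hL.1 (SheafOfModules.free (Σ j : Λ, Sec hL.1 (pres.diag.obj j) ⊤)) B,
        (ψ.val.app (op B)).hom z = secMap (pres.ι.app j) B (bcMap hL (pres.diag.obj j) l T) := by
    intro T
    induction T using TensorProduct.induction_on with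
    | zero => exact ⟨0, (map_zero _).trans (by rw [map_zero, map_zero])⟩
    | tmul r x =>
      refine ⟨((SheafOfModules.ιFree (R := ModSite.ringSh O) ⟨j, x⟩).val.app (op B)).hom r,
        (hψ ⟨j, x⟩ B r).trans ?_⟩
      rw [bcMap_tmul]
      refine Eq.trans ?_ (((pres.ι.app j).val.app (op B)).hom.map_smul r _).symm
      exact congrArg (r • ·) (app_rs (pres.ι.app j) _ x).symm
    | add a b ha hb =>
      obtain ⟨za, hza⟩ := ha
      obtain ⟨zb, hzb⟩ := hb
      exact ⟨za + zb, (map_add _ _ _).trans (by rw [hza, hzb, map_add, map_add])⟩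
  obtain ⟨T₀, hT₀⟩ := (bijective_bcMap hL (hp j) htop hB l).2 y
  obtain ⟨z, hz⟩ := key T₀
  refine ⟨rs ((forg O).obj _) b.op z, ?_⟩
  refine (app_rs ψ b.op z).trans
    ((congrArg _ (hz.trans ((congrArg (secMap (pres.ι.app j) B) hT₀).trans hy))).trans ?_)
  rw [rs_rs]
  exact congrArg (fun w => rs ((forg O).obj F) w t) (Subsingleton.elim _ _)

theorem prop_kernel {F G : FSch.ModF 𝔛 hL.1} (hF : ObjectProperty.ind.{u} (Coh 𝔛 hL.1) F)
    (hG : ObjectProperty.ind.{u} (Coh 𝔛 hL.1) G) (φ : F ⟶ G) :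
    ObjectProperty.ind.{u} (Coh 𝔛 hL.1) (kernel φ) := by
  haveI := H10Coh.isGrothendieckAbelian_sheafOfModules (ModSite.ringSh (𝔛.Osh hL.1))
  haveI := essentiallySmall_coh 𝔛 hL.1
  exact Coreflect.prop_kernel_ind (exists_coh_zero 𝔛 hL.1) (coh_biprod 𝔛 hL.1)
    (fun _ _ f hX hY => coh_cokernel 𝔛 hL.1 f hX hY) (coveredKernels hL) hF hG φ

theorem prop_free (β : Type u) :
    ObjectProperty.ind.{u} (Coh 𝔛 hL.1) (SheafOfModules.free β : FSch.ModF 𝔛 hL.1) := by
  haveI := isLeftAdjoint_ι' hL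
  haveI := Coreflect.isClosedUnderColimitsOfShape (Q := ObjectProperty.ind.{u} (Coh 𝔛 hL.1)) (Discrete β)
  haveI := H10Coh.isGrothendieckAbelian_sheafOfModules (ModSite.ringSh (𝔛.Osh hL.1))
  exact ObjectProperty.prop_colimit _ (Discrete.functor fun _ : β =>
    SheafOfModules.unit (ModSite.ringSh (𝔛.Osh hL.1))) fun _ => (Coh 𝔛 hL.1).le_ind _
      H24FMod.isFinitePresentation_unit

theorem prop_cokernel {F G : FSch.ModF 𝔛 hL.1} (hF : ObjectProperty.ind.{u} (Coh 𝔛 hL.1) F)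
    (hG : ObjectProperty.ind.{u} (Coh 𝔛 hL.1) G) (φ : F ⟶ G) :
    ObjectProperty.ind.{u} (Coh 𝔛 hL.1) (cokernel φ) := by
  haveI := isLeftAdjoint_ι' hL
  haveI := Coreflect.isClosedUnderColimitsOfShape (Q := ObjectProperty.ind.{u} (Coh 𝔛 hL.1))
    WalkingParallelPair
  exact ObjectProperty.prop_colimit _ (parallelPair φ 0) fun j => match j with
    | .zero => hF
    | .one => hG

/-- On an affine formal scheme the ind-coherent modules are the cokernels of maps of free modules. -/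
theorem ind_iff_exists_cokernel_free (htop : IsAffineOpen (⊤ : (𝔛.X 0).Opens))
    (F : FSch.ModF 𝔛 hL.1) :
    ObjectProperty.ind.{u} (Coh 𝔛 hL.1) F ↔
      ∃ (α β : Type u) (φ : (SheafOfModules.free α : FSch.ModF 𝔛 hL.1) ⟶ SheafOfModules.free β),
        Nonempty (cokernel φ ≅ F) := by
  constructor
  · intro hF
    obtain ⟨β, ψ, hψ⟩ := exists_epi_free hL htop hF
    obtain ⟨α, π, hπ⟩ := exists_epi_free hL htop (prop_kernel hL (prop_free hL β) hF ψ)
    exact ⟨α, β, π ≫ kernel.ι ψ, ⟨cokernelEpiComp π (kernel.ι ψ) ≪≫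
      (cokernelIsCokernel (kernel.ι ψ)).coconePointUniqueUpToIso
        (Abelian.epiIsCokernelOfKernel _ (limit.isLimit _))⟩⟩
  · rintro ⟨α, β, φ, ⟨e⟩⟩
    exact (ObjectProperty.ind.{u} (Coh 𝔛 hL.1)).prop_of_iso e
      (prop_cokernel hL (prop_free hL α) (prop_free hL β) φ)

end Groth.Agent.H8FSch
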