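import Groth.Agent.H8FSch.IndKer
import Mathlib.CategoryTheory.Limits.Presentation

/-!
# An ind-coherent module is a directed union of coherent submodules
-/

set_option autoImplicit false
set_option linter.style.haveILetI false
universe u

open CategoryTheory CategoryTheory.Limits

namespace Groth.Agent.H8FSch

theorem isCohF_image {𝔛 : FSch.Sys.{u}} (hL : 𝔛.IsLocNoethFormal) {Λ : Type u} [SmallCategory Λ]
    [IsFiltered Λ] {D : Λ ⥤ FSch.ModF 𝔛 hL.1} {c : Cocone D} (hc : IsColimit c)
    (hD : ∀ i, FSch.IsCohF 𝔛 hL.1 (D.obj i)) {F : FSch.ModF 𝔛 hL.1}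
    (hF : FSch.IsCohF 𝔛 hL.1 F) (u : F ⟶ c.pt) : FSch.IsCohF 𝔛 hL.1 (Abelian.coimage u) :=
  coh_cokernel 𝔛 hL.1 (kernel.ι u) (isCohF_kernel_colim hL hc hD u hF) hF

/-- A filtered colimit is the colimit of the coimages of the stages. -/
theorem exists_coimagePresentation {B : Type*} [Category B] [Abelian B] {F : B} {Λ : Type u}
    [SmallCategory Λ] (P : ColimitPresentation Λ F) :
    ∃ pres : ColimitPresentation Λ F, (∀ j, pres.diag.obj j = Abelian.coimage (P.ι.app j)) ∧
      ∀ j, Mono (pres.ι.app j) := by
  let π : ∀ j, P.diag.obj j ⟶ Abelian.coimage (P.ι.app j) := fun j => cokernel.π _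
  let m : ∀ j, Abelian.coimage (P.ι.app j) ⟶ F := fun j => Abelian.factorThruCoimage (P.ι.app j)
  have hm : ∀ j, π j ≫ m j = P.ι.app j := fun j => Abelian.coimage.fac _
  have hw : ∀ {i j : Λ} (f : i ⟶ j), P.diag.map f ≫ P.ι.app j = P.ι.app i := fun f =>
    (P.ι.naturality f).trans (Category.comp_id _)
  let t : ∀ {i j : Λ}, (i ⟶ j) → (Abelian.coimage (P.ι.app i) ⟶ Abelian.coimage (P.ι.app j)) :=
    fun {i j} f => cokernel.desc _ (P.diag.map f ≫ π j) (by
      rw [← cancel_mono (m j), zero_comp, Category.assoc, Category.assoc, hm, hw, kernel.condition])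
  have ht : ∀ {i j : Λ} (f : i ⟶ j), t f ≫ m j = m i := fun {i j} f => by
    rw [← cancel_epi (π i)]
    show cokernel.π _ ≫ cokernel.desc _ _ _ ≫ m j = _
    rw [cokernel.π_desc_assoc, Category.assoc, hm, hw, hm]
  let D : Λ ⥤ B :=
    { obj := fun j => Abelian.coimage (P.ι.app j)
      map := fun f => t f
      map_id := fun j => (cancel_mono (m j)).1 (by rw [ht, Category.id_comp])
      map_comp := fun f g => (cancel_mono (m _)).1 (by rw [Category.assoc, ht, ht, ht]) }
  refine ⟨{ diag := D
            ι := { app := m, naturality := fun i j f => (ht f).trans (Category.comp_id _).symm }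
            isColimit :=
        { desc := fun s => P.isColimit.desc
            { pt := s.pt
              ι :=
                { app := fun j => π j ≫ s.ι.app j
                  naturality := fun i j f => by
                    have h := s.ι.naturality f
                    simp only [Functor.const_obj_obj, Functor.const_obj_map, Category.comp_id] at h ⊢
                    rw [← h]
                    show _ = cokernel.π _ ≫ cokernel.desc _ _ _ ≫ _
                    rw [cokernel.π_desc_assoc, Category.assoc] } }
          fac := fun s j => by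
            rw [← cancel_epi (π j)]
            refine (Category.assoc _ _ _).symm.trans ?_
            show (π j ≫ m j) ≫ _ = _
            rw [hm]
            exact P.isColimit.fac _ j
          uniq := fun s g hg => P.isColimit.hom_ext fun j => by
            rw [P.isColimit.fac]
            show P.ι.app j ≫ g = π j ≫ s.ι.app j
            rw [← hg j]
            exact ((congrArg (· ≫ g) (hm j)).symm.trans (Category.assoc _ _ _)) } }, fun j => rfl, fun j =>
    (inferInstance : Mono (m j))⟩

theorem exists_monoPresentation {𝔛 : FSch.Sys.{u}} (hL : 𝔛.IsLocNoethFormal)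
    {F : FSch.ModF 𝔛 hL.1} (hF : ObjectProperty.ind.{u} (Coh 𝔛 hL.1) F) :
    ∃ (J : Type u) (_ : SmallCategory J) (_ : IsFiltered J) (pres : ColimitPresentation J F),
      (∀ j : J, FSch.IsCohF 𝔛 hL.1 (pres.diag.obj j)) ∧ ∀ j : J, Mono (pres.ι.app j) := by
  obtain ⟨Λ, _, _, P, hp⟩ := hF
  obtain ⟨pres, hobj, hmono⟩ := exists_coimagePresentation P
  refine ⟨Λ, inferInstance, inferInstance, pres, fun j => ?_, hmono⟩
  rw [hobj j]
  exact isCohF_image hL P.isColimit hp (hp j) (P.ι.app j)

end Groth.Agent.H8FSch
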