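import Groth.Agent.H15Site.HomGlue
import Mathlib.Topology.NoetherianSpace

/-!
# Finitely presented modules on a Noetherian ringed space are compact
-/

set_option autoImplicit false
set_option linter.style.haveILetI false
set_option backward.isDefEq.respectTransparency false
universe u

open CategoryTheory CategoryTheory.Limits TopologicalSpace Opposite

namespace Groth.Agent.H8FSch

open H15Site H15Site.ModTensor H15Site.LocPres

attribute [local instance 10000] SiteInst.hasSheafifySite SiteInst.hasWeakSheafifySite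

variable {T : Type u} [TopologicalSpace T] [NoetherianSpace T]
  {O : Sheaf (Opens.grothendieckTopology T) CommRingCat.{u}}
  {Λ : Type u} [SmallCategory Λ] [IsFiltered Λ]

/-- A sieve covering an open contains a finite cover. -/
theorem exists_finite_cover {U : Opens T} {S : Sieve U} (hS : S ∈ Opens.grothendieckTopology T U) :
    ∃ (n : ℕ) (V : Fin n → Opens T) (g : ∀ a, V a ⟶ U), (∀ a, S (g a)) ∧
      ∀ x ∈ U, ∃ a, x ∈ V a := by
  choose V g hg hx using fun x : {x // x ∈ U} => hS x.1 x.2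
  obtain ⟨t, ht⟩ := (NoetherianSpace.isCompact (U : Set T)).elim_finite_subcover
    (fun x => (V x : Set T)) (fun x => (V x).isOpen) fun x hx' => Set.mem_iUnion.2 ⟨⟨x, hx'⟩, hx ⟨x, hx'⟩⟩
  refine ⟨t.card, fun a => V (t.equivFin.symm a).1, fun a => g _, fun a => hg _, fun y hy => ?_⟩
  obtain ⟨k, hk, hyk⟩ := Set.mem_iUnion₂.1 (ht hy)
  exact ⟨t.equivFin ⟨k, hk⟩, by simpa using hyk⟩

theorem coversTop_of_cover {ι : Type*} {V : ι → Opens T} (h : ∀ x, ∃ a, x ∈ V a) :
    (Opens.grothendieckTopology T).CoversTop V := fun Y y hy => by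
  obtain ⟨a, ha⟩ := h y
  exact ⟨Y ⊓ V a, homOfLE inf_le_left, (Sieve.mem_ofObjects_iff ..).2 ⟨a, ⟨homOfLE inf_le_right⟩⟩, hy, ha⟩

/-- A later stage through which finitely many arrows out of a stage factor. -/
theorem exists_coeq {ι : Type*} [Finite ι] (i : Λ) (j : ι → Λ) (f : ∀ a, i ⟶ j a) :
    ∃ (k : Λ) (g : i ⟶ k), ∀ a, ∃ h : j a ⟶ k, f a ≫ h = g := by
  classical
  haveI := Fintype.ofFinite ι
  suffices H : ∀ A : Finset ι, ∃ (k : Λ) (g : i ⟶ k), ∀ a ∈ A, ∃ h : j a ⟶ k, f a ≫ h = g by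
    obtain ⟨k, g, hg⟩ := H Finset.univ
    exact ⟨k, g, fun a => hg a (Finset.mem_univ a)⟩
  intro A
  induction A using Finset.induction_on with
  | empty => exact ⟨i, 𝟙 i, fun a ha => absurd ha (Finset.notMem_empty a)⟩
  | insert b A hb ih =>
    obtain ⟨k, g, hg⟩ := ih
    obtain ⟨k', u, v, huv⟩ := IsFiltered.span g (f b)
    refine ⟨k', g ≫ u, fun a ha => ?_⟩
    rcases Finset.mem_insert.1 ha with rfl | ha
    · exact ⟨v, huv.symm⟩
    · obtain ⟨h, hh⟩ := hg a ha
      exact ⟨h ≫ u, by rw [← Category.assoc, hh]⟩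

/-- A map from a finitely presented module into a filtered colimit comes from a stage. -/
theorem exists_lift {F : ModSite.Mod O} [SheafOfModules.IsFinitePresentation (R := ModSite.ringSh O) F]
    {D : Λ ⥤ ModSite.Mod O} {c : Cocone D} (hc : IsColimit c) (φ : F ⟶ c.pt) :
    ∃ (k : Λ) (ψ : F ⟶ D.obj k), ψ ≫ c.ι.app k = φ := by
  classical
  obtain ⟨S, hS, hS'⟩ := LocHom.exists_local_lift hc ((ModSite.restr O (⊤ : Opens T)).map φ)
  obtain ⟨n, V, g, hg, hV⟩ := exists_finite_cover hS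
  choose i ψ hψ using fun a => hS' (g a) (hg a)
  obtain ⟨i₀, hi₀⟩ := IsFiltered.sup_objs_exists (Finset.univ.image i)
  let f : ∀ a, i a ⟶ i₀ := fun a => (hi₀ (Finset.mem_image.2 ⟨a, Finset.mem_univ a, rfl⟩)).some
  let ψ₀ : ∀ a, (ModSite.restr O (V a)).obj F ⟶ (ModSite.restr O (V a)).obj (D.obj i₀) := fun a =>
    ψ a ≫ (ModSite.restr O (V a)).map (D.map (f a))
  have hψ₀ : ∀ a, ψ₀ a ≫ (ModSite.restr O (V a)).map (c.ι.app i₀) = (ModSite.restr O (V a)).map φ :=
    fun a => by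
      rw [Category.assoc, ← Functor.map_comp, c.w (f a), hψ a, SitePerfLift.tr_map]
  have hag : ∀ p : Fin n × Fin n,
      SitePerfLift.tr (homOfLE inf_le_left : V p.1 ⊓ V p.2 ⟶ V p.1) (ψ₀ p.1) ≫
          (ModSite.restr O (V p.1 ⊓ V p.2)).map (c.ι.app i₀) =
        SitePerfLift.tr (homOfLE inf_le_right : V p.1 ⊓ V p.2 ⟶ V p.2) (ψ₀ p.2) ≫
          (ModSite.restr O (V p.1 ⊓ V p.2)).map (c.ι.app i₀) := fun p => by
    exact (congrArg (SitePerfLift.tr (homOfLE inf_le_left : V p.1 ⊓ V p.2 ⟶ V p.1)) (hψ₀ p.1)).trans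
      (congrArg (SitePerfLift.tr (homOfLE inf_le_right : V p.1 ⊓ V p.2 ⟶ V p.2)) (hψ₀ p.2)).symm
  choose R hR hR' using fun p => LocHom.exists_local_eq hc _ _ (hag p)
  choose m Z z hz hZ using fun p => exists_finite_cover (hR p)
  choose j e he using fun q : Σ p, Fin (m p) => hR' q.1 (z q.1 q.2) (hz q.1 q.2)
  obtain ⟨k, ek, hek⟩ := exists_coeq i₀ j e
  let t : ∀ a, (ModSite.restr O (V a)).obj F ⟶ (ModSite.restr O (V a)).obj (D.obj k) := fun a =>
    ψ₀ a ≫ (ModSite.restr O (V a)).map (D.map ek)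
  have hcov := coversTop_of_cover (V := V) fun x => hV x trivial
  have hcompat : ∀ (W : Opens T) (a b : Fin n) (p : W ⟶ V a) (q : W ⟶ V b),
      SitePerfLift.tr p (t a) = SitePerfLift.tr q (t b) := by
    intro W a b p q
    let l : W ⟶ V a ⊓ V b := homOfLE (le_inf (leOfHom p) (leOfHom q))
    let S' : Sieve W :=
      { arrows := fun W' _ => ∃ r, W' ≤ Z (a, b) r
        downward_closed := fun {W' W''} _ hh g => by
          obtain ⟨r, hr⟩ := hh
          exact ⟨r, (leOfHom g).trans hr⟩ }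
    have hS'mem : S' ∈ Opens.grothendieckTopology T W := fun x hx => by
      obtain ⟨r, hr⟩ := hZ (a, b) x ((leOfHom l) hx)
      exact ⟨W ⊓ Z (a, b) r, homOfLE inf_le_left, ⟨r, inf_le_right⟩, hx, hr⟩
    refine HomGlue.isSeparated_homP hS'mem _ _ fun W' g hg' => ?_
    obtain ⟨r, hr⟩ := hg'
    obtain ⟨h, hh⟩ := hek ⟨(a, b), r⟩
    have E := congrArg (fun χ => SitePerfLift.tr (homOfLE hr) χ ≫ (ModSite.restr O W').map (D.map h))
      (he ⟨(a, b), r⟩)
    refine HomGlue.hom_ext_ap fun X x y => ?_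
    have E' := congrArg (fun χ => HomGlue.ap χ x y) E
    have hd : ∀ (u : D.obj i₀ ⟶ D.obj (j ⟨(a, b), r⟩)) (w : ((forg O).obj (D.obj i₀)).obj (op X)),
        u = D.map (e ⟨(a, b), r⟩) →
        ((D.map h).val.app (op X)).hom ((u.val.app (op X)).hom w) =
          ((D.map ek).val.app (op X)).hom w := by
      rintro _ w rfl
      rw [← hh, D.map_comp]
      rfl
    refine Eq.trans ?_ (E'.trans ?_)
    · refine Eq.trans ?_ (hd _ _ rfl).symm
      show HomGlue.ap (t a) ((x ≫ g) ≫ p) y = _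
      exact congrArg (fun q => HomGlue.ap (t a) q y) (Subsingleton.elim _ _)
    · refine (hd _ _ rfl).trans ?_
      show _ = HomGlue.ap (t b) ((x ≫ g) ≫ q) y
      exact congrArg (fun q => HomGlue.ap (t b) q y) (Subsingleton.elim _ _)
  obtain ⟨χ, hχ⟩ := HomGlue.exists_hom_coversTop hcov t hcompat
  refine ⟨k, χ, HomGlue.hom_ext_coversTop hcov fun a => ?_⟩
  rw [Functor.map_comp, hχ, Category.assoc, ← Functor.map_comp, c.w ek, hψ₀]

end Groth.Agent.H8FSch
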