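import Groth.Agent.H15Site.LocPresOps

/-!
# Extensions of finitely presented modules are finitely presented
-/

set_option autoImplicit false
set_option linter.style.haveILetI false
set_option backward.isDefEq.respectTransparency false
universe u

open CategoryTheory CategoryTheory.Limits Opposite

namespace Groth.Agent.H8FSch

open H15Site H15Site.ModTensor H15Site.ModRel H15Site.LocGen H15Site.LocPres

attribute [local instance 10000] SiteInst.hasSheafifySite SiteInst.hasWeakSheafifySite

variable {C : Type u} [SmallCategory C] {J : GrothendieckTopology C} {O : Sheaf J CommRingCat.{u}}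

theorem isFinitePresentation_of_shortExact (S : ShortComplex (ModSite.Mod O)) (hS : S.ShortExact)
    [SheafOfModules.IsFinitePresentation (R := ModSite.ringSh O) S.X₁]
    [SheafOfModules.IsFinitePresentation (R := ModSite.ringSh O) S.X₃] :
    SheafOfModules.IsFinitePresentation (R := ModSite.ringSh O) S.X₂ := by
  classical
  haveI := hS.epi_g
  haveI := hS.mono_f
  refine isFinitePresentation_of_lh (lh_bind (lh_and (lh_fp S.X₁) (lh_fp S.X₃) FP.res) ?_)
  rintro U ⟨⟨I, K, hI, hK, s, r, hs, hr⟩, I', K', hI', hK', q, p, hq, hp⟩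
  obtain ⟨T, hT, hT'⟩ := exists_lifts S.g q
  have key : ∀ ⦃U₁ : C⦄ (k : U₁ ⟶ U), T k → ∃ R ∈ J U₁, ∀ ⦃U' : C⦄ (k' : U' ⟶ U₁), R k' → FP S.X₂ U' := by
    intro U₁ k hk
    obtain ⟨q₁, hq₁⟩ := hT' k hk
    let z : K' → ((forg O).obj S.X₂).obj (op U₁) := fun l => ∑ i, rr O k.op (p l i) • q₁ i
    have hz : ∀ l, (S.g.val.app (op U₁)).hom (z l) = 0 := fun l => by
      refine (app_sum_smul S.g _ _ _).trans ?_
      simp only [hq₁]
      simpa only [rs_smul'] using ((rs_sum _ _ _ _).symm.trans
        ((congrArg (rs ((forg O).obj S.X₃) k.op) (hp.zero l)).trans (rs_zero _ _)))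
    choose A hA hA' using fun l => exists_lift_of_exact hS.exact (z l) (hz l)
    obtain ⟨A₀, hA₀, hA₀le⟩ := exists_common A hA
    have key₂ : ∀ ⦃U₂ : C⦄ (k₂ : U₂ ⟶ U₁), A₀ k₂ → ∃ R ∈ J U₂, ∀ ⦃U' : C⦄ (k' : U' ⟶ U₂), R k' →
        FP S.X₂ U' := by
      intro U₂ k₂ hk₂
      choose y hy using fun l => hA' l k₂ (hA₀le l _ hk₂)
      choose B hB hB' using fun l => hs (k₂ ≫ k) (y l)
      obtain ⟨B₀, hB₀, hB₀le⟩ := exists_common B hB
      refine ⟨B₀, hB₀, fun U' k' hk' => ?_⟩
      choose b hb using fun l => hB' l k' (hB₀le l _ hk')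
      let a : U' ⟶ U := k' ≫ k₂ ≫ k
      let s' : I → ((forg O).obj S.X₁).obj (op U') := fun j => rs ((forg O).obj S.X₁) a.op (s j)
      let q' : I' → ((forg O).obj S.X₂).obj (op U') :=
        fun i => rs ((forg O).obj S.X₂) (k' ≫ k₂).op (q₁ i)
      let G : I ⊕ I' → ((forg O).obj S.X₂).obj (op U') :=
        Sum.elim (fun j => (S.f.val.app (op U')).hom (s' j)) q'
      have hq' : ∀ i, (S.g.val.app (op U')).hom (q' i) = rs ((forg O).obj S.X₃) a.op (q i) :=
        fun i => by
          refine (app_rs S.g _ _).trans ((congrArg _ (hq₁ i)).trans ?_)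
          rw [rs_rs, ← op_comp, Category.assoc]
      have hzl : ∀ l, ∑ i, rr O a.op (p l i) • q' i = ∑ j, b l j • (S.f.val.app (op U')).hom (s' j) := by
        intro l
        have e := congrArg (S.f.val.app (op U')).hom (hb l)
        rw [app_rs S.f, hy l, rs_rs, map_sum] at e
        refine Eq.trans ?_ (e.trans (Finset.sum_congr rfl fun j _ => (S.f.val.app (op U')).hom.map_smul _ _))
        rw [rs_sum]
        refine Finset.sum_congr rfl fun i _ => ?_
        simp only [a, q', rs_smul', rr_rr, ← op_comp, Category.assoc]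
      let r₂ : K ⊕ K' → I ⊕ I' → O.obj.obj (op U') := Sum.elim
        (fun m => Sum.elim (fun j => rr O a.op (r m j)) 0)
        (fun l => Sum.elim (fun j => -b l j) fun i => rr O a.op (p l i))
      refine ⟨I ⊕ I', K ⊕ K', inferInstance, inferInstance, G, r₂, ?_, ⟨?_, ?_⟩⟩
      · intro V g t
        obtain ⟨E, hE, hE'⟩ := hq (g ≫ a) ((S.g.val.app (op V)).hom t)
        refine LSpan.of_cover hE fun W e he => ?_
        obtain ⟨c, hc⟩ := hE' e he
        let t₁ := rs ((forg O).obj S.X₂) e.op t - ∑ i, c i • rs ((forg O).obj S.X₂) (e ≫ g).op (q' i)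
        have ht₁ : (S.g.val.app (op W)).hom t₁ = 0 := by
          refine (map_sub _ _ _).trans (sub_eq_zero.2 ?_)
          refine ((app_rs S.g e.op t).trans hc).trans (Eq.trans ?_ (app_sum_smul S.g _ _ _).symm)
          refine Finset.sum_congr rfl fun i _ => congrArg (c i • ·) ?_
          refine Eq.trans ?_ ((app_rs S.g _ _).trans (congrArg _ (hq' i))).symm
          rw [rs_rs, ← op_comp, Category.assoc]
        have h₁ : LSpan G (e ≫ g) t₁ := by
          obtain ⟨F, hF, hF'⟩ := exists_lift_of_exact hS.exact t₁ ht₁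
          refine LSpan.of_cover hF fun Z f hf => ?_
          obtain ⟨w, hw⟩ := hF' f hf
          rw [← hw]
          refine (LSpan.map ((hs.restrict a) (f ≫ e ≫ g) w) S.f).trans _ fun Z' f' i => ?_
          exact LSpan.single (Sum.inl i)
        have h₂ : LSpan G (e ≫ g) (∑ i, c i • rs ((forg O).obj S.X₂) (e ≫ g).op (q' i)) :=
          LSpan.sum _ fun i _ => (LSpan.single (Sum.inr i)).smul (c i)
        simpa [t₁] using h₁.add h₂
      · rintro (m | l)
        · simp only [r₂, G, Sum.elim_inl, Fintype.sum_sum_type, Sum.elim_inr, Pi.zero_apply, zero_smul,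
            Finset.sum_const_zero, add_zero]
          exact (app_sum_smul S.f _ _ _).symm.trans
            ((congrArg _ ((hr.restrict a).zero m)).trans (map_zero _))
        · simp only [r₂, G, Sum.elim_inr, Fintype.sum_sum_type, Sum.elim_inl, neg_smul,
            Finset.sum_neg_distrib, hzl l, neg_add_cancel]
      · intro V g c hc
        have hc3 : ∑ i, c (Sum.inr i) • rs ((forg O).obj S.X₃) (g ≫ a).op (q i) = 0 := by
          refine Eq.trans ?_ ((congrArg (S.g.val.app (op V)).hom hc).trans (map_zero _))
          rw [map_sum, Fintype.sum_sum_type]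
          have h0 : ∀ j, (S.g.val.app (op V)).hom
              (c (Sum.inl j) • rs ((forg O).obj S.X₂) g.op (G (Sum.inl j))) = 0 := fun j => by
            refine ((S.g.val.app (op V)).hom.map_smul _ _).trans ?_
            rw [app_rs S.g]
            show c (Sum.inl j) • rs _ g.op ((S.g.val.app (op U')).hom ((S.f.val.app (op U')).hom (s' j))) = 0
            rw [app_comp_zero S.zero, rs_zero, smul_zero]
          rw [Finset.sum_eq_zero fun j _ => h0 j, zero_add]
          refine Finset.sum_congr rfl fun i _ => ?_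
          refine Eq.trans ?_ ((S.g.val.app (op V)).hom.map_smul _ _).symm
          refine congrArg (c (Sum.inr i) • ·) (Eq.trans ?_ ((app_rs S.g _ _).trans (congrArg _ (hq' i))).symm)
          rw [rs_rs, ← op_comp]
        obtain ⟨E, hE, hE'⟩ := hp.complete (g ≫ a) (fun i => c (Sum.inr i)) hc3
        have key₃ : ∀ ⦃W : C⦄ (e : W ⟶ V), E e → ∃ R ∈ J W, ∀ ⦃W' : C⦄ (e' : W' ⟶ W), R e' →
            ∃ d : K ⊕ K' → O.obj.obj (op W'), ∀ x, rr O (e' ≫ e).op (c x) =
              ∑ m, d m * rr O ((e' ≫ e) ≫ g).op (r₂ m x) := by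
          intro W e he
          obtain ⟨d, hd⟩ := hE' e he
          let c₁ : I → O.obj.obj (op W) := fun j =>
            rr O e.op (c (Sum.inl j)) + ∑ l, d l * rr O (e ≫ g).op (b l j)
          have hc₁ : ∑ j, c₁ j • rs ((forg O).obj S.X₁) (e ≫ g ≫ a).op (s j) = 0 := by
            apply injective_app S.f
            rw [map_zero]
            refine (app_sum_smul S.f _ _ _).trans ?_
            let σ : I → ((forg O).obj S.X₂).obj (op W) := fun j =>
              (S.f.val.app (op W)).hom (rs ((forg O).obj S.X₁) (e ≫ g ≫ a).op (s j))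
            have hσ : ∀ j, rs ((forg O).obj S.X₂) (e ≫ g).op ((S.f.val.app (op U')).hom (s' j)) = σ j :=
              fun j => by
                refine ((app_rs S.f _ _).symm).trans (congrArg _ ?_)
                rw [rs_rs, ← op_comp, Category.assoc]
            have e1 : ∀ l, ∑ j, rr O (e ≫ g).op (b l j) • σ j =
                ∑ i, rr O (e ≫ g ≫ a).op (p l i) • rs ((forg O).obj S.X₂) (e ≫ g).op (q' i) := fun l => by
              have h := congrArg (rs ((forg O).obj S.X₂) (e ≫ g).op) (hzl l)
              simp only [rs_sum, rs_smul', hσ, rr_rr, ← op_comp, Category.assoc] at h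
              exact h.symm
            have h := congrArg (rs ((forg O).obj S.X₂) e.op) hc
            rw [rs_sum, rs_zero, Fintype.sum_sum_type] at h
            simp only [rs_smul', rs_rs, ← op_comp, G, Sum.elim_inl, Sum.elim_inr, hσ, hd] at h
            refine Eq.trans ?_ h
            show ∑ j, c₁ j • σ j = _
            simp only [c₁, add_smul, Finset.sum_add_distrib, Finset.sum_smul, mul_smul]
            congr 1
            rw [Finset.sum_comm]
            conv_rhs => rw [Finset.sum_comm]
            refine Finset.sum_congr rfl fun l _ => ?_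
            rw [← Finset.smul_sum, ← Finset.smul_sum, e1]
          obtain ⟨R, hR, hR'⟩ := hr.complete (e ≫ g ≫ a) c₁ hc₁
          refine ⟨R, hR, fun W' e' he' => ?_⟩
          obtain ⟨d', hd'⟩ := hR' e' he'
          refine ⟨Sum.elim d' fun l => rr O e'.op (d l), fun x => ?_⟩
          rcases x with j | i
          · have h := hd' j
            simp only [c₁, map_add, map_sum, map_mul, rr_rr, ← op_comp, Category.assoc] at h
            simp only [r₂, Fintype.sum_sum_type, Sum.elim_inl, Sum.elim_inr, map_neg, mul_neg,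
              Finset.sum_neg_distrib, rr_rr, ← op_comp, Category.assoc]
            rw [← sub_eq_add_neg, ← h, add_sub_cancel_right]
          · have h := congrArg (rr O e'.op) (hd i)
            simp only [map_sum, map_mul, rr_rr, ← op_comp, Category.assoc] at h
            simp only [r₂, Fintype.sum_sum_type, Sum.elim_inl, Sum.elim_inr, Pi.zero_apply, map_zero,
              mul_zero, Finset.sum_const_zero, zero_add, rr_rr, ← op_comp, Category.assoc]
            exact h
        choose R hR hR' using key₃
        refine ⟨_, J.bind_covering hE hR, ?_⟩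
        rintro W' _ ⟨W, e', e, he, he', rfl⟩
        exact hR' e he e' he'
    choose R hR hR' using key₂
    refine ⟨_, J.bind_covering hA₀ hR, ?_⟩
    rintro U' _ ⟨U₂, k', k₂, hk₂, hk', rfl⟩
    exact hR' k₂ hk₂ k' hk'
  choose R hR hR' using key
  refine ⟨_, J.bind_covering hT hR, ?_⟩
  rintro U' _ ⟨U₁, k', k, hk, hk', rfl⟩
  exact hR' k hk k' hk'

end Groth.Agent.H8FSch
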