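import Groth.Agent.H8FSch.ExtInd
import Groth.Agent.H8FSch.ExtFP
import Groth.Agent.H8FSch.Compact
import Groth.Agent.H8FSch.AffineInd
import Groth.Agent.H8FSch.CohUnion
import Mathlib.Algebra.Homology.ExactSequence

/-!
# The five lemma for ind-coherent modules on a Noetherian formal scheme
-/

set_option autoImplicit false
set_option linter.style.haveILetI false
set_option linter.unusedSectionVars false

universe u

open CategoryTheory CategoryTheory.Limits AlgebraicGeometry TopologicalSpace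

namespace Groth.Agent.H8FSch

attribute [local instance 10000] H15Site.SiteInst.hasSheafifySite H15Site.SiteInst.hasWeakSheafifySite

theorem five_of_extension {B : Type*} [Category B] [Abelian B] {Q : ObjectProperty B}
    (hker : ∀ ⦃X Y : B⦄ (f : X ⟶ Y), Q X → Q Y → Q (kernel f))
    (hcok : ∀ ⦃X Y : B⦄ (f : X ⟶ Y), Q X → Q Y → Q (cokernel f))
    (hext : ∀ S : ShortComplex B, S.ShortExact → Q S.X₁ → Q S.X₃ → Q S.X₂)
    (S : ComposableArrows B 4) (hS : S.Exact)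
    (h₀ : Q (S.obj 0)) (h₁ : Q (S.obj 1)) (h₃ : Q (S.obj 3)) (h₄ : Q (S.obj 4)) : Q (S.obj 2) := by
  let T₀ := S.sc hS.toIsComplex 0
  let T₁ := S.sc hS.toIsComplex 1
  let T₂ := S.sc hS.toIsComplex 2
  have e₀ : T₀.Exact := hS.exact 0
  have e₁ : T₁.Exact := hS.exact 1
  have e₂ : T₂.Exact := hS.exact 2
  haveI := e₀.mono_cokernelDesc
  haveI := e₂.epi_kernelLift
  let a : cokernel T₀.f ⟶ T₁.X₂ := cokernel.desc T₀.f T₀.g T₀.zero
  let b : T₁.X₂ ⟶ kernel T₂.g := kernel.lift T₂.g T₂.f T₂.zero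
  have hab : a ≫ b = 0 := by
    refine coequalizer.hom_ext ((cancel_mono (kernel.ι T₂.g)).1 ?_)
    show (cokernel.π T₀.f ≫ a ≫ b) ≫ _ = (cokernel.π T₀.f ≫ 0) ≫ _
    rw [comp_zero, zero_comp, Category.assoc, Category.assoc, kernel.lift_ι, cokernel.π_desc_assoc]
    exact T₁.zero
  have hfb : T₁.f ≫ b = 0 := by
    refine (cancel_mono (kernel.ι T₂.g)).1 ?_
    rw [Category.assoc, zero_comp, kernel.lift_ι]
    exact T₁.zero
  let M := ShortComplex.mk T₁.f b hfb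
  let ψ : M ⟶ T₁ :=
    { τ₁ := 𝟙 _
      τ₂ := 𝟙 _
      τ₃ := kernel.ι T₂.g
      comm₁₂ := (Category.id_comp _).trans (Category.comp_id _).symm
      comm₂₃ := (Category.id_comp _).trans (kernel.lift_ι _ _ _).symm }
  let φ : M ⟶ ShortComplex.mk a b hab :=
    { τ₁ := cokernel.π T₀.f
      τ₂ := 𝟙 _
      τ₃ := 𝟙 _
      comm₁₂ := (cokernel.π_desc _ _ _).trans (Category.comp_id _).symm
      comm₂₃ := (Category.id_comp _).trans (Category.comp_id _).symm }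
  haveI : Epi ψ.τ₁ := inferInstanceAs (Epi (𝟙 _))
  haveI : IsIso ψ.τ₂ := inferInstanceAs (IsIso (𝟙 _))
  haveI : Mono ψ.τ₃ := inferInstanceAs (Mono (kernel.ι T₂.g))
  haveI : Epi φ.τ₁ := inferInstanceAs (Epi (cokernel.π T₀.f))
  haveI : IsIso φ.τ₂ := inferInstanceAs (IsIso (𝟙 _))
  haveI : Mono φ.τ₃ := inferInstanceAs (Mono (𝟙 _))
  exact hext (ShortComplex.mk a b hab)
    ⟨(ShortComplex.exact_iff_of_epi_of_isIso_of_mono φ).1
      ((ShortComplex.exact_iff_of_epi_of_isIso_of_mono ψ).2 e₁)⟩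
    (hcok _ h₀ h₁) (hker _ h₃ h₄)

variable {𝔛 : FSch.Sys.{u}} (hL : 𝔛.IsLocNoethFormal)

theorem prop_biprod {F G : FSch.ModF 𝔛 hL.1} (hF : ObjectProperty.ind.{u} (Coh 𝔛 hL.1) F)
    (hG : ObjectProperty.ind.{u} (Coh 𝔛 hL.1) G) : ObjectProperty.ind.{u} (Coh 𝔛 hL.1) (F ⊞ G) := by
  haveI := isLeftAdjoint_ι' hL
  haveI := Coreflect.isClosedUnderColimitsOfShape (Q := ObjectProperty.ind.{u} (Coh 𝔛 hL.1))
    (Discrete WalkingPair)
  refine (ObjectProperty.ind.{u} (Coh 𝔛 hL.1)).prop_of_iso (biprod.isoCoprod F G).symm ?_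
  exact ObjectProperty.prop_colimit _ (pair F G) fun j => match j with
    | ⟨WalkingPair.left⟩ => hF
    | ⟨WalkingPair.right⟩ => hG

theorem prop_of_shortExact [CompactSpace (𝔛.X 0)] (S : ShortComplex (FSch.ModF 𝔛 hL.1))
    (hS : S.ShortExact) (h₁ : ObjectProperty.ind.{u} (Coh 𝔛 hL.1) S.X₁)
    (h₃ : ObjectProperty.ind.{u} (Coh 𝔛 hL.1) S.X₃) :
    ObjectProperty.ind.{u} (Coh 𝔛 hL.1) S.X₂ := by
  haveI := H10Coh.isGrothendieckAbelian_sheafOfModules (ModSite.ringSh (𝔛.Osh hL.1))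
  haveI := essentiallySmall_coh 𝔛 hL.1
  haveI := hL.2.2 0
  haveI : AlgebraicGeometry.IsNoetherian (𝔛.X 0) := { }
  haveI : NoetherianSpace (𝔛.X 0) := inferInstance
  refine Coreflect.prop_extension_ind (exists_coh_zero 𝔛 hL.1) (coh_biprod 𝔛 hL.1)
    (fun _ _ f hX hY => coh_cokernel 𝔛 hL.1 f hX hY) (coveredKernels hL)
    (fun _ _ => prop_biprod hL) (fun _ _ f hX hY => prop_cokernel hL hX hY f) ?_ ?_ ?_ S hS h₁ h₃
  · intro X Y u hX hY
    obtain ⟨Λ, _, _, pres, hp⟩ := hY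
    exact isCohF_image hL pres.isColimit hp hX u
  · intro T hT hT₁ hT₃
    haveI : SheafOfModules.IsFinitePresentation (R := ModSite.ringSh (𝔛.Osh hL.1)) T.X₁ := hT₁
    haveI : SheafOfModules.IsFinitePresentation (R := ModSite.ringSh (𝔛.Osh hL.1)) T.X₃ := hT₃
    exact isFinitePresentation_of_shortExact T hT
  · intro X hX Λ _ _ D c hc φ
    haveI : SheafOfModules.IsFinitePresentation (R := ModSite.ringSh (𝔛.Osh hL.1)) X := hX
    exact exists_lift hc φ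

theorem prop_of_exact_five [CompactSpace (𝔛.X 0)] (S : ComposableArrows (FSch.ModF 𝔛 hL.1) 4)
    (hS : S.Exact)
    (h₀ : ObjectProperty.ind.{u} (Coh 𝔛 hL.1) (S.obj 0))
    (h₁ : ObjectProperty.ind.{u} (Coh 𝔛 hL.1) (S.obj 1))
    (h₃ : ObjectProperty.ind.{u} (Coh 𝔛 hL.1) (S.obj 3))
    (h₄ : ObjectProperty.ind.{u} (Coh 𝔛 hL.1) (S.obj 4)) :
    ObjectProperty.ind.{u} (Coh 𝔛 hL.1) (S.obj 2) :=
  five_of_extension (fun _ _ f hX hY => prop_kernel hL hX hY f)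
    (fun _ _ f hX hY => prop_cokernel hL hX hY f) (prop_of_shortExact hL) S hS h₀ h₁ h₃ h₄

end Groth.Agent.H8FSch
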