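import Groth.Agent.H15Site.LocPresOps

/-!
# Biproducts of finitely presented modules
-/

set_option autoImplicit false
set_option linter.style.haveILetI false
set_option backward.isDefEq.respectTransparency false

universe u

open CategoryTheory CategoryTheory.Limits Opposite

namespace Groth.Agent.H8FSch

open H15Site H15Site.LocGen H15Site.ModTensor H15Site.ModRel H15Site.LocPres

attribute [local instance 10000] SiteInst.hasSheafifySite SiteInst.hasWeakSheafifySite

variable {C : Type u} [SmallCategory C] {J : GrothendieckTopology C} {O : Sheaf J CommRingCat.{u}}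

/-- The biproduct of two finitely presented modules is finitely presented. -/
theorem isFinitePresentation_biprod (F G : ModSite.Mod O)
    [SheafOfModules.IsFinitePresentation (R := ModSite.ringSh O) F]
    [SheafOfModules.IsFinitePresentation (R := ModSite.ringSh O) G] :
    SheafOfModules.IsFinitePresentation (R := ModSite.ringSh O) (F ⊞ G) := by
  refine isFinitePresentation_of_lh (lh_mono (lh_and (lh_fp F) (lh_fp G) FP.res) ?_)
  rintro U ⟨⟨I, K, hI, hK, s, r, hs, hr⟩, I', K', hI', hK', s', r', hs', hr'⟩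
  let il : F ⟶ F ⊞ G := biprod.inl
  let ir : G ⟶ F ⊞ G := biprod.inr
  let fs : F ⊞ G ⟶ F := biprod.fst
  let sn : F ⊞ G ⟶ G := biprod.snd
  let σ : I ⊕ I' → ((forg O).obj (F ⊞ G)).obj (op U) :=
    Sum.elim (fun i => (il.val.app (op U)).hom (s i)) (fun i => (ir.val.app (op U)).hom (s' i))
  let ρ : K ⊕ K' → I ⊕ I' → O.obj.obj (op U) :=
    Sum.elim (fun k => Sum.elim (r k) 0) (fun k => Sum.elim 0 (r' k))
  refine ⟨I ⊕ I', K ⊕ K', inferInstance, inferInstance, σ, ρ, ?_, ⟨fun x => ?_, fun V g c hc => ?_⟩⟩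
  · intro V g t
    obtain ⟨S, hS, hS'⟩ := hs g ((fs.val.app (op V)).hom t)
    obtain ⟨T, hT, hT'⟩ := hs' g ((sn.val.app (op V)).hom t)
    refine ⟨S ⊓ T, J.intersection_covering hS hT, fun W a ha => ?_⟩
    obtain ⟨c, hc⟩ := hS' a ha.1
    obtain ⟨c', hc'⟩ := hT' a ha.2
    refine ⟨Sum.elim c c', ?_⟩
    have hdec : rs ((forg O).obj (F ⊞ G)) a.op t =
        (il.val.app (op W)).hom ((fs.val.app (op W)).hom (rs ((forg O).obj (F ⊞ G)) a.op t)) +
          (ir.val.app (op W)).hom ((sn.val.app (op W)).hom (rs ((forg O).obj (F ⊞ G)) a.op t)) :=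
      (congrArg (fun ψ : F ⊞ G ⟶ F ⊞ G => (ψ.val.app (op W)).hom (rs ((forg O).obj (F ⊞ G)) a.op t))
        (biprod.total (X := F) (Y := G))).symm
    rw [hdec, Fintype.sum_sum_type]
    refine congrArg₂ (· + ·) ?_ ?_
    · refine ((congrArg _ ((app_rs fs a.op t).trans hc)).trans (app_sum_smul il _ _ _)).trans ?_
      exact Finset.sum_congr rfl fun i _ => congrArg (c i • ·) (app_rs il (a ≫ g).op (s i))
    · refine ((congrArg _ ((app_rs sn a.op t).trans hc')).trans (app_sum_smul ir _ _ _)).trans ?_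
      exact Finset.sum_congr rfl fun i _ => congrArg (c' i • ·) (app_rs ir (a ≫ g).op (s' i))
  · have h1 : ∀ k, ∑ i, r k i • (il.val.app (op U)).hom (s i) = 0 := fun k =>
      ((app_sum_smul il _ _ _).symm.trans (congrArg _ (hr.zero k))).trans (map_zero _)
    have h2 : ∀ k, ∑ i, r' k i • (ir.val.app (op U)).hom (s' i) = 0 := fun k =>
      ((app_sum_smul ir _ _ _).symm.trans (congrArg _ (hr'.zero k))).trans (map_zero _)
    rcases x with k | k
    · simpa [σ, ρ, Fintype.sum_sum_type] using h1 k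
    · simpa [σ, ρ, Fintype.sum_sum_type] using h2 k
  · have e1 : ∀ z, (fs.val.app (op U)).hom ((il.val.app (op U)).hom z) = z := fun z =>
      congrArg (fun ψ : F ⟶ F => (ψ.val.app (op U)).hom z) (biprod.inl_fst (X := F) (Y := G))
    have e2 : ∀ z, (fs.val.app (op U)).hom ((ir.val.app (op U)).hom z) = 0 := fun z =>
      congrArg (fun ψ : G ⟶ F => (ψ.val.app (op U)).hom z) (biprod.inr_fst (X := F) (Y := G))
    have e3 : ∀ z, (sn.val.app (op U)).hom ((ir.val.app (op U)).hom z) = z := fun z =>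
      congrArg (fun ψ : G ⟶ G => (ψ.val.app (op U)).hom z) (biprod.inr_snd (X := F) (Y := G))
    have e4 : ∀ z, (sn.val.app (op U)).hom ((il.val.app (op U)).hom z) = 0 := fun z =>
      congrArg (fun ψ : F ⟶ G => (ψ.val.app (op U)).hom z) (biprod.inl_snd (X := F) (Y := G))
    have hc1 : ∑ i, c (Sum.inl i) • rs ((forg O).obj F) g.op (s i) = 0 := by
      have := (app_sum_smul fs Finset.univ c fun i => rs ((forg O).obj (F ⊞ G)) g.op (σ i)).symm.trans
        ((congrArg _ hc).trans (map_zero _))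
      simpa [σ, Fintype.sum_sum_type, app_rs, e1, e2, rs_zero] using this
    have hc2 : ∑ i, c (Sum.inr i) • rs ((forg O).obj G) g.op (s' i) = 0 := by
      have := (app_sum_smul sn Finset.univ c fun i => rs ((forg O).obj (F ⊞ G)) g.op (σ i)).symm.trans
        ((congrArg _ hc).trans (map_zero _))
      simpa [σ, Fintype.sum_sum_type, app_rs, e3, e4, rs_zero] using this
    obtain ⟨S, hS, hS'⟩ := hr.complete g _ hc1
    obtain ⟨T, hT, hT'⟩ := hr'.complete g _ hc2
    refine ⟨S ⊓ T, J.intersection_covering hS hT, fun W a ha => ?_⟩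
    obtain ⟨d, hd⟩ := hS' a ha.1
    obtain ⟨d', hd'⟩ := hT' a ha.2
    refine ⟨Sum.elim d d', fun x => ?_⟩
    rcases x with i | i
    · simpa [ρ, Fintype.sum_sum_type] using hd i
    · simpa [ρ, Fintype.sum_sum_type] using hd' i

end Groth.Agent.H8FSch
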