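import Groth.Agent.H15Site.SiteGenInst
import Groth.Agent.H15Site.LocPres

/-!
# Modules of finite type on a small site form an essentially small class
-/

set_option autoImplicit false
set_option linter.style.haveILetI false
set_option backward.isDefEq.respectTransparency false

universe u

open CategoryTheory CategoryTheory.Limits Opposite

namespace Groth.Agent.H8FSch

open H15Site H15Site.LocGen H15Site.ModTensor H15Site.ModRel

attribute [local instance 10000] SiteInst.hasSheafifySite SiteInst.hasWeakSheafifySite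

variable {C : Type u} [SmallCategory C] {J : GrothendieckTopology C} {O : Sheaf J CommRingCat.{u}}

/-- A fixed module of which all modules of finite type are quotients. -/
theorem exists_cover_finiteType :
    ∃ G₀ : ModSite.Mod O, ∀ F : ModSite.Mod O, SheafOfModules.IsFiniteType (R := ModSite.ringSh O) F →
      ∃ φ : G₀ ⟶ F, Epi φ := by
  haveI := H10Coh.isGrothendieckAbelian_sheafOfModules (ModSite.ringSh O)
  haveI : HasColimitsOfSize.{u, u} (ModSite.Mod O) := IsGrothendieckAbelian.hasColimits _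
  classical
  let Fam : C × ℕ → ModSite.Mod O := fun p => (SiteGenInst.freeModFunctor O).obj p.1
  refine ⟨∐ Fam, fun F hF => ?_⟩
  obtain ⟨ι, X, hX, h⟩ := (isFiniteType_iff F).1 hF
  choose n s hs using h
  let sec : ∀ p : C × ℕ, ((forg O).obj F).obj (op p.1) := fun p =>
    if hp : ∃ i, X i = p.1 then
      if hk : p.2 < n hp.choose then
        hp.choose_spec ▸ s hp.choose ⟨p.2, hk⟩
      else 0
    else 0
  have hsec : ∀ U : C, (∃ i, X i = U) → ∃ (m : ℕ) (t : Fin m → ((forg O).obj F).obj (op U)),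
      Gen t ∧ ∀ k : Fin m, t k = sec (U, k) := by
    intro U hU
    refine ⟨n hU.choose, fun k => hU.choose_spec ▸ s hU.choose k, ?_, fun k => ?_⟩
    · have key : ∀ (V : C) (e : X hU.choose = V), Gen (fun k => e ▸ s hU.choose k) := by
        rintro V rfl; exact hs _
      exact key U hU.choose_spec
    · simp only [sec, dif_pos hU]
      rw [dif_pos k.2]
  let φ : ∐ Fam ⟶ F := Sigma.desc fun p => (SiteGenInst.eMod O p.1 F).symm (sec p)
  refine ⟨φ, (epi_iff_locSurj φ).2 fun V t => ?_⟩
  choose m τ hτ hτ' using hsec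
  have hloc : ∀ ⦃W : C⦄ (h : W ⟶ V), (Sieve.ofObjects X V) h →
      ∃ S ∈ J W, ∀ ⦃W' : C⦄ (a : W' ⟶ W), S a → ∃ z : ((forg O).obj (∐ Fam)).obj (op W'),
        (φ.val.app (op W')).hom z = rs ((forg O).obj F) (a ≫ h).op t := by
    intro W h hh
    obtain ⟨i, ⟨g⟩⟩ := (Sieve.mem_ofObjects_iff ..).1 hh
    obtain ⟨S, hS, hS'⟩ := hτ (X i) ⟨i, rfl⟩ g (rs ((forg O).obj F) h.op t)
    refine ⟨S, hS, fun W' a ha => ?_⟩
    obtain ⟨r, hr⟩ := hS' a ha
    let σ : ∀ k : Fin (m (X i) ⟨i, rfl⟩), ((forg O).obj (∐ Fam)).obj (op (X i)) := fun k =>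
      SiteGenInst.eMod O (X i) (∐ Fam) (Sigma.ι Fam (X i, k.1))
    have hσ : ∀ k, (φ.val.app (op (X i))).hom (σ k) = τ (X i) ⟨i, rfl⟩ k := fun k => by
      have := SiteGenInst.eMod_naturality_right O (Sigma.ι Fam (X i, k.1)) φ
      rw [show Sigma.ι Fam (X i, k.1) ≫ φ = (SiteGenInst.eMod O (X i) F).symm (sec (X i, k.1)) from
        Sigma.ι_desc _ _, Equiv.apply_symm_apply] at this
      rw [hτ' (X i) ⟨i, rfl⟩ k, this]
      rfl
    refine ⟨∑ k, r k • rs ((forg O).obj (∐ Fam)) (a ≫ g).op (σ k), ?_⟩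
    rw [rs_rs ((forg O).obj F), ← op_comp] at hr
    refine Eq.trans ?_ hr.symm
    rw [map_sum]
    refine Finset.sum_congr rfl fun k _ => ?_
    rw [map_smul, ← hσ k]
    exact congrArg (r k • ·) (rs_app ((forg O).map φ) (a ≫ g).op (σ k))
  choose S hS hS' using hloc
  refine ⟨Sieve.bind (Sieve.ofObjects X V).arrows (fun W h hh => S h hh),
    J.bind_covering (hX V) hS, ?_⟩
  rintro W _ ⟨Z, a, h, hh, ha, rfl⟩
  exact hS' h hh a ha

/-- Modules of finite type form an essentially small class. -/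
theorem essentiallySmall_of_finiteType (P : ObjectProperty (ModSite.Mod O))
    (hP : ∀ F, P F → SheafOfModules.IsFiniteType (R := ModSite.ringSh O) F) :
    ObjectProperty.EssentiallySmall.{u} P := by
  haveI := H10Coh.isGrothendieckAbelian_sheafOfModules (ModSite.ringSh O)
  obtain ⟨G₀, hG₀⟩ := exists_cover_finiteType (O := O)
  let Q : ObjectProperty (ModSite.Mod O) :=
    .ofObj fun K : Subobject G₀ => cokernel K.arrow
  refine ObjectProperty.EssentiallySmall.of_le (Q := Q.isoClosure) fun F hF => ?_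
  obtain ⟨φ, hφ⟩ := hG₀ F (hP F hF)
  refine ⟨_, ObjectProperty.ofObj_apply _ (kernelSubobject φ), ⟨?_⟩⟩
  haveI := hφ
  exact ((Abelian.epiIsCokernelOfKernel _ (kernelIsKernel φ)).coconePointUniqueUpToIso
    (cokernelIsCokernel _)) ≪≫
    (cokernelEpiComp (kernelSubobjectIso φ).hom (kernel.ι φ)).symm ≪≫
      cokernelIsoOfEq (kernelSubobject_arrow φ)

end Groth.Agent.H8FSch
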