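import Groth.Agent.H8FSch.Coreflect
import Groth.Agent.H8FSch.Small
import Groth.Agent.H8FSch.Biprod
import Groth.Agent.H24FMod.Free
import Groth.Prelude.Def_FSch5

/-!
# The coreflection onto ind-coherent modules of a formal scheme
-/

set_option autoImplicit false
set_option linter.style.haveILetI false

universe u

open CategoryTheory CategoryTheory.Limits Opposite

namespace Groth.Agent.H8FSch

attribute [local instance 10000] H15Site.SiteInst.hasSheafifySite H15Site.SiteInst.hasWeakSheafifySite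

variable (𝔛 : FSch.Sys.{u}) (h : 𝔛.IsFormal)

/-- Coherent modules, as an object property. -/
abbrev Coh : ObjectProperty (FSch.ModF 𝔛 h) := fun 𝔊 => FSch.IsCohF 𝔛 h 𝔊

instance : (Coh 𝔛 h).IsClosedUnderIsomorphisms :=
  ⟨fun e hX => (SheafOfModules.isFinitePresentation (ModSite.ringSh (𝔛.Osh h))).prop_of_iso e hX⟩

theorem coh_cokernel {F G : FSch.ModF 𝔛 h} (θ : F ⟶ G) (hF : Coh 𝔛 h F) (hG : Coh 𝔛 h G) :
    Coh 𝔛 h (cokernel θ) := by
  haveI : SheafOfModules.IsFinitePresentation (R := ModSite.ringSh (𝔛.Osh h)) F := hF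
  haveI : SheafOfModules.IsFinitePresentation (R := ModSite.ringSh (𝔛.Osh h)) G := hG
  exact H15Site.LocPres.isFinitePresentation_cokernel θ

theorem coh_biprod (F G : FSch.ModF 𝔛 h) (hF : Coh 𝔛 h F) (hG : Coh 𝔛 h G) : Coh 𝔛 h (F ⊞ G) := by
  haveI : SheafOfModules.IsFinitePresentation (R := ModSite.ringSh (𝔛.Osh h)) F := hF
  haveI : SheafOfModules.IsFinitePresentation (R := ModSite.ringSh (𝔛.Osh h)) G := hG
  exact isFinitePresentation_biprod F G

theorem exists_coh_zero : ∃ Z : FSch.ModF 𝔛 h, IsZero Z ∧ Coh 𝔛 h Z := by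
  have hU : Coh 𝔛 h (SheafOfModules.unit (ModSite.ringSh (𝔛.Osh h))) := H24FMod.isFinitePresentation_unit
  refine ⟨cokernel (𝟙 (SheafOfModules.unit (ModSite.ringSh (𝔛.Osh h)))), isZero_cokernel_of_epi _, ?_⟩
  exact coh_cokernel 𝔛 h _ hU hU

theorem essentiallySmall_coh : ObjectProperty.EssentiallySmall.{u} (Coh 𝔛 h) :=
  essentiallySmall_of_finiteType _ fun F hF => by
    haveI : SheafOfModules.IsFinitePresentation (R := ModSite.ringSh (𝔛.Osh h)) F := hF
    infer_instance

theorem isLeftAdjoint_ι (hker : Coreflect.CoveredKernels (Coh 𝔛 h)) :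
    (ObjectProperty.ind.{u} (Coh 𝔛 h)).ι.IsLeftAdjoint := by
  haveI := H10Coh.isGrothendieckAbelian_sheafOfModules (ModSite.ringSh (𝔛.Osh h))
  haveI := essentiallySmall_coh 𝔛 h
  exact Coreflect.isLeftAdjoint_ι (exists_coh_zero 𝔛 h) (coh_biprod 𝔛 h)
    (fun _ _ f hX hY => coh_cokernel 𝔛 h f hX hY) hker

end Groth.Agent.H8FSch
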