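import Groth.Agent.H24FMod.Kernel
import Groth.Agent.H15Site.LocHom
import Groth.Agent.H15Site.LocPresOps
import Groth.Agent.H8FSch.IndCoh

/-!
# Kernels of morphisms from coherent modules to filtered colimits of coherent modules

On a locally Noetherian formal scheme the kernel of a morphism from a coherent module to a filtered
colimit of coherent modules is coherent: over an affine open the kernels at the finite stages form a
filtered family of submodules of a finite module over a Noetherian ring, so they stabilize.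
-/

set_option autoImplicit false
set_option linter.style.haveILetI false
set_option linter.unusedSectionVars false
universe u

open CategoryTheory CategoryTheory.Limits AlgebraicGeometry TopologicalSpace Opposite TensorProduct

namespace Groth.Agent.H8FSch

open H15Site.ModTensor H15Site.ModRel H15Site.LocGen H15Site.LocPres H24FMod

attribute [local instance 10000] H15Site.SiteInst.hasSheafifySite H15Site.SiteInst.hasWeakSheafifySite

variable {𝔛 : FSch.Sys.{u}} (hL : 𝔛.IsLocNoethFormal) {𝔉 : FSch.ModF 𝔛 hL.1}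
  {Λ : Type u} [SmallCategory Λ] [IsFiltered Λ] {D : Λ ⥤ FSch.ModF 𝔛 hL.1} {c : Cocone D}
  (hc : IsColimit c) (hD : ∀ i, FSch.IsCohF 𝔛 hL.1 (D.obj i)) (u : 𝔉 ⟶ c.pt)
  {A : (𝔛.X 0).Opens}

set_option backward.isDefEq.respectTransparency false in
include hc hD in
/-- Over an affine open where the generators of the source lift to a stage, the kernel is generated
by finitely many sections. -/
theorem fg_kernel_of_rep (hA : IsAffineOpen A) {I : Type u} [Fintype I] (x : I → Sec hL.1 𝔉 A)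
    (hx : Gen x) {i₀ : Λ} (y : I → Sec hL.1 (D.obj i₀) A)
    (hy : ∀ i, secMap (c.ι.app i₀) A (y i) = secMap u A (x i)) : FG (kernel u) A := by
  obtain ⟨-, hN, -, -⟩ := exists_adic hL hA
  haveI := hN
  let K : ∀ {k : Λ}, (i₀ ⟶ k) → Submodule (OSec hL.1 A) (I → OSec hL.1 A) := fun {k} f =>
    LinearMap.ker (Fintype.linearCombination (OSec hL.1 A) fun i => secMap (D.map f) A (y i))
  have hK : ∀ {k : Λ} (f : i₀ ⟶ k) (a : I → OSec hL.1 A),
      a ∈ K f ↔ ∑ i, a i • secMap (D.map f) A (y i) = 0 := fun f a => by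
    simp only [K, LinearMap.mem_ker, Fintype.linearCombination_apply]
  have hKmono : ∀ {k l : Λ} (f : i₀ ⟶ k) (a : k ⟶ l), K f ≤ K (f ≫ a) := fun {k l} f a v hv => by
    rw [hK] at hv ⊢
    refine Eq.trans (Finset.sum_congr rfl fun i _ => congrArg (v i • ·) ?_)
      ((app_sum_smul (D.map a) _ _ _).symm.trans ((congrArg _ hv).trans (map_zero _)))
    exact congrArg (fun t : D.obj i₀ ⟶ D.obj l => (t.val.app (op A)).hom (y i)) (D.map_comp f a)
  obtain ⟨_, ⟨⟨k₀, f₀⟩, rfl⟩, hmax⟩ := set_has_maximal_iff_noetherian.2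
    (inferInstance : IsNoetherian (OSec hL.1 A) (I → OSec hL.1 A))
    (Set.range fun p : Σ k, i₀ ⟶ k => K p.2) ⟨_, ⟨i₀, 𝟙 i₀⟩, rfl⟩
  have habs : ∀ {j : Λ} (f : i₀ ⟶ j), ∃ (k : Λ) (a : j ⟶ k), K (f ≫ a) = K f₀ := fun {j} f => by
    obtain ⟨k, a, b, hab⟩ := IsFiltered.span f f₀
    refine ⟨k, a, (eq_of_le_of_not_lt (hab ▸ hKmono f₀ b) ?_).symm⟩
    exact fun h => hmax _ ⟨⟨k, f ≫ a⟩, rfl⟩ h
  obtain ⟨M, q, hq⟩ := Submodule.fg_iff_exists_fin_generating_family.1 (IsNoetherian.noetherian (K f₀))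
  let z : ULift.{u} (Fin M) → Sec hL.1 𝔉 A := fun m => ∑ i, q m.down i • x i
  have hz : ∀ m, (u.val.app (op A)).hom (z m) = 0 := fun m => by
    have h1 := (hK f₀ (q m.down)).1 (hq ▸ Submodule.subset_span ⟨m.down, rfl⟩)
    refine (app_sum_smul u _ _ _).trans (Eq.trans (Finset.sum_congr rfl fun i _ =>
      congrArg (q m.down i • ·) ?_) ((app_sum_smul (c.ι.app k₀) _ _ _).symm.trans
        ((congrArg _ h1).trans (map_zero _))))
    refine (hy i).symm.trans ?_
    exact (congrArg (fun t : D.obj i₀ ⟶ c.pt => (t.val.app (op A)).hom (y i)) (c.w f₀)).symm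
  choose s hs using fun m => exists_kerSec u (z m) (hz m)
  refine ⟨ULift.{u} (Fin M), inferInstance, s, fun V g t => ?_⟩
  show LSpan s g t
  let t' : Sec hL.1 𝔉 V := secMap (kernel.ι u) V t
  obtain ⟨S, hS, hS'⟩ := hx g t'
  refine LSpan.of_cover hS fun W h hh => ?_
  obtain ⟨a, ha⟩ := hS' h hh
  let w : Sec hL.1 (D.obj i₀) W :=
    ∑ i, a i • rs ((forg (𝔛.Osh hL.1)).obj (D.obj i₀)) (h ≫ g).op (y i)
  have hw : ((c.ι.app i₀).val.app (op W)).hom w = 0 := by
    refine (app_sum_smul (c.ι.app i₀) _ _ _).trans ?_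
    refine Eq.trans (Finset.sum_congr rfl fun i _ => congrArg (a i • ·)
      ((app_rs (c.ι.app i₀) _ _).trans ((congrArg _ (hy i)).trans (app_rs u _ _).symm))) ?_
    refine (app_sum_smul u _ _ _).symm.trans ((congrArg _ ha.symm).trans ?_)
    refine (app_rs u _ _).trans ((congrArg _ ?_).trans (rs_zero _ _))
    exact app_comp_zero (kernel.condition u) t
  obtain ⟨S₁, hS₁, hS₁'⟩ := H15Site.ColimSect.exists_local_zero hc w hw
  refine LSpan.of_cover hS₁ fun W₁ h₁ hh₁ => ?_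
  obtain ⟨j, f, hf⟩ := hS₁' h₁ hh₁
  refine LSpan.of_cover (affSieve_mem W₁) fun Z h₂ hh₂ => ?_
  obtain ⟨B, hB, hZB, hBW⟩ := hh₂
  obtain ⟨k, e, hKe⟩ := habs f
  let p : B ⟶ W₁ := homOfLE hBW
  let l : B ⟶ A := p ≫ h₁ ≫ h ≫ g
  let b : I → OSec hL.1 B := fun i => rr (𝔛.Osh hL.1) (p ≫ h₁).op (a i)
  let Y : I → Sec hL.1 (D.obj k) A := fun i => secMap (D.map (f ≫ e)) A (y i)
  have hb : ∑ i, b i • rsF hL (D.obj k) l (Y i) = 0 := by
    have h1 : secMap (D.map (f ≫ e)) W₁ (rs ((forg (𝔛.Osh hL.1)).obj (D.obj i₀)) h₁.op w) = 0 := by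
      refine (congrArg (fun t : D.obj i₀ ⟶ D.obj k => (t.val.app (op W₁)).hom _) (D.map_comp f e)).trans ?_
      exact (congrArg ((D.map e).val.app (op W₁)).hom hf).trans (map_zero _)
    have h2 := (congrArg (rs ((forg (𝔛.Osh hL.1)).obj (D.obj k)) p.op) h1).trans (rs_zero _ _)
    refine Eq.trans ?_ ((app_rs (D.map (f ≫ e)) _ _).trans h2)
    refine Eq.trans ?_ (congrArg _ (rs_rs _ _ _ _).symm)
    refine Eq.trans ?_ (congrArg _ (rs_sum _ _ _ _).symm)
    refine Eq.trans ?_ (map_sum _ _ _).symm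
    refine Finset.sum_congr rfl fun i _ => ?_
    rw [rs_smul', rs_rs]
    refine Eq.trans ?_ (((D.map (f ≫ e)).val.app (op B)).hom.map_smul _ _).symm
    refine congrArg (_ • ·) ?_
    exact (app_rs (D.map (f ≫ e)) _ _).symm.trans
      (congrArg (fun z => ((D.map (f ≫ e)).val.app (op B)).hom (rs _ z (y i))) (Subsingleton.elim _ _))
  letI := (rsO hL l).toAlgebra
  haveI : Module.Flat (OSec hL.1 A) (OSec hL.1 B) := flat_rsO hL hA hB l
  obtain ⟨d, hd⟩ := flat_rel_comb Y (fun m : ULift.{u} (Fin M) => q m.down)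
    (fun m => (hK _ _).1 (hKe ▸ hq ▸ Submodule.subset_span ⟨m.down, rfl⟩))
    (fun v hv => by
      have h1 : v ∈ Submodule.span (OSec hL.1 A) (Set.range q) := hq ▸ hKe ▸ (hK _ _).2 hv
      obtain ⟨d, hd⟩ := (Submodule.mem_span_range_iff_exists_fun _).1 h1
      refine ⟨fun m => d m.down, fun i => ?_⟩
      rw [← hd, Finset.sum_apply]
      exact (Equiv.ulift.sum_comp fun m => d m * q m i).symm)
    b ((bijective_bcMap hL (hD k) hA hB l).1 (by rw [map_sum, map_zero]; exact hb))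
  have key : rs ((forg (𝔛.Osh hL.1)).obj (kernel u)) (p ≫ h₁ ≫ h).op t =
      ∑ m, d m • rs ((forg (𝔛.Osh hL.1)).obj (kernel u)) l.op (s m) := by
    apply injective_app (kernel.ι u)
    refine Eq.trans ?_ (app_sum_smul (kernel.ι u) _ _ _).symm
    refine (app_rs (kernel.ι u) _ t).trans ?_
    have e1 : rs ((forg (𝔛.Osh hL.1)).obj 𝔉) (p ≫ h₁ ≫ h).op t' =
        ∑ i, b i • rs ((forg (𝔛.Osh hL.1)).obj 𝔉) l.op (x i) := by
      rw [show (p ≫ h₁ ≫ h).op = h.op ≫ (p ≫ h₁).op from Subsingleton.elim _ _, ← rs_rs]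
      refine (congrArg _ ha).trans ((rs_sum _ _ _ _).trans (Finset.sum_congr rfl fun i _ => ?_))
      rw [rs_smul', rs_rs]
      exact congrArg (fun z => b i • rs _ z (x i)) (Subsingleton.elim _ _)
    refine e1.trans ?_
    refine Eq.trans (b := ∑ i, ∑ m : ULift.{u} (Fin M),
        (d m * algebraMap (OSec hL.1 A) (OSec hL.1 B) (q m.down i)) •
          rs ((forg (𝔛.Osh hL.1)).obj 𝔉) l.op (x i))
      (Finset.sum_congr rfl fun i _ => ?_) (Eq.trans Finset.sum_comm (Finset.sum_congr rfl fun m _ => ?_))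
    · exact (congrArg (· • rs ((forg (𝔛.Osh hL.1)).obj 𝔉) l.op (x i)) (hd i)).trans Finset.sum_smul
    · refine Eq.trans ?_ (congrArg (d m • ·) ((app_rs (kernel.ι u) _ _).trans (congrArg _ (hs m))).symm)
      refine Eq.trans ?_ (congrArg (d m • ·) (rs_sum _ _ _ _).symm)
      refine Eq.trans ?_ Finset.smul_sum.symm
      refine Finset.sum_congr rfl fun i _ => ?_
      exact ((congrArg (d m • ·) (rs_smul' _ _ _ _)).trans (smul_smul _ _ _)).symm
  rw [rs_rs, rs_rs]
  have hres := (LSpan.sum_smul (s := s) (g := l) d).res (homOfLE hZB)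
  rw [← key, rs_rs] at hres
  have hfix : ∀ (g₁ g₂ : Z ⟶ A) (q₁ q₂ : op V ⟶ op Z),
      LSpan s g₁ (rs ((forg (𝔛.Osh hL.1)).obj (kernel u)) q₁ t) →
        LSpan s g₂ (rs ((forg (𝔛.Osh hL.1)).obj (kernel u)) q₂ t) := fun g₁ g₂ q₁ q₂ hh => by
    rwa [Subsingleton.elim g₂ g₁, Subsingleton.elim q₂ q₁]
  exact hfix _ _ _ _ hres

include hc hD in
theorem isFiniteType_kernel_colim (h𝔉 : FSch.IsCohF 𝔛 hL.1 𝔉) :
    SheafOfModules.IsFiniteType (R := ModSite.ringSh (𝔛.Osh hL.1)) (kernel u) := by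
  classical
  haveI : SheafOfModules.IsFinitePresentation (R := ModSite.ringSh (𝔛.Osh hL.1)) 𝔉 := h𝔉
  haveI : SheafOfModules.IsFiniteType (R := ModSite.ringSh (𝔛.Osh hL.1)) 𝔉 := inferInstance
  refine isFiniteType_of_lh (lh_bind (lh_fg 𝔉) ?_)
  rintro U ⟨I, hI, x, hx⟩
  choose S hS hS' using fun i => H15Site.ColimSect.exists_local_rep hc (secMap u U (x i))
  obtain ⟨T, hT, hle⟩ := exists_common S hS
  let R : Sieve U :=
    { arrows := fun Z _ => ∃ B : (𝔛.X 0).Opens, IsAffineOpen B ∧ Z ≤ B ∧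
        ∃ h : B ⟶ U, T h
      downward_closed := fun {Z Z'} _ hh g => by
        obtain ⟨B, hB, h1, h2⟩ := hh
        exact ⟨B, hB, (leOfHom g).trans h1, h2⟩ }
  refine ⟨R, fun v hv => ?_, fun Z g hg => ?_⟩
  · obtain ⟨W, h, hh, hvW⟩ := hT v hv
    obtain ⟨B, hB, hvB, hle'⟩ := exists_isAffineOpen_mem_and_subset (x := v) (U := W) hvW
    exact ⟨B, homOfLE hle' ≫ h, ⟨B, hB, le_rfl, _, T.downward_closed hh (homOfLE hle')⟩, hvB⟩
  · obtain ⟨B, hB, hZB, h, hh⟩ := hg
    choose st y hy using fun i => hS' i h (hle i _ hh)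
    obtain ⟨i₀, hi₀⟩ := IsFiltered.sup_objs_exists (Finset.univ.image st)
    let f : ∀ i, st i ⟶ i₀ := fun i =>
      (hi₀ (Finset.mem_image.2 ⟨i, Finset.mem_univ i, rfl⟩)).some
    refine FG.res (homOfLE hZB) (fg_kernel_of_rep hL hc hD u hB
      (fun i => rs ((forg (𝔛.Osh hL.1)).obj 𝔉) h.op (x i)) (hx.restrict h)
      (fun i => secMap (D.map (f i)) B (y i)) fun i => ?_)
    refine (congrArg (fun t : D.obj (st i) ⟶ c.pt => (t.val.app (op B)).hom (y i)) (c.w (f i))).trans ?_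
    exact (hy i).trans (app_rs u _ _).symm

include hc hD in
/-- The kernel of a morphism from a coherent module to a filtered colimit of coherent modules is
coherent. -/
theorem isCohF_kernel_colim (h𝔉 : FSch.IsCohF 𝔛 hL.1 𝔉) : FSch.IsCohF 𝔛 hL.1 (kernel u) := by
  haveI : SheafOfModules.IsFinitePresentation (R := ModSite.ringSh (𝔛.Osh hL.1)) 𝔉 := h𝔉
  haveI := isFiniteType_kernel_colim hL hc hD u h𝔉
  have h1 : FSch.IsCohF 𝔛 hL.1 (cokernel (kernel.ι u)) :=
    isFinitePresentation_cokernel (kernel.ι u)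
  exact (SheafOfModules.isFinitePresentation (ModSite.ringSh (𝔛.Osh hL.1))).prop_of_iso
    ((Abelian.monoIsKernelOfCokernel _ (cokernelIsCokernel (kernel.ι u))).conePointUniqueUpToIso
      (kernelIsKernel (cokernel.π (kernel.ι u)))).symm
    (isCohF_kernel hL h𝔉 h1 (cokernel.π (kernel.ι u)))

theorem coveredKernels : Coreflect.CoveredKernels (Coh 𝔛 hL.1) := by
  intro X Y hX hY u T t ht
  obtain ⟨J, _, _, pres, hp⟩ := hY
  exact (Category.id_comp t).symm.trans
    (ht _ (isCohF_kernel_colim hL pres.isColimit hp u hX) (𝟙 _))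

theorem isLeftAdjoint_ι' : (ObjectProperty.ind.{u} (Coh 𝔛 hL.1)).ι.IsLeftAdjoint :=
  isLeftAdjoint_ι 𝔛 hL.1 (coveredKernels hL)

end Groth.Agent.H8FSch
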