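import Groth.Agent.H15Site.LocFP
import Groth.Agent.H14QCohFP.Main

/-!
# Maps out of free modules on a slice site given by sections over the terminal object
-/

set_option autoImplicit false
set_option linter.style.haveILetI false
set_option backward.isDefEq.respectTransparency false
universe u

open CategoryTheory CategoryTheory.Limits Opposite

namespace Groth.Agent.H8FSch

open H15Site.ModTensor H15Site.ModRel H15Site.LocGen H15Site.LocFP

attribute [local instance 10000] H15Site.SiteInst.hasSheafifySite H15Site.SiteInst.hasWeakSheafifySite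

variable {C : Type u} [SmallCategory C] {J : GrothendieckTopology C} {O : Sheaf J CommRingCat.{u}}
  {U : C} {N : ModSite.Mod (O.over U)}

/-- The map to the terminal object of the slice. -/
abbrev toTop (W : Over U) : W ⟶ Over.mk (𝟙 U) :=
  Over.homMk (V := Over.mk (𝟙 U)) W.hom (Category.comp_id _)

/-- A section over the terminal object, as a global section. -/
noncomputable def topSection (x : ((forg (O.over U)).obj N).obj (op (Over.mk (𝟙 U)))) : N.sections :=
  PresheafOfModules.sectionsMk (fun W => rs ((forg (O.over U)).obj N) (toTop W.unop).op x)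
    fun W W' a => by
      show rs ((forg (O.over U)).obj N) a (rs ((forg (O.over U)).obj N) (toTop W.unop).op x) = _
      rw [rs_rs]
      exact congrArg (fun q => rs ((forg (O.over U)).obj N) q x)
        (Quiver.Hom.unop_inj (Over.OverMorphism.ext (Over.w a.unop)))

/-- The map out of a free module given by sections over the terminal object. -/
noncomputable def topMor {K : Type u} (ρ : K → ((forg (O.over U)).obj N).obj (op (Over.mk (𝟙 U)))) :
    fr' O U K ⟶ N :=
  N.freeHomEquiv.symm fun k => topSection (ρ k)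

theorem topMor_e {K : Type u} (ρ : K → ((forg (O.over U)).obj N).obj (op (Over.mk (𝟙 U)))) (k : K)
    {W : Over U} (r : O.obj.obj (op W.left)) :
    ((topMor ρ).val.app (op W)).hom (e k r) =
      (r • rs ((forg (O.over U)).obj N) (toTop W).op (ρ k) : ((forg (O.over U)).obj N).obj (op W)) := by
  have h : SheafOfModules.ιFree k ≫ topMor ρ = N.unitHomEquiv.symm (topSection (ρ k)) := by
    rw [← SheafOfModules.unitHomEquiv_symm_freeHomEquiv_apply, topMor, Equiv.apply_symm_apply]
  show ((SheafOfModules.ιFree k ≫ topMor ρ).val.app (op W)).hom r = _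
  rw [h]
  rfl

section Relations

open H15Site.LocPres

variable {F : ModSite.Mod O} {I : Type u} (s : I → ((forg O).obj F).obj (op U))

/-- If the relations among finitely many of the generators are locally combinations of relations
over `U`, then the relations over `U` generate all relations. -/
theorem epi_relations_of_local
    (hqc : ∀ Y : C, ∃ S ∈ J Y, ∀ ⦃W : C⦄ (g : W ⟶ Y), S g →
      ∃ (B : C) (b : W ⟶ B) (q : B ⟶ Y), H15Site.CoprodSect.QcObj J B ∧ b ≫ q = g)
    (hrel : ∀ (P : Finset I) {B : C} (l : B ⟶ U) (a : I → O.obj.obj (op B)),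
      ∑ p : {p // p ∈ P}, a p.1 • rs ((forg O).obj F) l.op (s p.1) = 0 →
      ∃ S ∈ J B, ∀ ⦃Z : C⦄ (h : Z ⟶ B), S h →
        ∃ (M : Type u) (_ : Fintype M) (r : M → {p // p ∈ P} → O.obj.obj (op U))
          (d : M → O.obj.obj (op Z)), (∀ m, ∑ p, r m p • s p.1 = 0) ∧
            ∀ p : {p // p ∈ P}, rr O h.op (a p.1) = ∑ m, d m * rr O (h ≫ l).op (r m p)) :
    Epi (topMor (N := kernel (genMor s))
      (K := ((forg (O.over U)).obj (kernel (genMor s))).obj (op (Over.mk (𝟙 U)))) id) := by
  classical
  rw [epi_iff_locSurj]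
  intro V y
  obtain ⟨T, hT, hT'⟩ := hqc V.left
  choose B b q hB hbq using hT'
  have hz : ∀ ⦃W : C⦄ (g : W ⟶ V.left) (hg : T g),
      ∃ (P : Finset I) (a : I → O.obj.obj (op (B g hg))),
        ((kernel.ι (genMor s)).val.app (op (Over.mk (q g hg ≫ V.hom)))).hom
          (rs ((forg (O.over U)).obj (kernel (genMor s)))
            (Over.homMk (q g hg) : Over.mk (q g hg ≫ V.hom) ⟶ V).op y) =
          ∑ p ∈ P, e (W := Over.mk (q g hg ≫ V.hom)) p (a p) := fun W g hg =>
    H14QCohFP.exists_e_combination (H14QCohFP.qcObj_over (q g hg ≫ V.hom) (hB g hg)) _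
  choose P a hza using hz
  have hab : ∀ ⦃W : C⦄ (g : W ⟶ V.left) (hg : T g), ∑ p : {p // p ∈ P g hg},
      a g hg p.1 • rs ((forg O).obj F) (q g hg ≫ V.hom).op (s p.1) = 0 := by
    intro W g hg
    have h0 := app_comp_zero (kernel.condition (genMor s))
      (rs ((forg (O.over U)).obj (kernel (genMor s)))
        (Over.homMk (q g hg) : Over.mk (q g hg ≫ V.hom) ⟶ V).op y)
    rw [hza g hg, map_sum, ← Finset.sum_coe_sort (P g hg)] at h0
    refine Eq.trans (Finset.sum_congr rfl fun p _ => ?_) h0
    exact (genMor_e (W := Over.mk (q g hg ≫ V.hom)) s p.1 (a g hg p.1)).symm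
  choose S hS hS' using fun W (g : W ⟶ V.left) (hg : T g) => hrel (P g hg) _ (a g hg) (hab g hg)
  refine ⟨(Sieve.overEquiv _).symm (Sieve.bind T.arrows fun W g hg => (S W g hg).pullback (b g hg)),
    (J.mem_over_iff _).2 (by
      simpa using J.bind_covering hT fun W g hg => J.pullback_stable (b g hg) (hS W g hg)),
    fun Z c hc => ?_⟩
  obtain ⟨W, h, g, hg, hh, hfac⟩ := (Sieve.overEquiv_symm_iff _ c).1 hc
  obtain ⟨M, hM, r, d, hr0, hd⟩ := hS' W g hg (h ≫ b g hg) hh
  have hsum : ∀ m, ((genMor s).val.app (op (Over.mk (𝟙 U)))).hom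
      (∑ p : {p // p ∈ P g hg}, e p.1 (r m p)) = 0 := fun m => by
    refine (map_sum _ _ _).trans (Eq.trans (Finset.sum_congr rfl fun p _ => ?_) (hr0 m))
    exact (genMor_e (W := Over.mk (𝟙 U)) s p.1 (r m p)).trans (congrArg (r m p • ·) (rs_id ((forg O).obj F) _))
  choose ρ hρ using fun m => exists_kernel_lift (genMor s) _ (hsum m)
  have hZ : Z.hom = (h ≫ b g hg) ≫ q g hg ≫ V.hom := by
    rw [Category.assoc, reassoc_of% (hbq g hg), reassoc_of% hfac, Over.w c]
  refine ⟨∑ m, e (W := Z) (ρ m) (d m), ?_⟩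
  rw [map_sum]
  simp only [topMor_e]
  apply injective_app (kernel.ι (genMor s))
  refine (app_sum_smul (kernel.ι (genMor s)) _ _ _).trans (Eq.trans ?_ (app_rs (kernel.ι _) _ y).symm)
  let zU : Z ⟶ Over.mk (q g hg ≫ V.hom) := Over.homMk (h ≫ b g hg) hZ.symm
  have e1 : rs ((forg (O.over U)).obj (fr' O U I)) c.op
      (((kernel.ι (genMor s)).val.app (op V)).hom y) =
        ∑ p : {p // p ∈ P g hg}, e (W := Z) p.1 (rr O (h ≫ b g hg).op (a g hg p.1)) := by
    rw [show c = zU ≫ Over.homMk (q g hg) from Over.OverMorphism.ext (by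
      show c.left = (h ≫ b g hg) ≫ q g hg
      rw [Category.assoc, hbq g hg, hfac]), op_comp, ← rs_rs]
    refine (congrArg _ ((app_rs (kernel.ι (genMor s)) _ y).symm.trans (hza g hg))).trans ?_
    rw [rs_sum]
    refine Eq.trans (Finset.sum_congr rfl fun p _ => H14QCohFP.rs_e zU p (a g hg p)) ?_
    exact (Finset.sum_coe_sort (P g hg) fun p =>
      e (W := Z) p (rr O (h ≫ b g hg).op (a g hg p))).symm
  refine Eq.trans ?_ e1.symm
  refine Eq.trans (Finset.sum_congr rfl fun m _ => ?_)
    ((Finset.sum_comm (f := fun m (p : {p // p ∈ P g hg}) =>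
      e (W := Z) p.1 (d m * rr O Z.hom.op (r m p)))).trans (Finset.sum_congr rfl fun p _ => ?_))
  · refine (congrArg (d m • ·) ((app_rs (kernel.ι (genMor s)) _ _).trans (congrArg _ (hρ m)))).trans ?_
    refine (congrArg (d m • ·) (rs_sum _ _ _ _)).trans (Finset.smul_sum.trans ?_)
    refine Finset.sum_congr rfl fun p _ => ?_
    exact (congrArg (d m • ·) (H14QCohFP.rs_e _ p.1 _)).trans (smul_e _ _ _)
  · rw [hd p, ← hZ]
    exact (map_sum ((SheafOfModules.ιFree (R := ModSite.ringSh (O.over U)) p.1).val.app (op Z)).hom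
      _ _).symm

end Relations

end Groth.Agent.H8FSch
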