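import Groth.Agent.H14QCohFP.FSch
import Groth.Agent.H15Site.LocHom
import Groth.Agent.H8FSch.TopGen
import Groth.Agent.H8FSch.IndKer

/-!
# Filtered colimits of coherent modules on a formal scheme are quasi-coherent

Over an affine open the colimit is generated by the sections coming from the stages, and the
relations between finitely many of them are locally combinations of relations over the affine open.
-/

set_option autoImplicit false
set_option linter.style.haveILetI false
set_option linter.unusedSectionVars false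
set_option backward.isDefEq.respectTransparency false
universe u

open CategoryTheory CategoryTheory.Limits AlgebraicGeometry TopologicalSpace Opposite TensorProduct

namespace Groth.Agent.H8FSch

open H15Site.ModTensor H15Site.ModRel H15Site.LocGen H15Site.LocPres H15Site.LocFP H24FMod

attribute [local instance 10000] H15Site.SiteInst.hasSheafifySite H15Site.SiteInst.hasWeakSheafifySite

variable {𝔛 : FSch.Sys.{u}} (hL : 𝔛.IsLocNoethFormal)
  {Λ : Type u} [SmallCategory Λ] [IsFiltered Λ] {D : Λ ⥤ FSch.ModF 𝔛 hL.1} (c : Cocone D)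
  (A : (𝔛.X 0).Opens)

/-- The sections over `A` coming from the stages. -/
noncomputable def stageSec (p : Σ j : Λ, Sec hL.1 (D.obj j) A) : Sec hL.1 c.pt A :=
  secMap (c.ι.app p.1) A p.2

variable {c A} (hc : IsColimit c) (hD : ∀ i, FSch.IsCohF 𝔛 hL.1 (D.obj i)) (hA : IsAffineOpen A)

include hc hD hA in
/-- The sections coming from the stages generate. -/
theorem epi_genMor_stageSec : Epi (genMor (stageSec hL c A)) := by
  rw [epi_iff_locSurj]
  intro V t
  obtain ⟨S, hS, hS'⟩ := H15Site.ColimSect.exists_local_rep hc (V := V.left) t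
  obtain ⟨T, hT, hT'⟩ := (H14QCohFP.goodBase hL).refine' hS
  refine ⟨(Sieve.overEquiv _).symm T,
    ((Opens.grothendieckTopology _).mem_over_iff _).2 (by simpa using hT), fun Z a ha => ?_⟩
  obtain ⟨B, b, q, hB, hq, hbq⟩ := hT' a.left ((Sieve.overEquiv_symm_iff T a).1 ha)
  obtain ⟨j, y, hy⟩ := hS' q hq
  let l : B ⟶ A := q ≫ V.hom
  let BU : Over A := Over.mk l
  let bU : Z ⟶ BU := Over.homMk b (Subsingleton.elim _ _)
  letI := (rsO hL l).toAlgebra
  have key : ∀ T : OSec hL.1 B ⊗[OSec hL.1 A] Sec hL.1 (D.obj j) A,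
      ∃ z : ((fr' (𝔛.Osh hL.1) A (Σ j : Λ, Sec hL.1 (D.obj j) A)).val.obj (op BU) : Type u),
        ((genMor (stageSec hL c A)).val.app (op BU)).hom z =
          secMap (c.ι.app j) B (bcMap hL (D.obj j) l T) := by
    intro T
    induction T using TensorProduct.induction_on with
    | zero => exact ⟨0, (map_zero _).trans (by rw [map_zero, map_zero])⟩
    | tmul r x =>
      refine ⟨e ⟨j, x⟩ r, (genMor_e _ _ _).trans ?_⟩
      rw [bcMap_tmul]
      refine Eq.trans ?_ (((c.ι.app j).val.app (op B)).hom.map_smul r _).symm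
      exact congrArg (r • ·) (app_rs (c.ι.app j) _ x).symm
    | add a b ha hb =>
      obtain ⟨za, hza⟩ := ha
      obtain ⟨zb, hzb⟩ := hb
      exact ⟨za + zb, (map_add _ _ _).trans (by rw [hza, hzb, map_add, map_add])⟩
  obtain ⟨T₀, hT₀⟩ := (bijective_bcMap hL (hD j) hA hB l).2 y
  obtain ⟨z, hz⟩ := key T₀
  refine ⟨rs ((forg ((𝔛.Osh hL.1).over A)).obj (fr' (𝔛.Osh hL.1) A _)) bU.op z, ?_⟩
  refine (app_rs (genMor (stageSec hL c A)) bU.op z).trans
    ((congrArg _ (hz.trans ((congrArg (secMap (c.ι.app j) B) hT₀).trans hy))).trans ?_)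
  show rs ((forg (𝔛.Osh hL.1)).obj c.pt) b.op (rs ((forg (𝔛.Osh hL.1)).obj c.pt) q.op t) =
    rs ((forg (𝔛.Osh hL.1)).obj c.pt) a.left.op t
  rw [rs_rs]
  exact congrArg (fun w => rs ((forg (𝔛.Osh hL.1)).obj c.pt) w t) (Subsingleton.elim _ _)

include hc hD hA in
/-- A relation between sections of a stage in the colimit is locally a combination of relations over
the affine open. -/
theorem exists_local_rel {P : Type u} [Fintype P] {i₀ : Λ} (Y : P → Sec hL.1 (D.obj i₀) A)
    {B : (𝔛.X 0).Opens} (l : B ⟶ A) (a : P → OSec hL.1 B)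
    (ha : ∑ p, a p • rs ((forg (𝔛.Osh hL.1)).obj c.pt) l.op (secMap (c.ι.app i₀) A (Y p)) = 0) :
    ∃ S ∈ Opens.grothendieckTopology (𝔛.X 0) B, ∀ ⦃Z : (𝔛.X 0).Opens⦄ (h : Z ⟶ B), S h →
      ∃ (M : Type u) (_ : Fintype M) (r : M → P → OSec hL.1 A) (d : M → OSec hL.1 Z),
        (∀ m, ∑ p, r m p • secMap (c.ι.app i₀) A (Y p) = 0) ∧
          ∀ p, rr (𝔛.Osh hL.1) h.op (a p) = ∑ m, d m * rr (𝔛.Osh hL.1) (h ≫ l).op (r m p) := by
  classical
  let w : Sec hL.1 (D.obj i₀) B := ∑ p, a p • rs ((forg (𝔛.Osh hL.1)).obj (D.obj i₀)) l.op (Y p)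
  have hw : ((c.ι.app i₀).val.app (op B)).hom w = 0 := by
    refine (app_sum_smul (c.ι.app i₀) _ _ _).trans (Eq.trans (Finset.sum_congr rfl fun p _ => ?_) ha)
    exact congrArg (a p • ·) (app_rs (c.ι.app i₀) _ _)
  obtain ⟨S₁, hS₁, hS₁'⟩ := H15Site.ColimSect.exists_local_zero hc w hw
  obtain ⟨T₁, hT₁, hT₁'⟩ := (H14QCohFP.goodBase hL).refine' hS₁
  refine ⟨T₁, hT₁, fun Z h hh => ?_⟩
  obtain ⟨B', b, q, hB', hq, hbq⟩ := hT₁' h hh
  obtain ⟨k, f, hf⟩ := hS₁' q hq
  let l' : B' ⟶ A := q ≫ l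
  let Yk : P → Sec hL.1 (D.obj k) A := fun p => secMap (D.map f) A (Y p)
  obtain ⟨-, hN, -, -⟩ := exists_adic hL hA
  haveI := hN
  obtain ⟨M, r, hr⟩ := Submodule.fg_iff_exists_fin_generating_family.1
    (IsNoetherian.noetherian (LinearMap.ker (Fintype.linearCombination (OSec hL.1 A) Yk)))
  have hr0 : ∀ m, ∑ p, r m p • Yk p = 0 := fun m =>
    (Fintype.linearCombination_apply _ _ _).symm.trans
      (hr ▸ Submodule.subset_span ⟨m, rfl⟩ :
        r m ∈ LinearMap.ker (Fintype.linearCombination (OSec hL.1 A) Yk))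
  letI := (rsO hL l').toAlgebra
  haveI : Module.Flat (OSec hL.1 A) (OSec hL.1 B') := flat_rsO hL hA hB' l'
  obtain ⟨d, hd⟩ := flat_rel_comb Yk (fun m : ULift.{u} (Fin M) => r m.down) (fun m => hr0 _)
    (fun v hv => by
      have h1 : v ∈ Submodule.span (OSec hL.1 A) (Set.range r) :=
        hr ▸ (LinearMap.mem_ker.2 ((Fintype.linearCombination_apply _ _ _).trans hv))
      obtain ⟨d, hd⟩ := (Submodule.mem_span_range_iff_exists_fun _).1 h1
      refine ⟨fun m => d m.down, fun i => ?_⟩
      rw [← hd, Finset.sum_apply]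
      exact (Equiv.ulift.sum_comp fun m => d m * r m i).symm)
    (fun p => rr (𝔛.Osh hL.1) q.op (a p))
    ((bijective_bcMap hL (hD k) hA hB' l').1 (by
      rw [map_sum, map_zero]
      refine Eq.trans ?_ hf
      rw [rs_sum, map_sum]
      refine Finset.sum_congr rfl fun p _ => ?_
      rw [bcMap_tmul, rs_smul', rs_rs]
      refine Eq.trans (congrArg (_ • ·) ?_) (((D.map f).val.app (op B')).hom.map_smul _ _).symm
      exact (app_rs (D.map f) _ _).symm.trans (congrArg
        (fun z => ((D.map f).val.app (op B')).hom (rs _ z (Y p))) (Subsingleton.elim _ _))))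
  refine ⟨ULift.{u} (Fin M), inferInstance, fun m => r m.down,
    fun m => rr (𝔛.Osh hL.1) b.op (d m), fun m => ?_, fun p => ?_⟩
  · refine Eq.trans (Finset.sum_congr rfl fun p _ => congrArg (r m.down p • ·) ?_)
      ((app_sum_smul (c.ι.app k) _ _ _).symm.trans ((congrArg _ (hr0 m.down)).trans (map_zero _)))
    exact (congrArg (fun t : D.obj i₀ ⟶ c.pt => (t.val.app (op A)).hom (Y p)) (c.w f)).symm
  · have e1 := congrArg (fun z => rr (𝔛.Osh hL.1) b.op z) (hd p)
    simp only [rr_rr, map_sum, map_mul] at e1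
    rw [show h.op = q.op ≫ b.op from Subsingleton.elim _ _]
    refine e1.trans ?_
    refine Finset.sum_congr rfl fun m _ => congrArg (_ * ·) ?_
    exact (rr_rr l'.op b.op _).trans
      (congrArg (fun z => rr (𝔛.Osh hL.1) z (r m.down p)) (Subsingleton.elim _ _))

include hc hD hA in
/-- The relations over the affine open generate all relations. -/
theorem epi_relations :
    Epi (topMor (N := kernel (genMor (stageSec hL c A)))
      (K := ((forg ((𝔛.Osh hL.1).over A)).obj (kernel (genMor (stageSec hL c A)))).obj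
        (op (Over.mk (𝟙 A)))) id) := by
  classical
  refine epi_relations_of_local _ (fun Y => ?_) fun P B l a ha => ?_
  · obtain ⟨T, hT, hT'⟩ := (H14QCohFP.goodBase hL).cover Y
    refine ⟨T, hT, fun W g hg => ?_⟩
    obtain ⟨B, b, q, hB, hbq⟩ := hT' g hg
    exact ⟨B, b, q, (H14QCohFP.goodBase hL).qc _ hB, hbq⟩
  · obtain ⟨i₀, hi₀⟩ := IsFiltered.sup_objs_exists (P.image Sigma.fst)
    let f : ∀ p : {p // p ∈ P}, p.1.1 ⟶ i₀ := fun p =>
      (hi₀ (Finset.mem_image.2 ⟨p.1, p.2, rfl⟩)).some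
    let Y : {p // p ∈ P} → Sec hL.1 (D.obj i₀) A := fun p => secMap (D.map (f p)) A p.1.2
    have hY : (fun p => secMap (c.ι.app i₀) A (Y p)) = fun p => stageSec hL c A p.1 := funext fun p =>
      congrArg (fun t : D.obj p.1.1 ⟶ c.pt => (t.val.app (op A)).hom p.1.2) (c.w (f p))
    have hY' := congrFun hY
    obtain ⟨S, hS, hS'⟩ := exists_local_rel hL hc hD hA Y l (fun p => a p.1) (by simpa only [hY'] using ha)
    refine ⟨S, hS, fun Z h hh => ?_⟩
    obtain ⟨M, hM, r, d, hr0, hd⟩ := hS' h hh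
    exact ⟨M, hM, r, d, fun m => by simpa only [hY'] using hr0 m, hd⟩

include hc hD in
/-- Filtered colimits of coherent modules are quasi-coherent. -/
theorem isQuasicoherent_colim : SheafOfModules.IsQuasicoherent.{u} c.pt := by
  let gens : ∀ W : (𝔛.X 0).affineOpens,
      ((ModSite.restr (𝔛.Osh hL.1) W.1).obj c.pt).GeneratingSections := fun W =>
    { I := Σ j : Λ, Sec hL.1 (D.obj j) W.1
      s := fun p => restrSection (stageSec hL c W.1 p)
      epi := epi_genMor_stageSec hL hc hD W.2 }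
  let P : ∀ W : (𝔛.X 0).affineOpens,
      SheafOfModules.Presentation (R := ModSite.ringSh ((𝔛.Osh hL.1).over W.1))
        ((ModSite.restr (𝔛.Osh hL.1) W.1).obj c.pt) := fun W =>
    { generators := gens W
      relations :=
        { I := ((forg ((𝔛.Osh hL.1).over W.1)).obj (kernel (genMor (stageSec hL c W.1)))).obj
            (op (Over.mk (𝟙 W.1)))
          s := fun k => topSection (N := kernel (genMor (stageSec hL c W.1))) k
          epi := epi_relations hL hc hD W.2 } }
  let Q : SheafOfModules.QuasicoherentData.{u} (R := ModSite.ringSh (𝔛.Osh hL.1)) c.pt :=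
    { I := (𝔛.X 0).affineOpens
      X := fun W => W.1
      coversTop := (Opens.coversTop_iff _ _).2 (iSup_affineOpens_eq_top _)
      presentation := P }
  exact SheafOfModules.IsQuasicoherent.mk (R := ModSite.ringSh (𝔛.Osh hL.1)) (M := c.pt) ⟨Q⟩

end Groth.Agent.H8FSch
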