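import Groth.Agent.H8FSch.DVanBound
import Groth.Agent.H15Site.FreePush
import Mathlib.CategoryTheory.Abelian.GrothendieckAxioms.Sheaf
import Mathlib.CategoryTheory.Abelian.GrothendieckCategory.EnoughInjectives

/-!
# Classes into complexes with acyclic cohomology vanish above the top degree
-/

set_option autoImplicit false
set_option linter.style.haveILetI false
set_option linter.unusedSectionVars false

universe u

open CategoryTheory CategoryTheory.Limits CategoryTheory.Pretriangulated Opposite DerivedCategory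
  DerivedCategory.TStructure

attribute [local instance] HasDerivedCategory.standard

namespace Groth.Agent.H8FSch.DBound

open H15Site H15Site.SiteGen H15Site.RlimTrunc H15Site.SiteGenInst H16Derived

attribute [local instance 10000] H15Site.SiteInst.hasSheafifySite H15Site.SiteInst.hasWeakSheafifySite

variable {C : Type u} [SmallCategory C] {J : GrothendieckTopology C} {O : Sheaf J CommRingCat.{u}}
  (B : Set C)
  (hB : ∀ U : C, ∃ (ι : Type u) (Y : ι → C) (f : ∀ i, Y i ⟶ U), Sieve.ofArrows Y f ∈ J U ∧ ∀ i, Y i ∈ B)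

include hB in
/-- Over a basis on which all cohomology sheaves are acyclic, classes of degree above the top
cohomological degree vanish. -/
theorem eq_zero_of_van (G : DerivedCategory (ModSite.Mod O)) (e : ℤ)
    (he : ∀ q, e < q → IsZero (SiteCmp.HMod G q))
    (hvan : ∀ U ∈ B, ∀ (q : ℤ) (k : ℕ), 0 < k →
      Subsingleton (ModSite.HU O (SiteCmp.HMod G q) k U))
    (U : C) (d : ℕ) (hU : ∀ (q : ℤ) (k : ℕ), d < k →
      Subsingleton (ModSite.HU O (SiteCmp.HMod G q) k U))
    (i : ℤ) (hi : e + d < i)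
    (z : (DerivedCategory.singleFunctor (ModSite.Mod O) 0).obj ((genMod O).G.obj U) ⟶ G⟦i⟧) :
    z = 0 :=
  haveI := H10Coh.isGrothendieckAbelian_sheafOfModules (ModSite.ringSh O)
  haveI : EnoughInjectives (ModSite.Mod O) := IsGrothendieckAbelian.enoughInjectives.{u}
  DVanBound.eq_zero_of_van (genMod O) B hB G e he
    (fun V hV q k hk => (van_mod_iff O k V _).2 (hvan V hV q k hk)) U d
    (fun q k hk => (van_mod_iff O k U _).2 (hU q k hk)) i hi z

variable {D : Type u} [SmallCategory D] {K : GrothendieckTopology D} {O' : Sheaf K CommRingCat.{u}}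
  (f : ModSite.RMor O O') [SiteCmp.HasRpushD f]
  (B' : Set D)
  (hB' : ∀ U : D, ∃ (ι : Type u) (Y : ι → D) (g : ∀ i, Y i ⟶ U), Sieve.ofArrows Y g ∈ K U ∧ ∀ i, Y i ∈ B')

include hB' in
/-- Cohomology sheaves of `Rf_*` vanish where classes on preimages do. -/
theorem isZero_homology_push (G : DerivedCategory (ModSite.Mod O)) (i : ℤ)
    (h : ∀ Y ∈ B', ∀ z : (singleFunctor (ModSite.Mod O) 0).obj ((genMod O).G.obj (f.fn.obj Y)) ⟶
      G⟦i⟧, z = 0) :
    IsZero (SiteCmp.HMod ((SiteCmp.RpushD f).obj G) i) := by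
  rw [IsZero.iff_id_eq_zero]
  refine (genMod O').gen _ fun U s => ?_
  rw [Category.comp_id]
  obtain ⟨S, hS, hlift⟩ := exists_local_lift (genMod O') s
  obtain ⟨ι, Yc, g, hg, hcov, hY⟩ := exists_cofinal_mem B' hB' hS
  refine (genMod O').sep hcov _ ?_
  rintro W _ ⟨_, q, _, ⟨j⟩, rfl⟩
  obtain ⟨y, hy⟩ := hlift (g j) (hg j)
  have h0 : y = 0 := FreePush.eq_zero_push f (Yc j) G i (h _ (hY j)) y
  rw [h0, cls_zero] at hy
  rw [Functor.map_comp, Category.assoc, ← hy, comp_zero]

end Groth.Agent.H8FSch.DBound
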