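import Groth.Agent.H8FSch.AffineHomVanish
import Groth.Agent.H8FSch.DBound

/-!
# Derived direct images of complexes with ind-coherent cohomology along affine morphisms
-/

set_option autoImplicit false
set_option linter.style.haveILetI false

universe u

attribute [-instance] CategoryTheory.catToReflQuiver
attribute [local instance] HasDerivedCategory.standard

open AlgebraicGeometry CategoryTheory CategoryTheory.Limits TopologicalSpace Opposite

namespace Groth.Agent.H8FSch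

variable {𝔛 : FSch.Sys.{u}} (hX : 𝔛.IsLocNoethFormal)

/-- Ind-coherent modules have no higher cohomology on affine opens. -/
theorem subsingleton_HU_of_ind (F : FSch.ModF 𝔛 hX.1)
    (hF : (ObjectProperty.ind.{u} fun 𝔊 : FSch.ModF 𝔛 hX.1 => FSch.IsCohF 𝔛 hX.1 𝔊) F)
    (U : (𝔛.X 0).Opens) (hU : IsAffineOpen U) (k : ℕ) (hk : 0 < k) :
    Subsingleton (ModSite.HU (𝔛.Osh hX.1) F k U) := by
  obtain ⟨p, rfl⟩ := Nat.exists_eq_succ_of_ne_zero hk.ne'
  obtain ⟨Λ, _, _, pres, hp⟩ := hF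
  exact subsingleton_of_forall_eq 0 fun x => ext_ind_eq_zero hX pres.isColimit hp U hU p x

theorem exists_affine_cover {X : Scheme.{u}} (U : X.Opens) :
    ∃ (ι : Type u) (Y : ι → X.Opens) (f : ∀ i, Y i ⟶ U),
      Sieve.ofArrows Y f ∈ (Opens.grothendieckTopology X) U ∧ ∀ i, Y i ∈ {V : X.Opens | IsAffineOpen V} :=
  ⟨{ V : X.Opens // IsAffineOpen V ∧ V ≤ U }, fun V => V.1, fun V => homOfLE V.2.2,
    fun x hx => by
      obtain ⟨V, hV, hxV, hVU⟩ := Opens.isBasis_iff_nbhd.1 X.isBasis_affineOpens hx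
      exact ⟨V, homOfLE hVU, ⟨V, 𝟙 _, homOfLE hVU,
        Presieve.ofArrows.mk (f := fun V : { V : X.Opens // IsAffineOpen V ∧ V ≤ U } => homOfLE V.2.2)
          ⟨V, hV, hVU⟩, Category.id_comp _⟩, hxV⟩,
    fun V => V.2.1⟩

variable {𝔜 : FSch.Sys.{u}} (hY : 𝔜.IsLocNoethFormal) (g : 𝔛 ⟶ 𝔜)
  [IsAffineHom ((g : FSch.Hom 𝔛 𝔜).app 0)] [SiteCmp.HasRpushD (FSch.homMor g hX.1 hY.1)]

/-- `Rg_*` along an affine morphism does not raise the top degree of ind-coherent cohomology. -/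
theorem isZero_hMod_rpushD (G : DerivedCategory (FSch.ModF 𝔛 hX.1))
    (hG : ∀ i : ℤ, (ObjectProperty.ind.{u} fun 𝔊 : FSch.ModF 𝔛 hX.1 => FSch.IsCohF 𝔛 hX.1 𝔊)
      (SiteCmp.HMod G i))
    (e : ℤ) (he : ∀ i : ℤ, e < i → IsZero (SiteCmp.HMod G i)) (i : ℤ) (hi : e < i) :
    IsZero (SiteCmp.HMod ((SiteCmp.RpushD (FSch.homMor g hX.1 hY.1)).obj G) i) :=
  DBound.isZero_homology_push (FSch.homMor g hX.1 hY.1) {V : (𝔜.X 0).Opens | IsAffineOpen V}
    exists_affine_cover G i fun Y hYm z =>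
      DBound.eq_zero_of_van {V : (𝔛.X 0).Opens | IsAffineOpen V} exists_affine_cover G e he
        (fun U hU q k hk => subsingleton_HU_of_ind hX _ (hG q) U hU k hk) _ 0
        (fun q k hk => subsingleton_HU_of_ind hX _ (hG q) _
          (hYm.preimage ((g : FSch.Hom 𝔛 𝔜).app 0)) k hk) i (by simpa using hi) z

end Groth.Agent.H8FSch
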