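import Groth.Agent.H24Formal3.BijExt
import Groth.Agent.H15Site.QcColim
import Groth.Agent.H10Coh.ToSheaf
import Groth.Prelude.Def_FSch5

/-!
# Higher direct images of ind-coherent modules along morphisms affine on the reduced level vanish
-/

set_option autoImplicit false
set_option linter.style.haveILetI false
set_option linter.unusedSectionVars false

universe u

attribute [-instance] CategoryTheory.catToReflQuiver

open AlgebraicGeometry CategoryTheory CategoryTheory.Limits TopologicalSpace Opposite CategoryTheory.Abelian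

namespace Groth.Agent.H8FSch

attribute [local instance 10000] H15Site.SiteInst.hasSheafifySite H15Site.SiteInst.hasWeakSheafifySite
  H15Site.SiteInst.hasExtSite H15Site.SiteInst.enoughInjSite

open H24FMod H24Formal3

variable {𝔛 : FSch.Sys.{u}} (hX : 𝔛.IsLocNoethFormal)

theorem ext_coh_eq_zero (F : FSch.ModF 𝔛 hX.1) (hF : FSch.IsCohF 𝔛 hX.1 F) (U : (𝔛.X 0).Opens)
    (hU : IsAffineOpen U) (p : ℕ)
    (x : Ext.{u} (CohCx.freeSheaf (Opens.grothendieckTopology (𝔛.X 0)) U)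
      ((SheafOfModules.toSheaf.{u} (ModSite.ringSh (𝔛.Osh hX.1))).obj F) (p + 1)) : x = 0 := by
  let T := SheafOfModules.toSheaf.{u} (ModSite.ringSh (𝔛.Osh hX.1))
  obtain ⟨e, he⟩ := GrF.exists_iso_limit hX F hF
  haveI := GrLimit.preservesLimit_seq (Functor.ofOpSequence (GrF.L hX F))
  let S := Functor.ofOpSequence (GrF.L hX F) ⋙ T
  let Q := CohCx.freeSheaf (Opens.grothendieckTopology (𝔛.X 0)) U
  have htr : ∀ k, LimH.trans S k = FormalLevels.shL hX F k := fun k =>
    congrArg T.map (Functor.ofOpSequence_map_homOfLE_succ (GrF.L hX F) k)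
  have hs : ∀ V ∈ {V : (𝔛.X 0).Opens | IsAffineOpen V}, ∀ k,
      Function.Surjective ((LimH.trans S k).hom.app (op V)).hom := fun V hV k => by
    rw [htr]; exact GrF.surjective_L hX F hF V hV k
  have hac := FormalLevels.acyc_G hX F hF
  let i : T.obj F ≅ limit S := T.mapIso e ≪≫ preservesLimitIso T _
  have hz : x.comp (Ext.mk₀ i.hom) (add_zero _) = 0 := by
    refine LimH.eq_zero_of_limOne S (LimTop.isCovering_of_isBasis (𝔛.X 0).isBasis_affineOpens) hac hs Q p
      (fun z => ?_) _ fun k => ?_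
    · cases p with
      | zero =>
        have hlift : ∀ (n : ℕ) (v : Ext.{u} Q (S.obj (op n)) 0), ∃ w : Ext.{u} Q (S.obj (op (n + 1))) 0,
            w.comp (Ext.mk₀ (LimH.trans S n)) (add_zero 0) = v := fun n v => by
          obtain ⟨φ, rfl⟩ := (Ext.mk₀_bijective _ _).2 v
          obtain ⟨t, ht⟩ := hs U hU n (CohFree.homEquivSect _ U _ φ)
          refine ⟨Ext.mk₀ ((CohFree.homEquivSect _ U _).symm t), ?_⟩
          rw [Ext.mk₀_comp_mk₀]
          refine congrArg Ext.mk₀ ((CohFree.homEquivSect _ U _).injective ?_)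
          refine Eq.trans ?_ ht
          exact congrArg ((LimH.trans S n).hom.app (op U)).hom
            ((CohFree.homEquivSect (Opens.grothendieckTopology (𝔛.X 0)) U _).apply_symm_apply t)
        choose g hg using hlift
        let w : ∀ n, Ext.{u} Q (S.obj (op n)) 0 := fun n =>
          Nat.rec (0 : Ext.{u} Q (S.obj (op 0)) 0) (fun m wm => g m (wm - z m)) n
        refine ⟨w, fun n => ?_⟩
        show w n - (g n (w n - z n)).comp _ _ = z n
        rw [hg, sub_sub_cancel]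
      | succ q =>
        haveI : ∀ n, Subsingleton (Ext.{u} Q (S.obj (op n)) (q + 1)) := fun n => hac n U hU q
        exact ⟨0, fun n => Subsingleton.elim _ _⟩
    · haveI : Subsingleton (Ext.{u} Q (S.obj (op k)) (p + 1)) := hac k U hU p
      exact Subsingleton.elim _ _
  have h2 := congrArg (fun z => Ext.comp z (Ext.mk₀ i.inv) (add_zero _)) hz
  simpa using h2

theorem ext_ind_eq_zero {Λ : Type u} [SmallCategory Λ] [IsFiltered Λ] {D : Λ ⥤ FSch.ModF 𝔛 hX.1}
    {c : Cocone D} (hc : IsColimit c) (hD : ∀ i, FSch.IsCohF 𝔛 hX.1 (D.obj i))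
    (U : (𝔛.X 0).Opens) (hU : IsAffineOpen U) (p : ℕ)
    (x : Ext.{u} (CohCx.freeSheaf (Opens.grothendieckTopology (𝔛.X 0)) U)
      ((SheafOfModules.toSheaf.{u} (ModSite.ringSh (𝔛.Osh hX.1))).obj c.pt) (p + 1)) : x = 0 := by
  haveI := hX.2.2 0
  haveI := H10Coh.preservesColimitsOfShape_toSheaf (ModSite.ringSh (𝔛.Osh hX.1)) Λ
  let T := SheafOfModules.toSheaf.{u} (ModSite.ringSh (𝔛.Osh hX.1))
  obtain ⟨hs, -⟩ := H15Site.QcColim.commutes (p + 1) (D ⋙ T) (T.mapCocone c)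
    (isColimitOfPreserves T hc) U hU.isCompact
  obtain ⟨i, y, hy⟩ := hs x
  rw [← hy, show y = 0 from ext_coh_eq_zero hX (D.obj i) (hD i) U hU p y]
  exact H15Site.QcColim.push_zero _

variable {𝔜 : FSch.Sys.{u}} (hY : 𝔜.IsLocNoethFormal) (g : 𝔛 ⟶ 𝔜)
  [IsAffineHom ((g : FSch.Hom 𝔛 𝔜).app 0)] [HasInjectiveResolutions (FSch.ModF 𝔛 hX.1)]

/-- Higher direct images of modules acyclic on affine opens vanish along an affine morphism. -/
theorem isZero_rpushF_of_ext_eq_zero (M : FSch.ModF 𝔛 hX.1) (p : ℕ)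
    (h : ∀ U : (𝔛.X 0).Opens, IsAffineOpen U →
      ∀ x : Ext.{u} (CohCx.freeSheaf (Opens.grothendieckTopology (𝔛.X 0)) U)
        ((SheafOfModules.toSheaf.{u} (ModSite.ringSh (𝔛.Osh hX.1))).obj M) (p + 1), x = 0) :
    IsZero ((FSch.RpushF g hX.1 hY.1 (p + 1)).obj M) := by
  obtain ⟨e⟩ := ModRpush.nonempty_modRpushIso (FSch.homMor g hX.1 hY.1) (p + 1)
  let T := SheafOfModules.toSheaf.{u} (ModSite.ringSh (𝔜.Osh hY.1))
  suffices hT : IsZero (T.obj ((FSch.RpushF g hX.1 hY.1 (p + 1)).obj M)) from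
    (IsZero.iff_id_eq_zero _).2 (T.map_injective
      ((T.map_id _).trans (((IsZero.iff_id_eq_zero _).1 hT).trans (T.map_zero _ _).symm)))
  refine IsZero.of_iso ?_ (e.app M)
  let P : ((𝔜.X 0).Opens)ᵒᵖ ⥤ AddCommGrpCat.{u} :=
    (Opens.map ((g : FSch.Hom 𝔛 𝔜).app 0).base).op ⋙
      (ModRpush.hP (Opens.grothendieckTopology (𝔛.X 0)) (p + 1)).obj
        ((SheafOfModules.toSheaf.{u} (ModSite.ringSh (𝔛.Osh hX.1))).obj M)
  show IsZero ((presheafToSheaf _ AddCommGrpCat.{u}).obj P)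
  let Z : ((𝔜.X 0).Opens)ᵒᵖ ⥤ AddCommGrpCat.{u} := (Functor.const _).obj (AddCommGrpCat.of PUnit)
  have hZ : IsZero Z := Functor.isZero _ fun _ => @AddCommGrpCat.isZero_of_subsingleton _ (inferInstanceAs (Subsingleton PUnit))
  haveI := H15Site.RpushColim.isIso_sheafify_map (K := Opens.grothendieckTopology (𝔜.X 0)) (0 : P ⟶ Z)
    {V | IsAffineOpen V} (LimTop.isCovering_of_isBasis (𝔜.X 0).isBasis_affineOpens) fun V hV => by
      obtain ⟨E, -⟩ := ModRpush.exists_ev (J := Opens.grothendieckTopology (𝔛.X 0))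
        ((g : FSch.Hom 𝔛 𝔜).app 0 ⁻¹ᵁ V) (p + 1)
      haveI : Subsingleton (Ext.{u} (CohCx.freeSheaf (Opens.grothendieckTopology (𝔛.X 0))
          ((g : FSch.Hom 𝔛 𝔜).app 0 ⁻¹ᵁ V))
          ((SheafOfModules.toSheaf.{u} (ModSite.ringSh (𝔛.Osh hX.1))).obj M) (p + 1)) :=
        subsingleton_of_forall_eq 0 (h _ (hV.preimage _))
      haveI : Subsingleton (P.obj (op V)) := (E _).toEquiv.subsingleton
      refine (ConcreteCategory.isIso_iff_bijective _).2 ⟨fun a b _ => Subsingleton.elim a b, fun t => ⟨0, ?_⟩⟩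
      exact Subsingleton.elim (α := PUnit) _ _
  exact IsZero.of_iso ((presheafToSheaf _ AddCommGrpCat.{u}).map_isZero hZ)
    (asIso ((presheafToSheaf (Opens.grothendieckTopology (𝔜.X 0)) AddCommGrpCat.{u}).map (0 : P ⟶ Z)))

theorem isZero_rpushF_of_ind {Λ : Type u} [SmallCategory Λ] [IsFiltered Λ] {D : Λ ⥤ FSch.ModF 𝔛 hX.1}
    {c : Cocone D} (hc : IsColimit c) (hD : ∀ i, FSch.IsCohF 𝔛 hX.1 (D.obj i)) (p : ℕ) :
    IsZero ((FSch.RpushF g hX.1 hY.1 (p + 1)).obj c.pt) :=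
  isZero_rpushF_of_ext_eq_zero hX hY g c.pt p fun U hU => ext_ind_eq_zero hX hc hD U hU p

end Groth.Agent.H8FSch
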