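import Groth.Agent.H24FMod.GrLim
import Groth.Agent.H15Site.CohTerminal
import Groth.Agent.H15Site.QcColim
import Groth.Agent.H10Coh.ToSheaf

/-!
# Cohomology of filtered colimits of coherent modules on an affine formal scheme vanishes
-/

set_option autoImplicit false
set_option linter.style.haveILetI false
set_option linter.unusedSectionVars false

universe u

attribute [-instance] CategoryTheory.catToReflQuiver

open AlgebraicGeometry CategoryTheory CategoryTheory.Limits TopologicalSpace Opposite CategoryTheory.Abelian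

namespace Groth.Agent.H8FSch

variable {A : Type u} [CommRing A] [IsNoetherianRing A] (J : Ideal A)
  (hL : (FSch.spf A J).IsLocNoethFormal)

theorem subsingleton_hF_of_coh (F : FSch.ModF (FSch.spf A J) hL.1)
    (hF : FSch.IsCohF (FSch.spf A J) hL.1 F) (p : ℕ) :
    Subsingleton (FSch.HF (FSch.spf A J) hL.1 F (p + 1)) := by
  let f : FSch.spf A J ⟶ FSch.spf A J := 𝟙 _
  haveI : ∀ n, IsIso ((f : FSch.Hom _ _).app n) := fun n => inferInstanceAs (IsIso (𝟙 ((FSch.spf A J).X n)))
  have hf : FSch.IsAdicHom f := fun n => IsPullback.of_vert_isIso ⟨by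
    show _ ≫ 𝟙 _ = 𝟙 _ ≫ _
    rw [Category.comp_id, Category.id_comp]⟩
  haveI : IsAffine ((FSch.spf A J).X 0) := inferInstanceAs (IsAffine (Spec _))
  have hp : IsProper ((f : FSch.Hom _ _).app 0) := inferInstanceAs (IsProper (𝟙 ((FSch.spf A J).X 0)))
  obtain ⟨h1, -⟩ := H24FMod.GrF.bijective_toLevels J f hL F hf hF hp (p + 1)
  refine subsingleton_of_forall_eq 0 fun x => h1 x fun k => ?_
  obtain ⟨e⟩ := H15Site.CohTerminal.nonempty_H_addEquiv (Opens.grothendieckTopology _)
    (IsTerminal.ofUniqueHom (fun U => homOfLE (le_top : U ≤ (⊤ : ((FSch.spf A J).X 0).Opens)))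
      (fun _ _ => Subsingleton.elim _ _))
    ((SheafOfModules.toSheaf.{u} (ModSite.ringSh ((FSch.spf A J).Osh hL.1))).obj (H24FMod.GrF.G hL F k))
    (p + 1)
  haveI := H24FMod.GrF.acyc_G J f hL F hf hF k ⊤ (isAffineOpen_top _) p
  exact e.injective (Subsingleton.elim _ _)

theorem subsingleton_hF_of_ind {Λ : Type u} [SmallCategory Λ] [IsFiltered Λ]
    {D : Λ ⥤ FSch.ModF (FSch.spf A J) hL.1} {c : Cocone D} (hc : IsColimit c)
    (hD : ∀ i, FSch.IsCohF (FSch.spf A J) hL.1 (D.obj i)) (p : ℕ) :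
    Subsingleton (FSch.HF (FSch.spf A J) hL.1 c.pt (p + 1)) := by
  haveI : IsAffine ((FSch.spf A J).X 0) := inferInstanceAs (IsAffine (Spec _))
  haveI : PrespectralSpace ((FSch.spf A J).X 0) :=
    inferInstanceAs (PrespectralSpace (Spec (CommRingCat.of (A ⧸ J ^ (0 + 1)))))
  haveI : QuasiSeparatedSpace ((FSch.spf A J).X 0) :=
    inferInstanceAs (QuasiSeparatedSpace (Spec (CommRingCat.of (A ⧸ J ^ (0 + 1)))))
  haveI := H10Coh.preservesColimitsOfShape_toSheaf (ModSite.ringSh ((FSch.spf A J).Osh hL.1)) Λ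
  let S := SheafOfModules.toSheaf.{u} (ModSite.ringSh ((FSch.spf A J).Osh hL.1))
  have hT : IsTerminal (⊤ : ((FSch.spf A J).X 0).Opens) :=
    IsTerminal.ofUniqueHom (fun U => homOfLE (le_top : U ≤ (⊤ : ((FSch.spf A J).X 0).Opens)))
      fun _ _ => Subsingleton.elim _ _
  obtain ⟨e⟩ := H15Site.CohTerminal.nonempty_H_addEquiv (Opens.grothendieckTopology _) hT (S.obj c.pt) (p + 1)
  refine subsingleton_of_forall_eq 0 fun x => e.injective ?_
  rw [map_zero]
  obtain ⟨hs, -⟩ := H15Site.QcColim.commutes (p + 1) (D ⋙ S) (S.mapCocone c)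
    (isColimitOfPreserves S hc) ⊤ (isAffineOpen_top _).isCompact
  obtain ⟨i, y, hy⟩ := hs (e x)
  obtain ⟨e'⟩ := H15Site.CohTerminal.nonempty_H_addEquiv (Opens.grothendieckTopology _) hT (S.obj (D.obj i)) (p + 1)
  haveI := subsingleton_hF_of_coh J hL (D.obj i) (hD i) p
  have h0 : e'.symm y = 0 := Subsingleton.elim (α := FSch.HF (FSch.spf A J) hL.1 (D.obj i) (p + 1)) _ _
  rw [← hy, e'.symm.map_eq_zero_iff.1 h0]
  exact H15Site.QcColim.push_zero _

end Groth.Agent.H8FSch
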