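import Groth.Agent.H15Site.SiteGenInst
import Mathlib.Topology.Sheaves.MayerVietoris

/-!
# The Mayer–Vietoris sequence of free modules on a ringed space
-/

set_option autoImplicit false
set_option linter.style.haveILetI false
set_option backward.isDefEq.respectTransparency false

universe u

open CategoryTheory CategoryTheory.Limits Opposite TopologicalSpace

namespace Groth.Agent.H8FSch.ModMV

open H15Site.SiteGenInst

attribute [local instance 10000] H15Site.SiteInst.hasSheafifySite H15Site.SiteInst.hasWeakSheafifySite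

section Mono

variable {C : Type u} [SmallCategory C] {J : GrothendieckTopology C} (O : Sheaf J CommRingCat.{u})

/-- Free modules turn monomorphisms into monomorphisms. -/
theorem mono_free {U V : C} (f : U ⟶ V) [Mono f] : Mono ((genMod O).G.map f) := by
  let φ := (PresheafOfModules.free (ModSite.ringSh O).obj).map (yoneda.map f)
  haveI : Mono φ := by
    constructor
    intro Z a b h
    ext X x
    have hX : Function.Injective ((yoneda.map f).app X) := fun p q e => (cancel_mono f).1 e
    have hx := ConcreteCategory.congr_hom (congrArg (fun k => PresheafOfModules.Hom.app k X) h) x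
    exact Finsupp.mapDomain_injective hX hx
  exact inferInstanceAs (Mono ((PresheafOfModules.sheafification (𝟙 (ModSite.ringSh O).obj)).map φ))

end Mono

variable {T : Type u} [TopologicalSpace T] (O : Sheaf (Opens.grothendieckTopology T) CommRingCat.{u})
  (U V : Opens T)

/-- The sheaf of sets of sections. -/
noncomputable abbrev secT (M : ModSite.Mod O) : Sheaf (Opens.grothendieckTopology T) (Type u) :=
  (sheafCompose _ (forget AddCommGrpCat.{u})).obj ((SheafOfModules.toSheaf (ModSite.ringSh O)).obj M)

theorem exists_seq :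
    ∃ (f : (genMod O).G.obj (U ⊓ V) ⟶ (genMod O).G.obj U ⊞ (genMod O).G.obj V)
      (g : (genMod O).G.obj U ⊞ (genMod O).G.obj V ⟶ (genMod O).G.obj (U ⊔ V))
      (w : f ≫ g = 0), (ShortComplex.mk f g w).ShortExact := by
  let G := (genMod O).G
  let i₁ : U ⊓ V ⟶ U := homOfLE inf_le_left
  let i₂ : U ⊓ V ⟶ V := homOfLE inf_le_right
  let j₁ : U ⟶ U ⊔ V := homOfLE le_sup_left
  let j₂ : V ⟶ U ⊔ V := homOfLE le_sup_right
  let f : G.obj (U ⊓ V) ⟶ G.obj U ⊞ G.obj V := biprod.lift (G.map i₁) (-G.map i₂)
  let g : G.obj U ⊞ G.obj V ⟶ G.obj (U ⊔ V) := biprod.desc (G.map j₁) (G.map j₂)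
  have w : f ≫ g = 0 := by
    rw [biprod.lift_desc, Preadditive.neg_comp, ← G.map_comp, ← G.map_comp,
      Subsingleton.elim (i₂ ≫ j₂) (i₁ ≫ j₁), add_neg_cancel]
  haveI : Mono f := by
    haveI : Mono i₁ := ⟨fun a b _ => Subsingleton.elim a b⟩
    haveI : Mono (f ≫ biprod.fst) := by
      rw [biprod.lift_fst]
      exact mono_free O i₁
    exact mono_of_mono f biprod.fst
  let S := Opens.mayerVietorisSquare U V
  have hdesc : ∀ {M : ModSite.Mod O} (h : G.obj U ⊞ G.obj V ⟶ M), f ≫ h = 0 →
      ∃! l : G.obj (U ⊔ V) ⟶ M, g ≫ l = h := by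
    intro M h hh
    have hs : S.SheafCondition (secT O M).obj := S.sheafCondition_of_sheaf (secT O M)
    let a := eMod O U M (biprod.inl ≫ h)
    let b := eMod O V M (biprod.inr ≫ h)
    have hab : (secT O M).obj.map S.f₁₂.op a = (secT O M).obj.map S.f₁₃.op b := by
      refine (eMod_naturality_left O i₁ _).symm.trans (Eq.trans ?_ (eMod_naturality_left O i₂ _))
      refine congrArg _ ?_
      rw [← sub_eq_zero, ← hh, show h = biprod.desc (biprod.inl ≫ h) (biprod.inr ≫ h) from
        biprod.hom_ext' _ _ (by simp) (by simp), biprod.lift_desc, Preadditive.neg_comp]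
      simp only [biprod.inl_desc, biprod.inr_desc, sub_eq_add_neg]
      rfl
    let s := hs.glue a b hab
    refine ⟨(eMod O (U ⊔ V) M).symm s, biprod.hom_ext' _ _ ?_ ?_, fun l hl => ?_⟩
    · rw [biprod.inl_desc_assoc]
      refine (eMod O U M).injective ((eMod_naturality_left O j₁ _).trans ?_)
      rw [Equiv.apply_symm_apply]
      exact hs.map_f₂₄_op_glue a b hab
    · rw [biprod.inr_desc_assoc]
      refine (eMod O V M).injective ((eMod_naturality_left O j₂ _).trans ?_)
      rw [Equiv.apply_symm_apply]
      exact hs.map_f₃₄_op_glue a b hab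
    · refine ((eMod O (U ⊔ V) M).eq_symm_apply).2 (hs.ext ?_ ?_)
      · refine ((eMod_naturality_left O j₁ l).symm.trans ?_).trans (hs.map_f₂₄_op_glue a b hab).symm
        show _ = eMod O U M (biprod.inl ≫ h)
        rw [← hl, biprod.inl_desc_assoc]
        rfl
      · refine ((eMod_naturality_left O j₂ l).symm.trans ?_).trans (hs.map_f₃₄_op_glue a b hab).symm
        show _ = eMod O V M (biprod.inr ≫ h)
        rw [← hl, biprod.inr_desc_assoc]
        rfl
  haveI : Epi g := Preadditive.epi_of_cancel_zero _ fun {M} l hl =>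
    (hdesc (g ≫ l) (by rw [reassoc_of% w, zero_comp])).unique rfl (by rw [comp_zero, hl])
  refine ⟨f, g, w, { exact := ?_ }⟩
  exact ShortComplex.exact_of_g_is_cokernel _ (CokernelCofork.IsColimit.ofπ g w
    (fun {M} h hh => (hdesc h hh).choose) (fun {M} h hh => (hdesc h hh).choose_spec.1)
    fun {M} h hh l hl => (hdesc h hh).choose_spec.2 l hl)

end Groth.Agent.H8FSch.ModMV
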