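import Groth.Agent.H8FSch.DClass
import Groth.Agent.H8FSch.ModMV
import Groth.Agent.H8FSch.DBound
import Groth.Agent.H15Site.CoprodPreserve
import Groth.Agent.H16Derived.QCohD.FinSupp
import Groth.Agent.H16Derived.QCoprod
import Groth.Agent.H26Tor.Exact
import Mathlib.Algebra.Homology.DerivedCategory.SingleTriangle

/-!
# Free modules on quasi-compact opens are compact relative to complexes with acyclic cohomology
-/

set_option autoImplicit false
set_option linter.style.haveILetI false
set_option linter.unusedSectionVars false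

universe w v u

open CategoryTheory CategoryTheory.Limits CategoryTheory.Pretriangulated Opposite TopologicalSpace

attribute [local instance] HasDerivedCategory.standard

namespace Groth.Agent.H8FSch.DCompact

open H15Site H15Site.SiteGen H15Site.RlimTrunc H15Site.SiteGenInst H16Derived.QCohD

section Homology

variable {A : Type v} [Category.{u} A] [Abelian A] [IsGrothendieckAbelian.{u} A]

/-- Cohomology commutes with direct sums. -/
theorem preservesColimit_homology {κ : Type u} (K : κ → DerivedCategory A) (m : ℤ) :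
    PreservesColimit (Discrete.functor K) (DerivedCategory.homologyFunctor A m) := by
  have hi : ∀ i, ∃ C : CochainComplex A ℤ, Nonempty (DerivedCategory.Q.obj C ≅ K i) := fun i =>
    have := Localization.essSurj (DerivedCategory.Q (C := A))
      (HomologicalComplex.quasiIso A (ComplexShape.up ℤ))
    ⟨_, ⟨DerivedCategory.Q.objObjPreimageIso (K i)⟩⟩
  choose C hC using hi
  let Q' : CochainComplex A ℤ ⥤ DerivedCategory A := DerivedCategory.Q
  haveI : PreservesColimit (Discrete.functor C) Q' := H16Derived.QCoprod.preservesColimit_Q C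
  haveI : ∀ i : ℤ, PreservesColimitsOfShape (Discrete κ) ((𝟭 (CochainComplex A ℤ)) ⋙
      HomologicalComplex.eval A (ComplexShape.up ℤ) i) := fun i =>
    inferInstanceAs (PreservesColimitsOfShape (Discrete κ) (HomologicalComplex.eval A (ComplexShape.up ℤ) i))
  haveI : PreservesColimitsOfShape (Discrete κ)
      (𝟭 _ ⋙ HomologicalComplex.homologyFunctor A (ComplexShape.up ℤ) m) :=
    H26Tor.preservesColimitsOfShape_homology _ m
  haveI : PreservesColimit (Discrete.functor C) (Q' ⋙ DerivedCategory.homologyFunctor A m) :=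
    preservesColimit_of_natIso _ ((Functor.leftUnitor _) ≪≫
      (DerivedCategory.homologyFunctorFactors A m).symm)
  haveI : PreservesColimit (Discrete.functor C ⋙ Q') (DerivedCategory.homologyFunctor A m) :=
    preservesColimit_of_preserves_colimit_cocone
      (isColimitOfPreserves Q' (colimit.isColimit (Discrete.functor C)))
      (isColimitOfPreserves (Q' ⋙ DerivedCategory.homologyFunctor A m)
        (colimit.isColimit (Discrete.functor C)))
  exact preservesColimit_of_iso_diagram _
    (Discrete.natIso fun i => (hC i.as).some : Discrete.functor C ⋙ Q' ≅ Discrete.functor K)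

end Homology

section Abstract

variable {A : Type v} [Category.{u} A] [Abelian A]

/-- All cohomology objects are in `Q`. -/
def Good (Q : ObjectProperty A) (L : DerivedCategory A) : Prop :=
  ∀ q : ℤ, Q ((DerivedCategory.homologyFunctor A q).obj L)

variable (Q : ObjectProperty A)

/-- Compactness relative to `Q`, in all degrees. -/
def Rel (K : DerivedCategory A) : Prop :=
  ∀ n : ℤ, FinSupp.Holds.{u} (Good Q) (K⟦n⟧)

variable {Q}

lemma Rel.of_iso {K K' : DerivedCategory A} (e : K ≅ K') (h : Rel Q K) : Rel Q K' :=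
  fun n => FinSupp.of_iso ((shiftFunctor _ n).mapIso e) (h n)

lemma Rel.shift {K : DerivedCategory A} (h : Rel Q K) (m : ℤ) : Rel Q (K⟦m⟧) :=
  fun n => FinSupp.of_iso ((shiftFunctorAdd _ m n).app K) (h (m + n))

lemma Rel.ext₃ {T : Triangle (DerivedCategory A)} (hT : T ∈ distTriang _)
    (h₁ : Rel Q T.obj₁) (h₂ : Rel Q T.obj₂) : Rel Q T.obj₃ := fun n =>
  FinSupp.ext₂ (Triangle.shift_distinguished T.rotate (rot_of_distTriang T hT) n) (h₂ n) ((h₁.shift 1) n)

theorem rel_biprod {X Y : A} (hX : Rel Q ((DerivedCategory.singleFunctor A 0).obj X))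
    (hY : Rel Q ((DerivedCategory.singleFunctor A 0).obj Y)) :
    Rel Q ((DerivedCategory.singleFunctor A 0).obj (X ⊞ Y)) := fun n => by
  let F := DerivedCategory.singleFunctor A 0 ⋙ shiftFunctor _ n
  refine FinSupp.of_two (F.map biprod.inl) (F.map biprod.inr) (F.map biprod.fst) (F.map biprod.snd)
    ?_ (hX n) (hY n)
  rw [← F.map_comp, ← F.map_comp, ← F.map_add, biprod.total, F.map_id]
  rfl

/-- Rotation of a short exact sequence. -/
theorem Rel.of_shortExact {S : ShortComplex A} (hS : S.ShortExact)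
    (h₁ : Rel Q ((DerivedCategory.singleFunctor A 0).obj S.X₁))
    (h₂ : Rel Q ((DerivedCategory.singleFunctor A 0).obj S.X₂)) :
    Rel Q ((DerivedCategory.singleFunctor A 0).obj S.X₃) :=
  Rel.ext₃ hS.singleTriangle_distinguished h₁ h₂

/-- Classes in any degree out of an object, from classes with values in shifts. -/
theorem rel_of_classes {P : DerivedCategory A}
    (h : ∀ (κ : Type u) (X : κ → DerivedCategory A) [HasCoproduct X], (∀ i, Good Q (X i)) →
      ∀ (m : ℤ) (z : P ⟶ (∐ X)⟦m⟧), ∃ s : Finset κ, z ≫ (FinSupp.idem X s)⟦m⟧' = z) : Rel Q P := by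
  intro n κ X _ hX α
  let e := (shiftFunctorCompIsoId (DerivedCategory A) n (-n) (add_neg_cancel n)).app P
  obtain ⟨s, hs⟩ := h κ X hX (-n) (e.inv ≫ α⟦-n⟧')
  refine ⟨s, (shiftFunctor (DerivedCategory A) (-n)).map_injective ?_⟩
  rw [Functor.map_comp]
  rw [Category.assoc] at hs
  exact (cancel_epi e.inv).1 hs

variable [IsGrothendieckAbelian.{u} A] [Q.IsClosedUnderIsomorphisms]
  (hsum : ∀ (κ : Type u) (M : κ → A), (∀ i, Q (M i)) → Q (∐ M))

include hsum in
/-- Direct sums of good complexes are good. -/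
theorem good_sigma {κ : Type u} (X : κ → DerivedCategory A) [HasCoproduct X]
    (hX : ∀ i, Good Q (X i)) : Good Q (∐ X) := fun q => by
  haveI := preservesColimit_homology X q
  exact Q.prop_of_iso (PreservesCoproduct.iso (DerivedCategory.homologyFunctor A q) X).symm
    (hsum _ _ fun i => hX i q)

variable {A' : Type (u + 1)} [Category.{u} A'] [Abelian A'] [IsGrothendieckAbelian.{u} A']
  {Q' : ObjectProperty A'} [Q'.IsClosedUnderIsomorphisms]
  {C : Type u} [SmallCategory C] {J : GrothendieckTopology C} (𝔾 : Gen J A') (B : Set C)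
  (hB : ∀ U : C, ∃ (ι : Type u) (Y : ι → C) (f : ∀ i, Y i ⟶ U), Sieve.ofArrows Y f ∈ J U ∧ ∀ i, Y i ∈ B)
  (hvan : ∀ U ∈ B, ∀ F, Q' F → ∀ k : ℕ, 0 < k → Van 𝔾 k U F)
  (hsum' : ∀ (κ : Type u) (M : κ → A'), (∀ i, Q' (M i)) → Q' (∐ M))

include hB hvan hsum' in
/-- Generators on members of an acyclic class out of which maps into direct sums have finite
support. -/
theorem rel_gen {U : C} (hU : U ∈ B)
    (hfin : ∀ (κ : Type u) (M : κ → A') (g : 𝔾.G.obj U ⟶ ∐ M),
      ∃ s : Finset κ, g ≫ FinSupp.idem M s = g) :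
    Rel Q' ((DerivedCategory.singleFunctor A' 0).obj (𝔾.G.obj U)) := by
  refine rel_of_classes fun κ X _ hX m z => ?_
  classical
  haveI : EnoughInjectives A' := IsGrothendieckAbelian.enoughInjectives.{u}
  haveI := preservesColimit_homology X m
  let H := DerivedCategory.homologyFunctor A' m
  let σX := PreservesCoproduct.iso H X
  obtain ⟨s, hs⟩ := hfin κ (fun i => H.obj (X i)) (cls z ≫ σX.hom)
  refine ⟨s, sub_eq_zero.1 ?_⟩
  rw [show z ≫ (FinSupp.idem X s)⟦m⟧' - z = z ≫ (FinSupp.idem X s - 𝟙 _)⟦m⟧' by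
    rw [Functor.map_sub, CategoryTheory.Functor.map_id, Preadditive.comp_sub, Category.comp_id]]
  refine DVanBound.eq_zero_of_cls 𝔾 B hB (∐ X)
    (fun V hV q k hk => hvan V hV _ (good_sigma hsum' X hX q) k hk) U hU m _ ?_
  rw [cls_comp, Functor.map_sub, Preadditive.comp_sub, CategoryTheory.Functor.map_id, sub_eq_zero]
  have hσ : σX.inv = sigmaComparison H X := PreservesCoproduct.inv_hom H X
  have hnat := FinSupp.sigmaComparison_idem H X s
  rw [← hσ] at hnat
  rw [Category.comp_id, ← cancel_mono σX.hom]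
  refine Eq.trans ?_ hs
  simp only [Category.assoc]
  refine congrArg (cls z ≫ ·) ?_
  rw [← cancel_epi σX.inv, ← Category.assoc, ← hnat, Category.assoc, σX.inv_hom_id, Category.comp_id,
    σX.inv_hom_id_assoc]

end Abstract


attribute [local instance 10000] H15Site.SiteInst.hasSheafifySite H15Site.SiteInst.hasWeakSheafifySite

section Site

variable {C : Type u} [SmallCategory C] {J : GrothendieckTopology C} {O : Sheaf J CommRingCat.{u}}

/-- Maps out of a free module on a quasi-compact object into a direct sum have finite support. -/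
theorem exists_finset {κ : Type u} (M : κ → ModSite.Mod O) {W : C} (hW : CoprodSect.QcObj J W)
    (g : (genMod O).G.obj W ⟶ ∐ M) : ∃ s : Finset κ, g ≫ FinSupp.idem M s = g := by
  classical
  obtain ⟨A, y, hy⟩ := CoprodSect.exists_combination M hW (eMod O W (∐ M) g)
  refine ⟨A, (eMod O W (∐ M)).injective ?_⟩
  refine (eMod_naturality_right O g (FinSupp.idem M A)).trans ?_
  show ((FinSupp.idem M A).val.app (op W)).hom (eMod O W (∐ M) g) = eMod O W (∐ M) g
  rw [hy, map_sum]
  refine Finset.sum_congr rfl fun i hi => ?_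
  exact congrArg (fun k : M i ⟶ ∐ M => (k.val.app (op W)).hom (y i))
    (show Sigma.ι M i ≫ FinSupp.idem M A = Sigma.ι M i by rw [FinSupp.ι_idem, if_pos hi])

variable {Q : ObjectProperty (ModSite.Mod O)}

variable (B : Set C)
  (hB : ∀ U : C, ∃ (ι : Type u) (Y : ι → C) (f : ∀ i, Y i ⟶ U), Sieve.ofArrows Y f ∈ J U ∧ ∀ i, Y i ∈ B)
  (hvan : ∀ U ∈ B, ∀ F, Q F → ∀ k : ℕ, 0 < k → Subsingleton (ModSite.HU O F k U))
  [Q.IsClosedUnderIsomorphisms]
  (hsum : ∀ (κ : Type u) (M : κ → ModSite.Mod O), (∀ i, Q (M i)) → Q (∐ M))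

include hB hvan hsum in
/-- Free modules on quasi-compact members of `B`. -/
theorem rel_free {U : C} (hU : U ∈ B) (hqc : CoprodSect.QcObj J U) :
    Rel Q ((DerivedCategory.singleFunctor (ModSite.Mod O) 0).obj ((genMod O).G.obj U)) :=
  haveI := H10Coh.isGrothendieckAbelian_sheafOfModules (ModSite.ringSh O)
  rel_gen (genMod O) B hB (fun V hV F hF k hk => (van_mod_iff O k V F).2 (hvan V hV F hF k hk)) hsum hU
    fun _ M g => exists_finset M hqc g

end Site

section Space

variable {T : Type u} [TopologicalSpace T] {O : Sheaf (Opens.grothendieckTopology T) CommRingCat.{u}}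
  {Q : ObjectProperty (ModSite.Mod O)}

/-- The Mayer–Vietoris step. -/
theorem rel_sup {U V : Opens T}
    (hU : Rel Q ((DerivedCategory.singleFunctor (ModSite.Mod O) 0).obj ((genMod O).G.obj U)))
    (hV : Rel Q ((DerivedCategory.singleFunctor (ModSite.Mod O) 0).obj ((genMod O).G.obj V)))
    (hUV : Rel Q ((DerivedCategory.singleFunctor (ModSite.Mod O) 0).obj ((genMod O).G.obj (U ⊓ V)))) :
    Rel Q ((DerivedCategory.singleFunctor (ModSite.Mod O) 0).obj ((genMod O).G.obj (U ⊔ V))) := by
  obtain ⟨f, g, w, hS⟩ := ModMV.exists_seq O U V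
  exact Rel.of_shortExact hS hUV (rel_biprod hU hV)

end Space

end Groth.Agent.H8FSch.DCompact
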