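import Groth.Agent.H8FSch.DCompact
import Groth.Agent.H15Site.FreePush
import Groth.Agent.H16Derived.KInjRes.Products

/-!
# Functors which commute with direct sums because local classes have finite support
-/

set_option autoImplicit false
set_option linter.style.haveILetI false
set_option linter.unusedSectionVars false

universe w v u v'

open CategoryTheory CategoryTheory.Limits CategoryTheory.Pretriangulated Opposite

attribute [local instance] HasDerivedCategory.standard

namespace Groth.Agent.H8FSch.DSum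

open H15Site H15Site.SiteGen H15Site.SiteGenInst H16Derived.QCohD

section Abstract

variable {A : Type v} [Category.{u} A] [Abelian A]
  {A' : Type (u + 1)} [Category.{u} A'] [Abelian A'] [IsGrothendieckAbelian.{u} A']
  {C : Type u} [SmallCategory C] {J : GrothendieckTopology C} (𝔾 : Gen J A') (B : Set C)
  (hB : ∀ U : C, ∃ (ι : Type u) (Y : ι → C) (f : ∀ i, Y i ⟶ U), Sieve.ofArrows Y f ∈ J U ∧ ∀ i, Y i ∈ B)
  (R : DerivedCategory A ⥤ DerivedCategory A') [R.Additive] {κ : Type u} (X : κ → DerivedCategory A)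
  [HasCoproduct X] [HasCoproduct fun a => R.obj (X a)]

theorem comparison_proj (a : κ) :
    sigmaComparison R X ≫ R.map (FinSupp.proj X a) = FinSupp.proj (fun b => R.obj (X b)) a := by
  classical
  refine Sigma.hom_ext _ _ fun k => ?_
  rw [ι_comp_sigmaComparison_assoc, ← Functor.map_comp]
  simp only [FinSupp.proj, Sigma.ι_desc]
  by_cases h : k = a
  · subst h; simp
  · simp [h]

include hB in
/-- The comparison map of `R` is invertible when classes on `B` into `R` of the sum, and sections
on `B` of sums, have finite support. -/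
theorem isIso_comparison
    (hcls : ∀ Y ∈ B, ∀ (m : ℤ) (y : (DerivedCategory.singleFunctor A' 0).obj (𝔾.G.obj Y) ⟶
      (R.obj (∐ X))⟦m⟧), ∃ s : Finset κ, y ≫ (R.map (FinSupp.idem X s))⟦m⟧' = y)
    (hfin : ∀ Y ∈ B, ∀ (M : κ → A') (g : 𝔾.G.obj Y ⟶ ∐ M), ∃ s : Finset κ, g ≫ FinSupp.idem M s = g) :
    IsIso (sigmaComparison R X) := by
  classical
  rw [DerivedCategory.isIso_iff]
  intro m
  let H := DerivedCategory.homologyFunctor A' m
  let φ := sigmaComparison R X
  let RX := fun a => R.obj (X a)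
  haveI := DCompact.preservesColimit_homology RX m
  let σX := PreservesCoproduct.iso H RX
  have hσ : σX.inv = sigmaComparison H RX := PreservesCoproduct.inv_hom H RX
  haveI : Mono (H.map φ) := Preadditive.mono_of_cancel_zero _ fun {Z} ψ hψ => 𝔾.gen ψ fun U g => by
    obtain ⟨ι, Yc, f, hf, hY⟩ := hB U
    refine 𝔾.sep hf _ ?_
    rintro W _ ⟨_, p, _, ⟨i⟩, rfl⟩
    rw [Functor.map_comp, Category.assoc]
    let r := 𝔾.G.map (f i) ≫ g ≫ ψ
    suffices hr : r = 0 by rw [show 𝔾.G.map (f i) ≫ g ≫ ψ = r from rfl, hr, comp_zero]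
    have h0 : ∀ a, r ≫ H.map (FinSupp.proj RX a) = 0 := fun a => by
      rw [show FinSupp.proj RX a = φ ≫ R.map (FinSupp.proj X a) from (comparison_proj R X a).symm,
        Functor.map_comp, ← Category.assoc]
      rw [show r ≫ H.map φ = 0 by
        show (𝔾.G.map (f i) ≫ g ≫ ψ) ≫ H.map φ = 0
        rw [Category.assoc, Category.assoc, hψ, comp_zero, comp_zero], zero_comp]
    obtain ⟨s, hs⟩ := hfin (Yc i) (hY i) (fun a => H.obj (RX a)) (r ≫ σX.hom)
    have hnat := FinSupp.sigmaComparison_idem H RX s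
    rw [← hσ] at hnat
    have h1 : r ≫ H.map (FinSupp.idem RX s) = r := by
      calc r ≫ H.map (FinSupp.idem RX s)
          = (r ≫ σX.hom) ≫ σX.inv ≫ H.map (FinSupp.idem RX s) := by
            exact ((Category.assoc _ _ _).trans (congrArg (r ≫ ·) (σX.hom_inv_id_assoc _))).symm
        _ = (r ≫ σX.hom) ≫ FinSupp.idem _ s ≫ σX.inv := by rw [hnat]
        _ = r := by rw [← Category.assoc (r ≫ σX.hom), hs, Category.assoc, σX.hom_inv_id, Category.comp_id]
    rw [← h1, FinSupp.idem, Functor.map_sum, Preadditive.comp_sum]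
    refine Finset.sum_eq_zero fun a _ => ?_
    rw [Functor.map_comp, ← Category.assoc, h0, zero_comp]
  haveI : Epi (H.map φ) := Preadditive.epi_of_cancel_zero _ fun {Z} ψ hψ => 𝔾.gen ψ fun U s => by
    obtain ⟨S, hS, hlift⟩ := exists_local_lift 𝔾 s
    obtain ⟨ι, Yc, f, hfS, hf, hY⟩ := exists_cofinal_mem B hB hS
    refine 𝔾.sep hf _ ?_
    rintro W _ ⟨_, p, _, ⟨i⟩, rfl⟩
    obtain ⟨y, hy⟩ := hlift (f i) (hfS i)
    obtain ⟨t, ht⟩ := hcls (Yc i) (hY i) m y
    rw [Functor.map_comp, Category.assoc, ← Category.assoc (𝔾.G.map (f i)), ← hy, ← ht, cls_comp,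
      FinSupp.idem, Functor.map_sum, Functor.map_sum, Preadditive.comp_sum, Preadditive.sum_comp,
      Finset.sum_eq_zero, comp_zero]
    intro a _
    rw [Functor.map_comp, ← ι_comp_sigmaComparison R X a, Functor.map_comp, Functor.map_comp]
    simp only [Category.assoc]
    rw [show H.map (sigmaComparison R X) ≫ ψ = 0 from hψ, comp_zero, comp_zero, comp_zero]
  exact isIso_of_mono_of_epi _

end Abstract

section Adjoint

variable {D : Type v} [Category.{w} D] [Preadditive D] [HasShift D ℤ]
  [∀ n : ℤ, (shiftFunctor D n).Additive]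
  {E : Type v'} [Category.{w} E] [Preadditive E] [HasShift E ℤ]
  [∀ n : ℤ, (shiftFunctor E n).Additive]
  (L : E ⥤ D) (R : D ⥤ E) [R.Additive] (adj : L ⊣ R) (P : D → Prop)

include adj in
/-- Classes into `R` of a sum have finite support when the left adjoint is relatively compact. -/
theorem exists_finset {κ : Type u} (X : κ → D) [HasCoproduct X] (hX : ∀ a, P (X a)) {K : E} (m : ℤ)
    (h : FinSupp.Holds.{u} P (L.obj (K⟦-m⟧))) (y : K ⟶ (R.obj (∐ X))⟦m⟧) :
    ∃ s : Finset κ, y ≫ (R.map (FinSupp.idem X s))⟦m⟧' = y := by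
  let e := shiftFunctorCompIsoId E m (-m) (add_neg_cancel m)
  obtain ⟨s, hs⟩ := h κ X hX ((adj.homEquiv _ _).symm (y⟦-m⟧' ≫ e.hom.app _))
  refine ⟨s, (shiftFunctor E (-m)).map_injective ((cancel_mono (e.hom.app _)).1 ?_)⟩
  have h2 := congrArg (adj.homEquiv _ _) hs
  rw [adj.homEquiv_naturality_right, Equiv.apply_symm_apply] at h2
  refine Eq.trans ?_ h2
  rw [Functor.map_comp, Category.assoc, Category.assoc]
  exact congrArg (y⟦-m⟧' ≫ ·) (e.hom.naturality (R.map (FinSupp.idem X s)))

end Adjoint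

section Coproduct

/-- Coproducts in derived categories of Grothendieck abelian categories. -/
theorem hasCoproduct {A : Type (u + 1)} [Category.{u} A] [Abelian A] [IsGrothendieckAbelian.{u} A]
    {κ : Type u} (X : κ → DerivedCategory A) : HasCoproduct X :=
  haveI := H16Derived.KInjRes.hasCoproducts_derivedCategory (A := A) κ
  inferInstance

end Coproduct

section Derived

variable {A₁ : Type (u + 1)} [Category.{u} A₁] [Abelian A₁] {A₂ : Type (u + 1)} [Category.{u} A₂] [Abelian A₂]
  (L : DerivedCategory A₁ ⥤ DerivedCategory A₂) [L.CommShift ℤ] [L.IsTriangulated]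
  (R : DerivedCategory A₂ ⥤ DerivedCategory A₁) (adj : L ⊣ R) (P : DerivedCategory A₂ → Prop)

include adj in
theorem additive_right : R.Additive := adj.right_adjoint_additive

include adj in
/-- Transport of relative compactness along a triangulated left adjoint. -/
theorem exists_finset_derived {K₁ : DerivedCategory A₁} {K₂ : DerivedCategory A₂} (e : L.obj K₁ ≅ K₂)
    (h : ∀ n : ℤ, FinSupp.Holds.{u} P (K₂⟦n⟧)) {κ : Type u} (X : κ → DerivedCategory A₂) [HasCoproduct X]
    (hX : ∀ a, P (X a)) (m : ℤ) (y : K₁ ⟶ (R.obj (∐ X))⟦m⟧) :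
    ∃ s : Finset κ, y ≫ (R.map (FinSupp.idem X s))⟦m⟧' = y :=
  haveI := adj.right_adjoint_additive
  exists_finset L R adj P X hX m
    (FinSupp.of_iso ((L.commShiftIso (-m)).app _ ≪≫ (shiftFunctor _ (-m)).mapIso e).symm (h (-m))) y

end Derived

section Push

attribute [local instance] H15Site.PullKFlat.additive_pull
attribute [local instance 10000] H15Site.SiteInst.hasSheafifySite H15Site.SiteInst.hasWeakSheafifySite

variable {C D : Type u} [SmallCategory C] [SmallCategory D] {J : GrothendieckTopology C}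
  {K : GrothendieckTopology D} {O_C : Sheaf J CommRingCat.{u}} {O_D : Sheaf K CommRingCat.{u}}
  (f : ModSite.RMor O_C O_D) [SiteCmp.HasRpushD f] (Q : ObjectProperty (ModSite.Mod O_C))
  (B : Set D)
  (hB : ∀ U : D, ∃ (ι : Type u) (Y : ι → D) (g : ∀ i, Y i ⟶ U), Sieve.ofArrows Y g ∈ K U ∧ ∀ i, Y i ∈ B)
  (hqc : ∀ Y ∈ B, CoprodSect.QcObj K Y)
  (hrel : ∀ Y ∈ B, DCompact.Rel Q
    ((DerivedCategory.singleFunctor (ModSite.Mod O_C) 0).obj ((genMod O_C).G.obj (f.fn.obj Y))))

include hB hqc hrel in
/-- `Rf_*` commutes with direct sums of good complexes. -/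
theorem preservesColimit_push {κ : Type u} (X : κ → DerivedCategory (ModSite.Mod O_C))
    (hX : ∀ a, DCompact.Good Q (X a)) :
    PreservesColimit (Discrete.functor X) (SiteCmp.RpushD f) := by
  haveI := H10Coh.isGrothendieckAbelian_sheafOfModules (ModSite.ringSh O_C)
  haveI := H10Coh.isGrothendieckAbelian_sheafOfModules (ModSite.ringSh O_D)
  obtain ⟨L, _, _, hL, ⟨adj⟩⟩ := FreePush.exists_leftAdjoint (G := f.pull) (F := f.push) f.adj
    (PullAdapted.pullAdapted f)
  haveI : (SiteCmp.RpushD f).Additive := additive_right L _ adj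
  haveI : HasCoproduct X := hasCoproduct X
  haveI : HasCoproduct fun a => (SiteCmp.RpushD f).obj (X a) := hasCoproduct _
  haveI := isIso_comparison (genMod O_D) B hB (SiteCmp.RpushD f) X
    (fun Y hY m y => by
      obtain ⟨e⟩ := hL ((CochainComplex.singleFunctor (ModSite.Mod O_D) 0).obj
        ((freeModFunctor O_D).obj Y)) (FreePush.kflatFlat_single Y)
      let e' : L.obj ((DerivedCategory.singleFunctor (ModSite.Mod O_D) 0).obj ((genMod O_D).G.obj Y)) ≅
          (DerivedCategory.singleFunctor (ModSite.Mod O_C) 0).obj ((genMod O_C).G.obj (f.fn.obj Y)) :=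
        e ≪≫ DerivedCategory.Q.mapIso
            ((HomologicalComplex.singleMapHomologicalComplex f.pull (ComplexShape.up ℤ) 0).app _) ≪≫
          (DerivedCategory.singleFunctor (ModSite.Mod O_C) 0).mapIso (FreePush.pullFreeIso f Y)
      exact exists_finset_derived L (SiteCmp.RpushD f) adj (DCompact.Good Q) e' (hrel Y hY) X hX m y)
    (fun Y hY M g => DCompact.exists_finset M (hqc Y hY) g)
  exact PreservesCoproduct.of_iso_comparison _ X

end Push

end Groth.Agent.H8FSch.DSum
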