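import Groth.Agent.H8FSch.AffineDerived
import Groth.Agent.H8FSch.IndKer
import Groth.Agent.H8FSch.DSum
import Groth.Agent.H10Coh.Induction

/-!
# Derived direct images commute with direct sums of complexes with ind-coherent cohomology
-/

set_option autoImplicit false
set_option linter.style.haveILetI false

universe u v

attribute [-instance] CategoryTheory.catToReflQuiver
attribute [local instance] HasDerivedCategory.standard

open AlgebraicGeometry CategoryTheory CategoryTheory.Limits TopologicalSpace Opposite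

namespace Groth.Agent.H8FSch

/-- A full coreflective subcategory closed under isomorphisms is closed under direct sums. -/
theorem prop_sigma_of_isLeftAdjoint {A : Type v} [Category.{u} A] (P : ObjectProperty A)
    [P.IsClosedUnderIsomorphisms] [P.ι.IsLeftAdjoint] {κ : Type u} (M : κ → A) [HasCoproduct M]
    (hM : ∀ i, P (M i)) : P (∐ M) := by
  let adj := Adjunction.ofIsLeftAdjoint P.ι
  let F := P.ι.rightAdjoint
  let X := ∐ M
  let m : ∀ i, M i ⟶ P.ι.obj (F.obj X) := fun i =>
    P.ι.map (adj.homEquiv ⟨M i, hM i⟩ X (Sigma.ι M i))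
  have hm : ∀ i, m i ≫ adj.counit.app X = Sigma.ι M i := fun i => by
    refine (adj.homEquiv_counit (g := adj.homEquiv ⟨M i, hM i⟩ X (Sigma.ι M i))).symm.trans ?_
    exact (adj.homEquiv _ _).symm_apply_apply _
  let s := Sigma.desc m
  have h1 : s ≫ adj.counit.app X = 𝟙 X := Sigma.hom_ext _ _ fun i => by
    rw [Sigma.ι_desc_assoc, hm, Category.comp_id]
  have h2 : adj.counit.app X ≫ s = 𝟙 _ := by
    obtain ⟨g, hg⟩ : ∃ g : F.obj X ⟶ F.obj X, P.ι.map g = adj.counit.app X ≫ s :=
      ⟨ObjectProperty.homMk (adj.counit.app X ≫ s), rfl⟩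
    rw [← hg]
    refine Eq.trans (congrArg P.ι.map ((adj.homEquiv (F.obj X) X).symm.injective (?_ :
      (adj.homEquiv (F.obj X) X).symm g = (adj.homEquiv (F.obj X) X).symm (𝟙 _)))) (P.ι.map_id _)
    rw [adj.homEquiv_counit, adj.homEquiv_counit, CategoryTheory.Functor.map_id, Category.id_comp, hg,
      Category.assoc, h1]
    exact Category.comp_id _
  exact P.prop_of_iso ⟨adj.counit.app X, s, h2, h1⟩ (F.obj X).property

variable {𝔛 : FSch.Sys.{u}} (hX : 𝔛.IsLocNoethFormal) [CompactSpace (𝔛.X 0)]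

theorem ind_sigma (κ : Type u) (M : κ → FSch.ModF 𝔛 hX.1)
    (hM : ∀ i, (ObjectProperty.ind.{u} (Coh 𝔛 hX.1)) (M i)) :
    (ObjectProperty.ind.{u} (Coh 𝔛 hX.1)) (∐ M) :=
  haveI := isLeftAdjoint_ι' hX
  prop_sigma_of_isLeftAdjoint _ M hM

/-- Free modules on quasi-compact opens are compact relative to ind-coherent cohomology. -/
theorem rel_free_open (U : (𝔛.X 0).Opens) (hU : IsCompact (U : Set (𝔛.X 0))) :
    DCompact.Rel (ObjectProperty.ind.{u} (Coh 𝔛 hX.1))
      ((DerivedCategory.singleFunctor (FSch.ModF 𝔛 hX.1) 0).obj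
        ((H15Site.SiteGenInst.genMod (𝔛.Osh hX.1)).G.obj U)) := by
  haveI := hX.2.2 0
  refine H10Coh.qcqs_induction (fun W : (𝔛.X 0).Opens =>
    DCompact.Rel (ObjectProperty.ind.{u} (Coh 𝔛 hX.1))
      ((DerivedCategory.singleFunctor (FSch.ModF 𝔛 hX.1) 0).obj
        ((H15Site.SiteGenInst.genMod (𝔛.Osh hX.1)).G.obj W)))
    (fun W hW => ?_) (fun A B _ _ hA hB hAB => DCompact.rel_sup hA hB hAB) U hU
  exact DCompact.rel_free {V : (𝔛.X 0).Opens | IsAffineOpen V} exists_affine_cover
    (fun V hV F hF k hk => subsingleton_HU_of_ind hX F hF V hV k hk) (ind_sigma hX) hW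
    (H15Site.CoprodSect.qcObj_opens hW.isCompact)

variable {𝔜 : FSch.Sys.{u}} (hY : 𝔜.IsFormal) (f : 𝔛 ⟶ 𝔜) [SiteCmp.HasRpushD (FSch.homMor f hX.1 hY)]

/-- `Rf_*` commutes with direct sums of complexes with ind-coherent cohomology. -/
theorem preservesColimit_rpushD (ι : Type u) (E : ι → DerivedCategory (FSch.ModF 𝔛 hX.1))
    (hE : ∀ (a : ι) (i : ℤ), (ObjectProperty.ind.{u} (Coh 𝔛 hX.1)) (SiteCmp.HMod (E a) i)) :
    PreservesColimit (Discrete.functor E) (SiteCmp.RpushD (FSch.homMor f hX.1 hY)) := by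
  haveI := hX.2.2 0
  haveI : IsNoetherian (𝔛.X 0) := ⟨⟩
  haveI : NoetherianSpace (𝔛.X 0) := inferInstance
  exact DSum.preservesColimit_push (FSch.homMor f hX.1 hY) _ {V : (𝔜.X 0).Opens | IsAffineOpen V}
    exists_affine_cover (fun Y hYm => H15Site.CoprodSect.qcObj_opens hYm.isCompact)
    (fun Y _ => rel_free_open hX _ (NoetherianSpace.isCompact _)) E hE

end Groth.Agent.H8FSch
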