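import Mathlib.CategoryTheory.Abelian.GrothendieckCategory.Basic
import Mathlib.CategoryTheory.Abelian.GrothendieckAxioms.Colim
import Mathlib.CategoryTheory.ObjectProperty.Ind
import Mathlib.CategoryTheory.ObjectProperty.Kernels
import Mathlib.CategoryTheory.Adjunction.Comma

/-!
# The coreflection onto the filtered colimits of a small class of objects
-/

set_option autoImplicit false
set_option linter.style.haveILetI false

universe v u

open CategoryTheory CategoryTheory.Limits

namespace Groth.Agent.H8FSch.Coreflect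

variable {B : Type u} [Category.{v} B] [Abelian B] [IsGrothendieckAbelian.{v} B]

/-- The pull backs of a morphism along the legs of a filtered colimit are jointly epimorphic. -/
theorem hom_eq_zero_of_pullbacks {J : Type v} [SmallCategory J] [IsFiltered J] {D : J ⥤ B} {G T : B}
    (d : G ⟶ colimit D) (t : G ⟶ T)
    (h : ∀ (j : J) (Z : B) (p : Z ⟶ G) (q : Z ⟶ D.obj j), p ≫ d = q ≫ colimit.ι D j → p ≫ t = 0) :
    t = 0 := by
  let a : (Functor.const J).obj G ⟶ (Functor.const J).obj (colimit D) := (Functor.const J).map d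
  let b : D ⟶ (Functor.const J).obj (colimit D) := (colimit.cocone D).ι
  haveI : IsIso (colim.map b) := by
    haveI : IsConnected J := IsFiltered.isConnected J
    let c : colimit ((Functor.const J).obj (colimit D)) ⟶ colimit D :=
      colimit.desc _ (constCocone J (colimit D))
    haveI : IsIso c :=
      (IsColimit.coconePointUniqueUpToIso (colimit.isColimit _) (isColimitConstCocone J _)).isIso_hom
    have : colim.map b ≫ c = 𝟙 _ := colimit.hom_ext fun j => by
      rw [colim_map, ι_colimMap_assoc]
      erw [colimit.ι_desc]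
      rfl
    exact IsIso.of_isIso_fac_right this
  have sq := (IsPullback.of_hasPullback a b).map (colim (J := J) (C := B))
  haveI : IsIso (colim.map (pullback.fst a b)) := sq.isIso_fst_of_isIso
  let c : colimit ((Functor.const J).obj G) ⟶ G := colimit.desc _ (constCocone J G)
  have hct : c ≫ t = 0 := by
    rw [← cancel_epi (colim.map (pullback.fst a b)), comp_zero]
    refine colimit.hom_ext fun j => ?_
    rw [comp_zero]
    have hj : (pullback.fst a b).app j ≫ d = (pullback.snd a b).app j ≫ colimit.ι D j :=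
      congr_app (pullback.condition (f := a) (g := b)) j
    have := h j _ ((pullback.fst a b).app j) ((pullback.snd a b).app j) hj
    rw [colim_map, ι_colimMap_assoc]
    erw [colimit.ι_desc_assoc]
    exact (congrArg (_ ≫ ·) (Category.id_comp t)).trans this
  haveI : IsConnected J := IsFiltered.isConnected J
  haveI : IsIso c :=
    (IsColimit.coconePointUniqueUpToIso (colimit.isColimit _) (isColimitConstCocone J G)).isIso_hom
  exact (cancel_epi c).1 (hct.trans comp_zero.symm)

variable (P : ObjectProperty B)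

/-- The kernels of maps from members of the class to filtered colimits of members are covered by
members. -/
def CoveredKernels : Prop :=
  ∀ ⦃X Y : B⦄, P X → ObjectProperty.ind.{v} P Y → ∀ (u : X ⟶ Y) ⦃T : B⦄ (t : kernel u ⟶ T),
    (∀ (Q : B), P Q → ∀ q : Q ⟶ kernel u, q ≫ t = 0) → t = 0

theorem coveredKernels_of_isClosedUnderKernels
    [(ObjectProperty.ind.{v} P).IsClosedUnderKernels] : CoveredKernels P := by
  intro X Y hX hY u T t ht
  obtain ⟨K, _, _, pres, hp⟩ :=
    (ObjectProperty.ind.{v} P).prop_kernel u (P.le_ind _ hX) hY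
  exact pres.isColimit.hom_ext fun k => (ht _ (hp k) (pres.ι.app k)).trans comp_zero.symm

variable {P}

theorem exists_coreflection [ObjectProperty.EssentiallySmall.{v} P] [P.IsClosedUnderIsomorphisms]
    (hzero : ∃ Z, IsZero Z ∧ P Z)
    (hsum : ∀ X Y, P X → P Y → P (X ⊞ Y))
    (hcok : ∀ ⦃X Y : B⦄ (f : X ⟶ Y), P X → P Y → P (cokernel f))
    (hker : CoveredKernels P) (M : B) :
    ∃ (R : B) (ε : R ⟶ M), ObjectProperty.ind.{v} P R ∧
      ∀ (X : B), ObjectProperty.ind.{v} P X → ∀ f : X ⟶ M, ∃! g : X ⟶ R, g ≫ ε = f := by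
  let T : SmallModel.{v} P.FullSubcategory ⥤ B := (equivSmallModel _).inverse ⋙ P.ι
  have hTP : ∀ c, P (T.obj c) := fun c => ((equivSmallModel _).inverse.obj c).property
  let J := CostructuredArrow T M
  have hobj : ∀ (X : B) (_ : P X) (f : X ⟶ M),
      ∃ (j : J) (e : T.obj j.left ≅ X), e.hom ≫ f = j.hom := fun X hX f =>
    let e := P.ι.mapIso ((equivSmallModel P.FullSubcategory).unitIso.app ⟨X, hX⟩).symm
    ⟨CostructuredArrow.mk (S := T) (e.hom ≫ f), e, rfl⟩
  have hmor : ∀ (j j' : J) (g : T.obj j.left ⟶ T.obj j'.left), g ≫ j'.hom = j.hom →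
      ∃ φ : j ⟶ j', T.map φ.left = g := fun j j' g hg =>
    ⟨CostructuredArrow.homMk (T.preimage g) (by simpa using hg), by simp⟩
  haveI : IsFiltered J := by
    obtain ⟨Z, hZ, hPZ⟩ := hzero
    obtain ⟨j₀, -, -⟩ := hobj Z hPZ 0
    haveI : Nonempty J := ⟨j₀⟩
    haveI : IsFilteredOrEmpty J := ⟨fun j j' => ?_, fun j j' a b => ?_⟩
    · constructor
    · obtain ⟨k, e, he⟩ := hobj (T.obj j.left ⊞ T.obj j'.left) (hsum _ _ (hTP _) (hTP _))
        (biprod.desc j.hom j'.hom)
      obtain ⟨φ, -⟩ := hmor j k (biprod.inl ≫ e.inv) (by rw [← he]; simp)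
      obtain ⟨ψ, -⟩ := hmor j' k (biprod.inr ≫ e.inv) (by rw [← he]; simp)
      exact ⟨k, φ, ψ, trivial⟩
    · obtain ⟨k, e, he⟩ := hobj (cokernel (T.map a.left - T.map b.left)) (hcok _ (hTP _) (hTP _))
        (cokernel.desc _ j'.hom (by rw [Preadditive.sub_comp, CostructuredArrow.w a, CostructuredArrow.w b, sub_self]))
      obtain ⟨φ, hφ⟩ := hmor j' k (cokernel.π _ ≫ e.inv) (by rw [← he]; simp)
      refine ⟨k, φ, CostructuredArrow.hom_ext _ _ (T.map_injective ?_)⟩
      rw [CostructuredArrow.comp_left, CostructuredArrow.comp_left, Functor.map_comp,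
        Functor.map_comp, ← sub_eq_zero, ← Preadditive.sub_comp, hφ, cokernel.condition_assoc,
        zero_comp]
  obtain ⟨R, l, ε, hε, hw, hR, hpull⟩ : ∃ (R : B) (l : ∀ j : J, T.obj j.left ⟶ R) (ε : R ⟶ M),
      (∀ j, l j ≫ ε = j.hom) ∧ (∀ (j k : J) (φ : j ⟶ k), T.map φ.left ≫ l k = l j) ∧
      ObjectProperty.ind.{v} P R ∧
      ∀ {G : B} (d : G ⟶ R),
        (∀ (j : J) (Z : B) (p : Z ⟶ G) (q : Z ⟶ T.obj j.left), p ≫ d = q ≫ l j → p ≫ d = 0) →
          d = 0 := by
    let D : J ⥤ B := CostructuredArrow.proj T M ⋙ T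
    exact ⟨colimit D, colimit.ι D,
      colimit.desc D { pt := M, ι :=
        { app := fun j => j.hom
          naturality := fun j k φ => (CostructuredArrow.w φ).trans (Category.comp_id _).symm } },
      fun j => colimit.ι_desc _ j, fun j k φ => colimit.w D φ,
      ⟨J, inferInstance, inferInstance, .colimit D, fun j => hTP j.left⟩,
      fun d h => hom_eq_zero_of_pullbacks d d h⟩
  have inj : ∀ (G : B), P G → ∀ d : G ⟶ R, d ≫ ε = 0 → d = 0 := by
    intro G hG d hd
    refine hpull d fun j Z p q hpq => ?_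
    let u : G ⊞ T.obj j.left ⟶ R := biprod.desc d (-l j)
    have key : kernel.ι u ≫ biprod.snd ≫ l j = 0 := by
      refine hker (hsum _ _ hG (hTP _)) hR u _ fun Q hQ r => ?_
      let a : Q ⟶ T.obj j.left := r ≫ kernel.ι u ≫ biprod.snd
      have h0 : r ≫ kernel.ι u ≫ biprod.fst ≫ d = a ≫ l j := by
        have h1 : r ≫ kernel.ι u ≫ biprod.desc d (-l j) = 0 := by
          rw [kernel.condition u, comp_zero]
        simp only [biprod.desc_eq, Preadditive.comp_add, Preadditive.comp_neg, add_neg_eq_zero] at h1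
        simpa only [a, Category.assoc] using h1
      have ha : a ≫ j.hom = 0 := by
        rw [← hε, ← Category.assoc, ← h0]
        simp [hd]
      obtain ⟨k, e, he⟩ := hobj (cokernel a) (hcok a hQ (hTP _)) (cokernel.desc a j.hom ha)
      obtain ⟨φ, hφ⟩ := hmor j k (cokernel.π a ≫ e.inv) (by rw [← he]; simp)
      calc r ≫ kernel.ι u ≫ biprod.snd ≫ l j = a ≫ l j := by simp [a]
        _ = 0 := by rw [← hw j k φ, hφ]; simp
    have hw' : biprod.lift p q ≫ u = 0 := by simp [u, hpq]
    calc p ≫ d = q ≫ l j := hpq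
      _ = kernel.lift u _ hw' ≫ kernel.ι u ≫ biprod.snd ≫ l j := by simp
      _ = 0 := by rw [key, comp_zero]
  refine ⟨R, ε, hR, fun X hX f => ?_⟩
  obtain ⟨K, _, _, pres, hp⟩ := hX
  choose jk ek hek using fun k => hobj (pres.diag.obj k) (hp k) (pres.ι.app k ≫ f)
  let c : Cocone pres.diag :=
    { pt := R
      ι :=
        { app := fun k => (ek k).inv ≫ l (jk k)
          naturality := fun k k' s => by
            obtain ⟨φ, hφ⟩ := hmor (jk k) (jk k') ((ek k).hom ≫ pres.diag.map s ≫ (ek k').inv)
              (by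
                have e1 := pres.ι.naturality s
                simp only [Functor.const_obj_obj, Functor.const_obj_map, Category.comp_id] at e1
                simp only [← hek, Category.assoc, Iso.inv_hom_id_assoc, reassoc_of% e1])
            have := hw _ _ φ
            rw [hφ] at this
            refine Eq.trans ?_ (Category.comp_id _).symm
            rw [← this]
            simp only [Category.assoc, Iso.inv_hom_id_assoc] } }
  refine ⟨pres.isColimit.desc c, pres.isColimit.hom_ext fun k => ?_, fun g hg => ?_⟩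
  · rw [pres.isColimit.fac_assoc]
    simp only [c, Category.assoc, hε]
    rw [← hek, Iso.inv_hom_id_assoc]
  · refine pres.isColimit.hom_ext fun k => sub_eq_zero.1 (inj _ (hp k) _ ?_)
    rw [Preadditive.sub_comp, sub_eq_zero, pres.isColimit.fac]
    simp only [c, Category.assoc, hε, hg]
    rw [← hek, Iso.inv_hom_id_assoc]

theorem isLeftAdjoint_ι [ObjectProperty.EssentiallySmall.{v} P] [P.IsClosedUnderIsomorphisms]
    (hzero : ∃ Z, IsZero Z ∧ P Z)
    (hsum : ∀ X Y, P X → P Y → P (X ⊞ Y))
    (hcok : ∀ ⦃X Y : B⦄ (f : X ⟶ Y), P X → P Y → P (cokernel f))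
    (hker : CoveredKernels P) : (ObjectProperty.ind.{v} P).ι.IsLeftAdjoint := by
  haveI : ∀ M : B, HasTerminal (CostructuredArrow (ObjectProperty.ind.{v} P).ι M) := fun M => by
    obtain ⟨R, ε, hR, h⟩ := exists_coreflection hzero hsum hcok hker M
    let RR : (ObjectProperty.ind.{v} P).FullSubcategory := ⟨R, hR⟩
    let ε' : (ObjectProperty.ind.{v} P).ι.obj RR ⟶ M := ε
    let E : CostructuredArrow (ObjectProperty.ind.{v} P).ι M := CostructuredArrow.mk ε'
    let g : ∀ A : CostructuredArrow (ObjectProperty.ind.{v} P).ι M, A.left.obj ⟶ R := fun A =>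
      (h A.left.obj A.left.property A.hom).choose
    refine (IsTerminal.ofUniqueHom (Y := E)
      (fun A => CostructuredArrow.homMk (f := A) (f' := E) (ObjectProperty.homMk (g A))
        (h A.left.obj A.left.property A.hom).choose_spec.1) fun A m => ?_).hasTerminal
    refine CostructuredArrow.hom_ext _ _ (ObjectProperty.hom_ext _ ?_)
    exact (h A.left.obj A.left.property A.hom).choose_spec.2 _ (CostructuredArrow.w m)
  exact isLeftAdjoint_of_costructuredArrowTerminals _

omit [IsGrothendieckAbelian.{v} B] in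
/-- A coreflective class of objects is closed under colimits. -/
theorem isClosedUnderColimitsOfShape {Q : ObjectProperty B} [Q.IsClosedUnderIsomorphisms]
    [Q.ι.IsLeftAdjoint] (J : Type*) [Category J] : Q.IsClosedUnderColimitsOfShape J := by
  refine ⟨?_⟩
  rintro X ⟨p⟩
  let adj := Adjunction.ofIsLeftAdjoint Q.ι
  let R := Q.ι.rightAdjoint
  let η : (R.obj X).obj ⟶ X := adj.counit.app X
  have lift : ∀ (A : Q.FullSubcategory) (g : A.obj ⟶ X), ∃! h : A.obj ⟶ (R.obj X).obj, h ≫ η = g :=
    fun A g => ⟨((adj.homEquiv A X) g).hom,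
      ((adj.homEquiv_counit _ _ _).symm.trans ((adj.homEquiv A X).symm_apply_apply g) :), fun h hh => by
        have e : (adj.homEquiv A X).symm (ObjectProperty.homMk h) = g := (adj.homEquiv_counit _ _ _).trans hh
        rw [← e, Equiv.apply_symm_apply]
        rfl⟩
  choose l hl hl' using fun j => lift ⟨_, p.prop_diag_obj j⟩ (p.ι.app j)
  have hη : ∀ (A : Q.FullSubcategory) (h h' : A.obj ⟶ (R.obj X).obj), h ≫ η = h' ≫ η → h = h' :=
    fun A h h' e => (lift A (h' ≫ η)).unique e rfl
  let c : Cocone p.diag :=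
    { pt := (R.obj X).obj
      ι :=
        { app := l
          naturality := fun i j s => by
            refine (hη ⟨_, p.prop_diag_obj i⟩ _ _ ?_).trans (Category.comp_id _).symm
            rw [Category.assoc, hl, hl]
            exact (p.ι.naturality s).trans (Category.comp_id _) } }
  let s : X ⟶ (R.obj X).obj := p.isColimit.desc c
  have hs : s ≫ η = 𝟙 X := p.isColimit.hom_ext fun j => by
    rw [p.isColimit.fac_assoc, Category.comp_id]
    exact hl j
  have hs' : η ≫ s = 𝟙 _ := hη (R.obj X) _ _ (by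
    rw [Category.assoc, hs, Category.comp_id, Category.id_comp])
  exact Q.prop_of_iso ⟨η, s, hs', hs⟩ (R.obj X).property

end Groth.Agent.H8FSch.Coreflect
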