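import Mathlib.CategoryTheory.Abelian.GrothendieckCategory.Basic
import Mathlib.CategoryTheory.Abelian.GrothendieckAxioms.Basic
import Mathlib.CategoryTheory.Abelian.Subcategory
import Mathlib.CategoryTheory.ObjectProperty.Ind
import Groth.Agent.H8FSch.Coreflect

/-!
# A coreflective class of filtered colimits of a small class is Grothendieck abelian
-/

set_option autoImplicit false
set_option linter.style.haveILetI false

universe v u

open CategoryTheory CategoryTheory.Limits

namespace Groth.Agent.H8FSch.IndGroth

variable {B : Type u} [Category.{v} B] [Abelian B] [IsGrothendieckAbelian.{v} B]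
  (Q : ObjectProperty B) [ObjectProperty.EssentiallySmall.{v} Q]

theorem isGrothendieckAbelian [(ObjectProperty.ind.{v} Q).IsClosedUnderIsomorphisms]
    [(ObjectProperty.ind.{v} Q).ι.IsLeftAdjoint]
    [(ObjectProperty.ind.{v} Q).ContainsZero] [(ObjectProperty.ind.{v} Q).IsClosedUnderKernels]
    [(ObjectProperty.ind.{v} Q).IsClosedUnderCokernels]
    [(ObjectProperty.ind.{v} Q).IsClosedUnderFiniteProducts]
    [PreservesFiniteLimits (ObjectProperty.ind.{v} Q).ι] :
    IsGrothendieckAbelian.{v} (ObjectProperty.ind.{v} Q).FullSubcategory := by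
  let P := ObjectProperty.ind.{v} Q
  haveI : HasColimitsOfSize.{v, v} B := IsGrothendieckAbelian.hasColimits B
  haveI hc : ∀ (J : Type v) [SmallCategory J], P.IsClosedUnderColimitsOfShape J :=
    fun J _ => Coreflect.isClosedUnderColimitsOfShape J
  haveI : HasColimitsOfSize.{v, v} P.FullSubcategory := ⟨fun J _ => inferInstance⟩
  haveI : AB5OfSize.{v, v} P.FullSubcategory := ⟨fun K _ _ => by
    haveI : ReflectsFiniteLimits P.ι := ⟨fun _ _ _ => inferInstance⟩
    exact HasExactColimitsOfShape.domain_of_functor K P.ι⟩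
  let T : SmallModel.{v} Q.FullSubcategory ⥤ B := (equivSmallModel _).inverse ⋙ Q.ι
  have hT : ∀ c, P (T.obj c) := fun c =>
    Q.le_ind _ ((equivSmallModel _).inverse.obj c).property
  let gen : SmallModel.{v} Q.FullSubcategory → P.FullSubcategory := fun c => ⟨T.obj c, hT c⟩
  have hsep : ObjectProperty.IsSeparating (ObjectProperty.ofObj gen) := by
    intro M N f g h
    obtain ⟨J, _, _, pres, hp⟩ := M.property
    refine ObjectProperty.hom_ext _ (pres.isColimit.hom_ext fun j => ?_)
    let e : T.obj ((equivSmallModel _).functor.obj ⟨pres.diag.obj j, hp j⟩) ≅ pres.diag.obj j :=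
      Q.ι.mapIso ((equivSmallModel Q.FullSubcategory).unitIso.app ⟨pres.diag.obj j, hp j⟩).symm
    rw [← cancel_epi e.hom]
    have h1 := h (gen ((equivSmallModel _).functor.obj ⟨pres.diag.obj j, hp j⟩))
      (ObjectProperty.ofObj_apply gen _) (ObjectProperty.homMk (e.hom ≫ pres.ι.app j))
    exact congrArg (fun (a : _ ⟶ N) => a.hom) h1 |> fun h2 =>
      (Category.assoc _ _ _).symm.trans (h2.trans (Category.assoc _ _ _))
  haveI : HasSeparator P.FullSubcategory := ⟨_, hsep.isSeparator_coproduct⟩
  exact { }

end Groth.Agent.H8FSch.IndGroth
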