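import Groth.Agent.H8FSch.DAdjoint
import Groth.Agent.H8FSch.IndGroth
import Groth.Agent.H8FSch.GlobalSum

/-!
# The right adjoint of `Rf_*` on the derived category of ind-coherent modules
-/

set_option autoImplicit false
set_option linter.style.haveILetI false

universe w w' u v

attribute [-instance] CategoryTheory.catToReflQuiver
attribute [local instance] HasDerivedCategory.standard

open CategoryTheory CategoryTheory.Limits

namespace Groth.Agent.H8FSch.RpushAdjoint

section Abstract

variable {A : Type (u + 1)} [Category.{u} A] [Abelian A]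
  {B : Type (u + 1)} [Category.{u} B] [Abelian B]
  (G : A ⥤ B) [G.Additive] [PreservesFiniteLimits G] [PreservesFiniteColimits G]

/-- Cohomology of the image under an induced functor. -/
theorem good_map (P : ObjectProperty B) [P.IsClosedUnderIsomorphisms] (hP : ∀ M, P (G.obj M))
    (X : DerivedCategory A) : DCompact.Good P (G.mapDerivedCategory.obj X) := fun q => by
  haveI := Localization.essSurj (DerivedCategory.Q (C := A))
    (HomologicalComplex.quasiIso A (ComplexShape.up ℤ))
  let C := DerivedCategory.Q.objPreimage X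
  let H := DerivedCategory.homologyFunctor B q
  let e₁ : H.obj (G.mapDerivedCategory.obj X) ≅
      ((G.mapHomologicalComplex (ComplexShape.up ℤ)).obj C).homology q :=
    H.mapIso (G.mapDerivedCategory.mapIso (DerivedCategory.Q.objObjPreimageIso X).symm ≪≫
      G.mapDerivedCategoryFactors.app C) ≪≫ (DerivedCategory.homologyFunctorFactors B q).app _
  exact P.prop_of_iso (e₁ ≪≫ (C.sc q).mapHomologyIso G).symm (hP _)

/-- The induced functor of an exact left adjoint commutes with direct sums. -/
theorem preserves_map [IsGrothendieckAbelian.{u} B] {F : B ⥤ A} (adj : G ⊣ F) :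
    ∀ (ι : Type u), PreservesColimitsOfShape (Discrete ι) G.mapDerivedCategory := fun ι => by
  haveI : F.Additive := adj.right_adjoint_additive
  haveI := H16Derived.ExactRightAdj.hasPointwise (F := F)
  haveI := (H16Derived.ExactRightAdj.adjD adj).leftAdjoint_preservesColimits
  infer_instance

variable {B' : Type (u + 1)} [Category.{u} B'] [Abelian B'] [IsGrothendieckAbelian.{u} B']

/-- The composite with a right adjoint of a triangulated functor preserving the relevant sums. -/
theorem isLeftAdjoint_comp [IsGrothendieckAbelian.{u} A] [IsGrothendieckAbelian.{u} B] {F : B ⥤ A}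
    (adjF : G ⊣ F) (P : ObjectProperty B) [P.IsClosedUnderIsomorphisms] (hP : ∀ M, P (G.obj M))
    (L : DerivedCategory B' ⥤ DerivedCategory B) [L.CommShift ℤ] [L.IsTriangulated]
    (R : DerivedCategory B ⥤ DerivedCategory B') (adj : L ⊣ R)
    (hR : ∀ (ι : Type u) (X : ι → DerivedCategory B), (∀ i, DCompact.Good P (X i)) →
      PreservesColimit (Discrete.functor X) R) :
    (G.mapDerivedCategory ⋙ R).IsLeftAdjoint := by
  letI := adj.rightAdjointCommShift ℤ
  haveI : adj.CommShift ℤ := adj.commShift_of_leftAdjoint ℤ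
  haveI := adj.isTriangulated_rightAdjoint
  haveI := preserves_map G adjF
  exact DAdjoint.isLeftAdjoint_comp G R fun ι X => hR ι _ fun i => good_map G P hP (X i)

end Abstract

section Push

attribute [local instance] H15Site.PullKFlat.additive_pull
attribute [local instance 10000] H15Site.SiteInst.hasSheafifySite H15Site.SiteInst.hasWeakSheafifySite

variable {C D : Type u} [SmallCategory C] [SmallCategory D] {J : GrothendieckTopology C}
  {K : GrothendieckTopology D} {O_C : Sheaf J CommRingCat.{u}} {O_D : Sheaf K CommRingCat.{u}}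
  (f : ModSite.RMor O_C O_D) [SiteCmp.HasRpushD f]

/-- For a direct image of ringed sites. -/
theorem isLeftAdjoint_push {A : Type (u + 1)} [Category.{u} A] [Abelian A] [IsGrothendieckAbelian.{u} A]
    (G : A ⥤ ModSite.Mod O_C) [G.Additive] [PreservesFiniteLimits G] [PreservesFiniteColimits G]
    {F : ModSite.Mod O_C ⥤ A} (adjF : G ⊣ F) (P : ObjectProperty (ModSite.Mod O_C))
    [P.IsClosedUnderIsomorphisms] (hP : ∀ M, P (G.obj M))
    (hR : ∀ (ι : Type u) (X : ι → DerivedCategory (ModSite.Mod O_C)), (∀ i, DCompact.Good P (X i)) →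
      PreservesColimit (Discrete.functor X) (SiteCmp.RpushD f)) :
    (G.mapDerivedCategory ⋙ SiteCmp.RpushD f).IsLeftAdjoint := by
  haveI := H10Coh.isGrothendieckAbelian_sheafOfModules (ModSite.ringSh O_C)
  haveI := H10Coh.isGrothendieckAbelian_sheafOfModules (ModSite.ringSh O_D)
  obtain ⟨L, _, _, -, ⟨adj⟩⟩ := H15Site.FreePush.exists_leftAdjoint (G := f.pull) (F := f.push) f.adj
    (H15Site.PullAdapted.pullAdapted f)
  exact isLeftAdjoint_comp G adjF P hP L _ adj hR

end Push

variable {𝔛 : FSch.Sys.{u}} (hX : 𝔛.IsLocNoethFormal) [CompactSpace (𝔛.X 0)]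
  {𝔜 : FSch.Sys.{u}} (hY : 𝔜.IsFormal) (f : 𝔛 ⟶ 𝔜)
  [(ObjectProperty.ind.{u} (Coh 𝔛 hX.1)).ContainsZero]
  [(ObjectProperty.ind.{u} (Coh 𝔛 hX.1)).IsClosedUnderKernels]
  [(ObjectProperty.ind.{u} (Coh 𝔛 hX.1)).IsClosedUnderCokernels]
  [(ObjectProperty.ind.{u} (Coh 𝔛 hX.1)).IsClosedUnderFiniteProducts]
  [PreservesFiniteLimits (ObjectProperty.ind.{u} (Coh 𝔛 hX.1)).ι]
  [PreservesFiniteColimits (ObjectProperty.ind.{u} (Coh 𝔛 hX.1)).ι]
  [SiteCmp.HasRpushD (FSch.homMor f hX.1 hY)]

theorem isLeftAdjoint :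
    ((ObjectProperty.ind.{u} (Coh 𝔛 hX.1)).ι.mapDerivedCategory ⋙
      SiteCmp.RpushD (FSch.homMor f hX.1 hY)).IsLeftAdjoint := by
  haveI := H10Coh.isGrothendieckAbelian_sheafOfModules (ModSite.ringSh (𝔛.Osh hX.1))
  haveI := isLeftAdjoint_ι' hX
  haveI := essentiallySmall_coh 𝔛 hX.1
  haveI := IndGroth.isGrothendieckAbelian (Coh 𝔛 hX.1)
  exact isLeftAdjoint_push (FSch.homMor f hX.1 hY) _
    (Adjunction.ofIsLeftAdjoint (ObjectProperty.ind.{u} (Coh 𝔛 hX.1)).ι) _ (fun M => M.property)
    fun ι X hXi => preservesColimit_rpushD hX hY f ι X hXi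

end Groth.Agent.H8FSch.RpushAdjoint
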