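import Groth.Agent.H16Derived.KInjRes.SmallGen
import Groth.Agent.H16Derived.ExactRightAdj

/-!
# Right adjoints of coproduct preserving functors on standard derived categories

The standard derived category of a Grothendieck abelian category has small morphism sets, hence is
equivalent to a derived category with small morphism types, where Brown representability applies.
-/

set_option autoImplicit false
set_option linter.style.haveILetI false

universe w w' v v' u u'

open CategoryTheory CategoryTheory.Limits CategoryTheory.Pretriangulated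

namespace Groth.Agent.H8FSch.DAdjoint

open H16Derived

section Small

variable {A : Type u} [Category.{v} A] [Abelian A] [IsGrothendieckAbelian.{v} A]
  [HasDerivedCategory.{w} A]

/-- Morphism sets of the derived category are small. -/
theorem small_hom (P E : DerivedCategory A) : Small.{v} (P ⟶ E) := by
  obtain ⟨N, j, hN⟩ := KInjRes.exists_resolution_functor (A := A)
  haveI := Localization.essSurj (DerivedCategory.Q (C := A))
    (HomologicalComplex.quasiIso A (ComplexShape.up ℤ))
  let I := N.obj (DerivedCategory.Q.objPreimage E)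
  haveI := (hN (DerivedCategory.Q.objPreimage E)).2.2.1
  haveI : IsIso (DerivedCategory.Q.map (j.app (DerivedCategory.Q.objPreimage E))) :=
    Localization.inverts _ (HomologicalComplex.quasiIso A (ComplexShape.up ℤ)) _
      (hN (DerivedCategory.Q.objPreimage E)).2.1
  let eI : DerivedCategory.Q.obj I ≅ E :=
    (asIso (DerivedCategory.Q.map (j.app (DerivedCategory.Q.objPreimage E)))).symm ≪≫
      DerivedCategory.Q.objObjPreimageIso E
  let C := DerivedCategory.Q.objPreimage P
  let e : DerivedCategory.Q.obj C ≅ P := DerivedCategory.Q.objObjPreimageIso P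
  refine small_of_surjective (f := fun φ : C ⟶ I => e.inv ≫ DerivedCategory.Q.map φ ≫ eI.hom)
    fun f => ?_
  obtain ⟨h, hh⟩ := (CochainComplex.IsKInjective.Qh_map_bijective
    ((HomotopyCategory.quotient A (ComplexShape.up ℤ)).obj C) I).2
      ((DerivedCategory.quotientCompQhIso A).hom.app C ≫ e.hom ≫ f ≫ eI.inv ≫
        (DerivedCategory.quotientCompQhIso A).inv.app I)
  obtain ⟨φ, rfl⟩ := (HomotopyCategory.quotient A (ComplexShape.up ℤ)).map_surjective h
  refine ⟨φ, ?_⟩
  have h1 : DerivedCategory.Q.map φ = e.hom ≫ f ≫ eI.inv := by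
    rw [← cancel_epi ((DerivedCategory.quotientCompQhIso A).hom.app C),
      ← DerivedCategory.quotientCompQhIso_hom_naturality, hh]
    simp
  simp [h1]

variable (A) in
/-- A derived category with morphism types in the smallest universe. -/
@[instance_reducible]
noncomputable def smallDerived : HasDerivedCategory.{v} A :=
  haveI : LocallySmall.{v} (DerivedCategory A) := ⟨small_hom⟩
  { D := ShrinkHoms (DerivedCategory A)
    L := DerivedCategory.Q ⋙ (ShrinkHoms.equivalence (DerivedCategory A)).functor
    hL := Functor.IsLocalization.of_equivalence_target DerivedCategory.Q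
      (HomologicalComplex.quasiIso A (ComplexShape.up ℤ)) _
      (ShrinkHoms.equivalence (DerivedCategory A)) (Iso.refl _) }

end Small

section Change

variable {A : Type u} [Category.{v} A] [Abelian A]

/-- The identity induces an equivalence between any two derived categories. -/
theorem isEquivalence_id (d₁ : HasDerivedCategory.{w} A) (d₂ : HasDerivedCategory.{w'} A) :
    (@Functor.mapDerivedCategory A _ _ d₁ A _ _ d₂ (𝟭 A) _ _ _).IsEquivalence := by
  let Q₁ := @DerivedCategory.Q A _ _ d₁
  let Q₂ := @DerivedCategory.Q A _ _ d₂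
  let E := @Functor.mapDerivedCategory A _ _ d₁ A _ _ d₂ (𝟭 A) _ _ _
  let W := HomologicalComplex.quasiIso A (ComplexShape.up ℤ)
  let e : Q₁ ⋙ E ≅ Q₂ :=
    @Functor.mapDerivedCategoryFactors A _ _ d₁ A _ _ d₂ (𝟭 A) _ _ _ ≪≫
      Functor.isoWhiskerRight (Functor.mapHomologicalComplexIdIso A (ComplexShape.up ℤ)) Q₂ ≪≫
        Functor.leftUnitor _
  exact Functor.isEquivalence_of_iso (Localization.isoUniqFunctor Q₁ Q₂ W E e).symm

variable {B : Type u'} [Category.{v'} B] [Abelian B]
  (G : A ⥤ B) [G.Additive] [PreservesFiniteLimits G] [PreservesFiniteColimits G]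

/-- Change of the derived category of the source. -/
theorem nonempty_id_comp (d₁ : HasDerivedCategory.{w} A) (d₂ : HasDerivedCategory.{v} A)
    [HasDerivedCategory.{w'} B] :
    Nonempty (@Functor.mapDerivedCategory A _ _ d₁ A _ _ d₂ (𝟭 A) _ _ _ ⋙
      @Functor.mapDerivedCategory A _ _ d₂ B _ _ _ G _ _ _ ≅
        @Functor.mapDerivedCategory A _ _ d₁ B _ _ _ G _ _ _) := by
  let Q₁ := @DerivedCategory.Q A _ _ d₁
  let W := HomologicalComplex.quasiIso A (ComplexShape.up ℤ)
  let E := @Functor.mapDerivedCategory A _ _ d₁ A _ _ d₂ (𝟭 A) _ _ _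
  let G₁ := @Functor.mapDerivedCategory A _ _ d₁ B _ _ _ G _ _ _
  let G₂ := @Functor.mapDerivedCategory A _ _ d₂ B _ _ _ G _ _ _
  let M := G.mapHomologicalComplex (ComplexShape.up ℤ) ⋙ DerivedCategory.Q (C := B)
  let l : Q₁ ⋙ E ⋙ G₂ ≅ M :=
    (Functor.associator _ _ _).symm ≪≫
      Functor.isoWhiskerRight
        (@Functor.mapDerivedCategoryFactors A _ _ d₁ A _ _ d₂ (𝟭 A) _ _ _ ≪≫
          Functor.isoWhiskerRight (Functor.mapHomologicalComplexIdIso A (ComplexShape.up ℤ)) _ ≪≫
          Functor.leftUnitor _) G₂ ≪≫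
      @Functor.mapDerivedCategoryFactors A _ _ d₂ B _ _ _ G _ _ _
  letI : Localization.Lifting Q₁ W M (E ⋙ G₂) := ⟨l⟩
  letI : Localization.Lifting Q₁ W M G₁ := ⟨@Functor.mapDerivedCategoryFactors A _ _ d₁ B _ _ _ G _ _ _⟩
  exact ⟨Localization.liftNatIso Q₁ W M M (E ⋙ G₂) G₁ (Iso.refl _)⟩

end Change

section Main

/-- Composition with a small derived category on the source. -/
theorem isLeftAdjoint_of_small {A : Type u} [Category.{v} A] [Abelian A] [IsGrothendieckAbelian.{v} A]
    [HasDerivedCategory.{v} A]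
    {D : Type u'} [Category.{v'} D] [Preadditive D] [HasZeroObject D] [HasShift D ℤ]
    [∀ n : ℤ, (shiftFunctor D n).Additive] [Pretriangulated D]
    {B' : Type u} [Category.{v} B'] [Abelian B'] [HasDerivedCategory.{v} B']
    {D₀ : Type u'} [Category.{v'} D₀] (E₀ : D₀ ⥤ DerivedCategory A) [E₀.IsEquivalence]
    (F : DerivedCategory A ⥤ D) [F.CommShift ℤ] [F.IsTriangulated]
    (EB : D ⥤ DerivedCategory B') [EB.CommShift ℤ] [EB.IsTriangulated] [EB.IsEquivalence]
    (Ψ : D₀ ⥤ D) (e : E₀ ⋙ F ≅ Ψ)
    [∀ (ι : Type v), PreservesColimitsOfShape (Discrete ι) Ψ] : Ψ.IsLeftAdjoint := by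
  haveI : ∀ (ι : Type v), PreservesColimitsOfShape (Discrete ι) F := fun ι =>
    preservesColimitsOfShape_of_natIso (F := E₀.inv ⋙ Ψ)
      (Functor.isoWhiskerLeft E₀.inv e.symm ≪≫ (Functor.associator _ _ _).symm ≪≫
        Functor.isoWhiskerRight E₀.asEquivalence.counitIso F ≪≫ Functor.leftUnitor F)
  haveI : HasCoproducts.{v} (DerivedCategory A) := KInjRes.hasCoproducts_derivedCategory
  haveI : HasColimitsOfShape (Discrete ℕ) (DerivedCategory A) := Brown.hasColimitsOfShape_nat
  obtain ⟨ι, G, hG⟩ := KInjRes.exists_gen (A := A)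
  haveI := Brown.isLeftAdjoint hG (F ⋙ EB)
  haveI : F.IsLeftAdjoint := Functor.isLeftAdjoint_of_iso (F := (F ⋙ EB) ⋙ EB.inv)
    (Functor.associator _ _ _ ≪≫ Functor.isoWhiskerLeft F EB.asEquivalence.unitIso.symm ≪≫
      Functor.rightUnitor F)
  exact Functor.isLeftAdjoint_of_iso e

variable {A : Type u} [Category.{v} A] [Abelian A] [IsGrothendieckAbelian.{v} A]
  [dA : HasDerivedCategory.{w} A]
  {B : Type u} [Category.{v} B] [Abelian B] [HasDerivedCategory.{w} B]
  (G : A ⥤ B) [G.Additive] [PreservesFiniteLimits G] [PreservesFiniteColimits G]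
  {B' : Type u} [Category.{v} B'] [Abelian B'] [IsGrothendieckAbelian.{v} B']
  [dB : HasDerivedCategory.{w} B']
  (Φ : DerivedCategory B ⥤ DerivedCategory B') [Φ.CommShift ℤ] [Φ.IsTriangulated]

/-- A composite of an induced functor and a triangulated functor preserving the direct sums in its
image has a right adjoint. -/
theorem isLeftAdjoint_comp [∀ (ι : Type v), PreservesColimitsOfShape (Discrete ι) G.mapDerivedCategory]
    (hΦ : ∀ (ι : Type v) (X : ι → DerivedCategory A),
      PreservesColimit (Discrete.functor fun i => G.mapDerivedCategory.obj (X i)) Φ) :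
    (G.mapDerivedCategory ⋙ Φ).IsLeftAdjoint := by
  haveI : ∀ (ι : Type v), PreservesColimitsOfShape (Discrete ι) (G.mapDerivedCategory ⋙ Φ) := fun ι =>
    ⟨fun {K} => by
      haveI : PreservesColimit (K ⋙ G.mapDerivedCategory) Φ :=
        have := hΦ ι fun i => K.obj ⟨i⟩
        preservesColimit_of_iso_diagram Φ
          (Discrete.natIso fun i => Iso.refl _ :
            Discrete.functor (fun i => G.mapDerivedCategory.obj (K.obj ⟨i⟩)) ≅ K ⋙ G.mapDerivedCategory)
      infer_instance⟩
  obtain ⟨e⟩ := @nonempty_id_comp A _ _ B _ _ G _ _ _ dA (smallDerived A) _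
  haveI := @isEquivalence_id A _ _ dA (smallDerived A)
  haveI := @isEquivalence_id B' _ _ dB (smallDerived B')
  exact @isLeftAdjoint_of_small A _ _ _ (smallDerived A) (DerivedCategory B') _ _ _ _ _ _ B' _ _
    (smallDerived B') _ _ (@Functor.mapDerivedCategory A _ _ dA A _ _ (smallDerived A) (𝟭 A) _ _ _) _
    (@Functor.mapDerivedCategory A _ _ (smallDerived A) B _ _ _ G _ _ _ ⋙ Φ) _ _
    (@Functor.mapDerivedCategory B' _ _ dB B' _ _ (smallDerived B') (𝟭 B') _ _ _) _ _ _
    (G.mapDerivedCategory ⋙ Φ) ((Functor.associator _ _ _).symm ≪≫ Functor.isoWhiskerRight e Φ) _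

end Main

end Groth.Agent.H8FSch.DAdjoint
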