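import Groth.Agent.H15Site.SiteInst
import Groth.Agent.H10Coh.Induction
import Groth.Prelude.Def_CohSite
import Groth.Prelude.Def_CohCx
import Mathlib.Topology.Sheaves.MayerVietoris
import Mathlib.CategoryTheory.Sites.SheafCohomology.MayerVietoris

/-!
# Bounded cohomological dimension on quasi-compact opens by Mayer–Vietoris
-/

set_option autoImplicit false
set_option linter.style.haveILetI false

universe u

open CategoryTheory CategoryTheory.Limits CategoryTheory.Abelian AlgebraicGeometry TopologicalSpace Opposite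

namespace Groth.Agent.H8FSch.QcCohDim

attribute [local instance 10000] H15Site.SiteInst.hasSheafifySite H15Site.SiteInst.hasWeakSheafifySite
  H15Site.SiteInst.hasExtSite H15Site.SiteInst.enoughInjSite

/-- The Mayer–Vietoris step. -/
theorem subsingleton_sup {X : TopCat.{u}} (U V : Opens X)
    (F : Sheaf (Opens.grothendieckTopology X) AddCommGrpCat.{u}) (p : ℕ)
    (hU : Subsingleton (Ext.{u} (CohCx.freeSheaf (Opens.grothendieckTopology X) U) F (p + 1)))
    (hV : Subsingleton (Ext.{u} (CohCx.freeSheaf (Opens.grothendieckTopology X) V) F (p + 1)))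
    (hUV : Subsingleton (Ext.{u} (CohCx.freeSheaf (Opens.grothendieckTopology X) (U ⊓ V)) F p)) :
    Subsingleton (Ext.{u} (CohCx.freeSheaf (Opens.grothendieckTopology X) (U ⊔ V)) F (p + 1)) := by
  let S := Opens.mayerVietorisSquare U V
  haveI : Subsingleton (Ext.{u} S.shortComplex.X₁ F p) := hUV
  haveI : Subsingleton (Ext.{u} S.shortComplex.X₂ F (p + 1)) :=
    (Ext.biprodAddEquiv (X₁ := CohCx.freeSheaf (Opens.grothendieckTopology X) U)
      (X₂ := CohCx.freeSheaf (Opens.grothendieckTopology X) V) (Y := F) (n := p + 1)).toEquiv.subsingleton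
  refine subsingleton_of_forall_eq (α := Ext.{u} S.shortComplex.X₃ F (p + 1)) 0 fun x => ?_
  obtain ⟨x₁, hx₁⟩ := Ext.contravariant_sequence_exact₃ S.shortComplex_shortExact F x
    (Subsingleton.elim _ _) (add_comm 1 p)
  rw [← hx₁, Subsingleton.elim x₁ 0, Ext.comp_zero]

/-- Sheaves acyclic on the intersections of affine opens below `M` with a family of opens have, on
the intersections of `M` with the family, uniformly bounded cohomological dimension. -/
theorem exists_bound {X : Scheme.{u}} [QuasiSeparatedSpace X]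
    (P : ObjectProperty (Sheaf (Opens.grothendieckTopology X) AddCommGrpCat.{u}))
    {ι : Type*} (O : ι → X.Opens) (M : X.Opens) (hM : IsCompact (M : Set X))
    (h : ∀ F, P F → ∀ T : X.Opens, IsAffineOpen T → T ≤ M → ∀ (i : ι) (p : ℕ),
      Subsingleton (Ext.{u} (CohCx.freeSheaf (Opens.grothendieckTopology X) (T ⊓ O i)) F (p + 1))) :
    ∃ d : ℕ, ∀ F, P F → ∀ (i : ι) (k : ℕ), d < k →
      Subsingleton (Ext.{u} (CohCx.freeSheaf (Opens.grothendieckTopology X) (M ⊓ O i)) F k) := by
  refine H10Coh.qcqs_induction (fun W : X.Opens => W ≤ M → ∃ d : ℕ, ∀ F, P F → ∀ (i : ι) (k : ℕ), d < k →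
    Subsingleton (Ext.{u} (CohCx.freeSheaf (Opens.grothendieckTopology X) (W ⊓ O i)) F k))
    (fun W hW hWM => ⟨0, fun F hF i k hk => ?_⟩) (fun A B _ _ hA hB hAB hM' => ?_) M hM le_rfl
  · obtain ⟨p, rfl⟩ := Nat.exists_eq_succ_of_ne_zero hk.ne'
    exact h F hF W hW hWM i p
  · obtain ⟨a, ha⟩ := hA (le_sup_left.trans hM')
    obtain ⟨b, hb⟩ := hB (le_sup_right.trans hM')
    obtain ⟨c, hc⟩ := hAB ((inf_le_left.trans le_sup_left).trans hM')
    refine ⟨max (max a b) c + 1, fun F hF i k hk => ?_⟩
    obtain ⟨p, rfl⟩ : ∃ p, k = p + 1 := ⟨k - 1, by omega⟩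
    rw [inf_sup_right]
    refine subsingleton_sup _ _ F p (ha F hF i _ (by omega)) (hb F hF i _ (by omega)) ?_
    rw [← inf_inf_distrib_right]
    exact hc F hF i _ (by omega)

end Groth.Agent.H8FSch.QcCohDim
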