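import Groth.Agent.H15Site.SiteGenInst
import Mathlib.CategoryTheory.Sites.Spaces

/-!
# The unit module is the free module on a terminal object
-/

set_option autoImplicit false
set_option linter.style.haveILetI false

universe u

open CategoryTheory CategoryTheory.Limits Opposite

namespace Groth.Agent.H8FSch.UnitFree

open H15Site.SiteGenInst

attribute [local instance 10000] H15Site.SiteInst.hasSheafifySite H15Site.SiteInst.hasWeakSheafifySite

variable {C : Type u} [SmallCategory C] {J : GrothendieckTopology C} (O : Sheaf J CommRingCat.{u})
  {T : C} (hT : IsTerminal T)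

/-- Maps out of the unit are sections over a terminal object. -/
noncomputable def eUnit (M : ModSite.Mod O) :
    (ModSite.unit O ⟶ M) ≃ ((SheafOfModules.toSheaf (ModSite.ringSh O)).obj M).obj.obj (op T) :=
  M.unitHomEquiv.trans
    { toFun := fun s => s.val (op T)
      invFun := fun x => PresheafOfModules.sectionsMk (M := M.val)
        (fun X => M.val.map (hT.from X.unop).op x) fun X Y f => by
          rw [← PresheafOfModules.map_comp_apply]
          exact congrArg (fun g : op T ⟶ Y => M.val.map g x)
            (show (hT.from X.unop).op ≫ f = (hT.from Y.unop).op from Quiver.Hom.unop_inj (hT.hom_ext _ _))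
      left_inv := fun s => PresheafOfModules.sections_ext _ _ fun X =>
        PresheafOfModules.sections_property s (hT.from X.unop).op
      right_inv := fun x => by
        show M.val.map (hT.from T).op x = x
        rw [show hT.from T = 𝟙 T from hT.hom_ext _ _, op_id]
        exact ConcreteCategory.congr_hom (M.val.presheaf.map_id (op T)) x }

theorem eUnit_naturality {M N : ModSite.Mod O} (φ : ModSite.unit O ⟶ M) (f : M ⟶ N) :
    eUnit O hT N (φ ≫ f) =
      (((SheafOfModules.toSheaf (ModSite.ringSh O)).map f).hom.app (op T)).hom (eUnit O hT M φ) :=
  rfl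

/-- The comparison. -/
noncomputable def iso : ModSite.unit O ≅ (genMod O).G.obj T :=
  let e : ∀ M : ModSite.Mod O, (ModSite.unit O ⟶ M) ≃ ((freeModFunctor O).obj T ⟶ M) :=
    fun M => (eUnit O hT M).trans (eMod O T M).symm
  Coyoneda.ext _ _ (fun {M} => e M) (fun {M} => (e M).symm)
    (fun {M} => (e M).left_inv) (fun {M} => (e M).right_inv)
    (fun {M N} φ g => by
      obtain ⟨x, rfl⟩ := (e M).surjective φ
      rw [Equiv.symm_apply_apply, Equiv.symm_apply_eq]
      refine (eMod O T N).injective ?_
      refine ((eMod_naturality_right O _ g).trans ?_).trans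
        ((eMod O T N).apply_symm_apply _).symm
      refine (congrArg _ ((eMod O T M).apply_symm_apply _)).trans ?_
      exact (eUnit_naturality O hT x g).symm)

end Groth.Agent.H8FSch.UnitFree
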