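import Groth.Agent.H8FSch.AffineDerived
import Groth.Agent.H8FSch.QcCohDim
import Groth.Agent.H8FSch.UnitFree

/-!
# Bounds for cohomology and direct images of complexes with ind-coherent cohomology
-/

set_option autoImplicit false
set_option linter.style.haveILetI false

universe u

attribute [-instance] CategoryTheory.catToReflQuiver
attribute [local instance] HasDerivedCategory.standard

open AlgebraicGeometry CategoryTheory CategoryTheory.Limits TopologicalSpace Opposite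

namespace Groth.Agent.H8FSch

theorem isAffineOpen_inf_preimage_of_le {X Y : Scheme.{u}} (f : X ⟶ Y) {T : X.Opens} {V W : Y.Opens}
    (hT : IsAffineOpen T) (hV : IsAffineOpen V) (hW : IsAffineOpen W) (hWV : W ≤ V)
    (h : T ≤ f ⁻¹ᵁ V) : IsAffineOpen (T ⊓ f ⁻¹ᵁ W) := by
  haveI : IsAffine T.toScheme := hT
  haveI : IsAffine V.toScheme := hV
  have hW' : IsAffineOpen (V.ι ⁻¹ᵁ W) :=
    hW.preimage_of_isOpenImmersion V.ι (by rwa [Scheme.Opens.opensRange_ι])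
  have h1 := (hW'.preimage (f.resLE V T h)).image_of_isOpenImmersion T.ι
  have he : T.ι ''ᵁ (f.resLE V T h ⁻¹ᵁ (V.ι ⁻¹ᵁ W)) = T ⊓ f ⁻¹ᵁ W := by
    rw [← Scheme.Hom.comp_preimage, Scheme.Hom.resLE_comp_ι, Scheme.Hom.comp_preimage,
      Scheme.Hom.image_preimage_eq_opensRange_inf, Scheme.Opens.opensRange_ι]
  rwa [he] at h1

variable {𝔛 : FSch.Sys.{u}} (hX : 𝔛.IsLocNoethFormal)

/-- Uniform bound on the cohomological dimension of ind-coherent modules. -/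
theorem exists_bound_HU {ι : Type*} (O : ι → (𝔛.X 0).Opens) (M : (𝔛.X 0).Opens)
    (hM : IsCompact (M : Set (𝔛.X 0)))
    (h : ∀ T : (𝔛.X 0).Opens, IsAffineOpen T → T ≤ M → ∀ i, IsAffineOpen (T ⊓ O i)) :
    ∃ d : ℕ, ∀ F : FSch.ModF 𝔛 hX.1,
      (ObjectProperty.ind.{u} fun 𝔊 : FSch.ModF 𝔛 hX.1 => FSch.IsCohF 𝔛 hX.1 𝔊) F →
      ∀ (i : ι) (k : ℕ), d < k → Subsingleton (ModSite.HU (𝔛.Osh hX.1) F k (M ⊓ O i)) := by
  haveI := hX.2.2 0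
  obtain ⟨d, hd⟩ := QcCohDim.exists_bound
    (fun A => ∀ T : (𝔛.X 0).Opens, IsAffineOpen T → ∀ p : ℕ, Subsingleton (CohSite.HU A (p + 1) T))
    O M hM fun F hF T hT hTM i p => hF _ (h T hT hTM i) p
  exact ⟨d, fun F hF => hd _ fun T hT p => subsingleton_HU_of_ind hX F hF T hT (p + 1) p.succ_pos⟩

variable (G : DerivedCategory (FSch.ModF 𝔛 hX.1))
  (hG : ∀ i : ℤ, (ObjectProperty.ind.{u} fun 𝔊 : FSch.ModF 𝔛 hX.1 => FSch.IsCohF 𝔛 hX.1 𝔊)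
    (SiteCmp.HMod G i))

include hG in
/-- Classes on an open of bounded cohomological dimension. -/
theorem eq_zero_of_bound (U : (𝔛.X 0).Opens) (d : ℕ)
    (hd : ∀ F : FSch.ModF 𝔛 hX.1,
      (ObjectProperty.ind.{u} fun 𝔊 : FSch.ModF 𝔛 hX.1 => FSch.IsCohF 𝔛 hX.1 𝔊) F →
      ∀ k : ℕ, d < k → Subsingleton (ModSite.HU (𝔛.Osh hX.1) F k U))
    (e : ℤ) (he : ∀ i : ℤ, e < i → IsZero (SiteCmp.HMod G i)) (i : ℤ) (hi : e + d < i)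
    (z : (DerivedCategory.singleFunctor (FSch.ModF 𝔛 hX.1) 0).obj
      ((H15Site.SiteGenInst.genMod (𝔛.Osh hX.1)).G.obj U) ⟶ G⟦i⟧) : z = 0 :=
  DBound.eq_zero_of_van {V : (𝔛.X 0).Opens | IsAffineOpen V} exists_affine_cover G e he
    (fun V hV q k hk => subsingleton_HU_of_ind hX _ (hG q) V hV k hk) U d
    (fun q k hk => hd _ (hG q) k hk) i hi z

/-- Hypercohomology of complexes with ind-coherent cohomology is bounded. -/
theorem exists_bound_hom_unitF [CompactSpace (𝔛.X 0)] :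
    ∃ e : ℕ, ∀ (G : DerivedCategory (FSch.ModF 𝔛 hX.1)),
      (∀ i : ℤ, (ObjectProperty.ind.{u} fun 𝔊 : FSch.ModF 𝔛 hX.1 => FSch.IsCohF 𝔛 hX.1 𝔊) (SiteCmp.HMod G i)) →
      ∀ i₀ : ℤ, (∀ i : ℤ, i₀ ≤ i → IsZero (SiteCmp.HMod G i)) →
        ∀ i : ℤ, i₀ + e ≤ i →
          Subsingleton (SiteCmp.inD (𝔛.Osh hX.1) (FSch.unitF 𝔛 hX.1) ⟶
            (shiftFunctor (DerivedCategory (FSch.ModF 𝔛 hX.1)) i).obj G) := by
  obtain ⟨d, hd⟩ := exists_bound_HU hX (fun _ : PUnit.{1} => (⊤ : (𝔛.X 0).Opens)) ⊤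
    (by simpa using CompactSpace.isCompact_univ) fun T hT _ _ => by rwa [inf_top_eq]
  refine ⟨d, fun G hG i₀ h₀ i hi => subsingleton_of_forall_eq 0 fun z => ?_⟩
  let ε := (DerivedCategory.singleFunctor (FSch.ModF 𝔛 hX.1) 0).mapIso
    (UnitFree.iso (𝔛.Osh hX.1) (isTerminalTop (α := (𝔛.X 0).Opens)))
  have h0 : ε.inv ≫ z = 0 := eq_zero_of_bound hX G hG ⊤ d
    (fun F hF k hk => (inf_top_eq (⊤ : (𝔛.X 0).Opens)) ▸ hd F hF PUnit.unit k hk)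
    (i₀ - 1) (fun j hj => h₀ j (by omega)) i (by omega) _
  exact (cancel_epi ε.inv).1 (h0.trans comp_zero.symm)

variable {𝔜 : FSch.Sys.{u}} (hY : 𝔜.IsFormal) (f : 𝔛 ⟶ 𝔜)

/-- `Rf_*` of complexes with ind-coherent cohomology is bounded. -/
theorem exists_bound_rpushD [CompactSpace (𝔛.X 0)] [CompactSpace (𝔜.X 0)]
    [SiteCmp.HasRpushD (FSch.homMor f hX.1 hY)] :
    ∃ e : ℕ, ∀ (G : DerivedCategory (FSch.ModF 𝔛 hX.1)),
      (∀ i : ℤ, (ObjectProperty.ind.{u} fun 𝔊 : FSch.ModF 𝔛 hX.1 => FSch.IsCohF 𝔛 hX.1 𝔊) (SiteCmp.HMod G i)) →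
      ∀ i₀ : ℤ, (∀ i : ℤ, i₀ ≤ i → IsZero (SiteCmp.HMod G i)) →
        ∀ i : ℤ, i₀ + e ≤ i →
          IsZero (SiteCmp.HMod ((SiteCmp.RpushD (FSch.homMor f hX.1 hY)).obj G) i) := by
  haveI := hX.2.2 0
  haveI : IsNoetherian (𝔛.X 0) := ⟨⟩
  haveI : NoetherianSpace (𝔛.X 0) := inferInstance
  let f₀ := (f : FSch.Hom 𝔛 𝔜).app 0
  obtain ⟨t, ht⟩ := CompactSpace.isCompact_univ.elim_finite_subcover
    (fun V : { V : (𝔜.X 0).Opens // IsAffineOpen V } => (V.1 : Set (𝔜.X 0))) (fun V => V.1.2)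
    fun y _ => by
      obtain ⟨V, hV, hy, -⟩ := Opens.isBasis_iff_nbhd.1 (𝔜.X 0).isBasis_affineOpens (Opens.mem_top y)
      exact Set.mem_iUnion.2 ⟨⟨V, hV⟩, hy⟩
  have hb : ∀ V : { V : (𝔜.X 0).Opens // IsAffineOpen V }, ∃ d : ℕ, ∀ F : FSch.ModF 𝔛 hX.1,
      (ObjectProperty.ind.{u} fun 𝔊 : FSch.ModF 𝔛 hX.1 => FSch.IsCohF 𝔛 hX.1 𝔊) F →
      ∀ (W : { W : (𝔜.X 0).Opens // IsAffineOpen W ∧ W ≤ V.1 }) (k : ℕ), d < k →
        Subsingleton (ModSite.HU (𝔛.Osh hX.1) F k (f₀ ⁻¹ᵁ V.1 ⊓ f₀ ⁻¹ᵁ W.1)) := fun V =>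
    exists_bound_HU hX _ (f₀ ⁻¹ᵁ V.1) (NoetherianSpace.isCompact _) fun T hT hTV W =>
      isAffineOpen_inf_preimage_of_le f₀ hT V.2 W.2.1 W.2.2 hTV
  choose d hd using hb
  let B : Set (𝔜.X 0).Opens := {W | IsAffineOpen W ∧ ∃ V ∈ t, W ≤ V.1}
  have hB : ∀ U : (𝔜.X 0).Opens, ∃ (ι : Type u) (Y : ι → (𝔜.X 0).Opens) (g : ∀ i, Y i ⟶ U),
      Sieve.ofArrows Y g ∈ (Opens.grothendieckTopology (𝔜.X 0)) U ∧ ∀ i, Y i ∈ B := fun U =>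
    ⟨{ W : (𝔜.X 0).Opens // W ∈ B ∧ W ≤ U }, fun W => W.1, fun W => homOfLE W.2.2,
      fun x hx => by
        obtain ⟨V, hVt, hxV⟩ := Set.mem_iUnion₂.1 (ht (Set.mem_univ x))
        obtain ⟨W, hW, hxW, hWU⟩ := Opens.isBasis_iff_nbhd.1 (𝔜.X 0).isBasis_affineOpens
          (U := V.1 ⊓ U) ⟨hxV, hx⟩
        have hWU' : W ≤ U := hWU.trans inf_le_right
        exact ⟨W, homOfLE hWU', ⟨W, 𝟙 _, homOfLE hWU',
          Presieve.ofArrows.mk (f := fun W : { W : (𝔜.X 0).Opens // W ∈ B ∧ W ≤ U } => homOfLE W.2.2)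
            ⟨W, ⟨hW, V, hVt, hWU.trans inf_le_left⟩, hWU'⟩, Category.id_comp _⟩, hxW⟩,
      fun W => W.2.1⟩
  refine ⟨t.sup d, fun G hG i₀ h₀ i hi => ?_⟩
  refine DBound.isZero_homology_push (FSch.homMor f hX.1 hY) B hB G i fun W hW z => ?_
  obtain ⟨hWa, V, hVt, hWV⟩ := hW
  have hle : d V ≤ t.sup d := Finset.le_sup hVt
  refine eq_zero_of_bound hX G hG (f₀ ⁻¹ᵁ W) (d V) (fun F hF k hk => ?_)
    (i₀ - 1) (fun j hj => h₀ j (by omega)) i (by omega) z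
  rw [← inf_eq_right.2 (show f₀ ⁻¹ᵁ W ≤ f₀ ⁻¹ᵁ V.1 from fun x hx => hWV hx)]
  exact hd V F hF ⟨W, hWa, hWV⟩ k hk

end Groth.Agent.H8FSch
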