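import Groth.Agent.H8FSch.IndFive
import Groth.Agent.H24FMod.Kernel
import Groth.Prelude.Def_WeakSerre

/-!
# Coherent and ind-coherent modules form weak Serre subcategories
-/

set_option autoImplicit false
set_option linter.style.haveILetI false

universe u

open CategoryTheory CategoryTheory.Limits

namespace Groth.Agent.H8FSch

attribute [local instance 10000] H15Site.SiteInst.hasSheafifySite H15Site.SiteInst.hasWeakSheafifySite

theorem isWeakSerre_mk {B : Type*} [Category B] [Abelian B] (Q : ObjectProperty B)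
    [Q.IsClosedUnderIsomorphisms] (h0 : ∃ Z, IsZero Z ∧ Q Z)
    (hker : ∀ ⦃X Y : B⦄ (f : X ⟶ Y), Q X → Q Y → Q (kernel f))
    (hcok : ∀ ⦃X Y : B⦄ (f : X ⟶ Y), Q X → Q Y → Q (cokernel f))
    (hext : ∀ S : ShortComplex B, S.ShortExact → Q S.X₁ → Q S.X₃ → Q S.X₂) :
    WSerre.IsWeakSerre Q := by
  haveI : Q.ContainsZero := ⟨h0⟩
  haveI : Q.IsClosedUnderKernels := ⟨by
    rintro _ ⟨f, k, hk, hf⟩
    exact Q.prop_of_iso ((kernelIsKernel f).conePointUniqueUpToIso hk) (hker f hf.1 hf.2)⟩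
  haveI : Q.IsClosedUnderCokernels := ⟨by
    rintro _ ⟨f, k, hk, hf⟩
    exact Q.prop_of_iso ((cokernelIsCokernel f).coconePointUniqueUpToIso hk) (hcok f hf.1 hf.2)⟩
  haveI : Q.IsClosedUnderExtensions := ⟨fun hS h₁ h₃ => hext _ hS h₁ h₃⟩
  exact {}

variable {𝔛 : FSch.Sys.{u}} (hL : 𝔛.IsLocNoethFormal)

theorem isWeakSerre_coh : WSerre.IsWeakSerre (Coh 𝔛 hL.1) :=
  isWeakSerre_mk _ (exists_coh_zero 𝔛 hL.1) (fun _ _ f hX hY => H24FMod.isCohF_kernel hL hX hY f)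
    (fun _ _ f hX hY => coh_cokernel 𝔛 hL.1 f hX hY)
    fun S hS h₁ h₃ => by
      haveI : SheafOfModules.IsFinitePresentation (R := ModSite.ringSh (𝔛.Osh hL.1)) S.X₁ := h₁
      haveI : SheafOfModules.IsFinitePresentation (R := ModSite.ringSh (𝔛.Osh hL.1)) S.X₃ := h₃
      exact isFinitePresentation_of_shortExact S hS

theorem isWeakSerre_ind [CompactSpace (𝔛.X 0)] :
    WSerre.IsWeakSerre (ObjectProperty.ind.{u} (Coh 𝔛 hL.1)) :=
  isWeakSerre_mk _ (let ⟨Z, hZ, hP⟩ := exists_coh_zero 𝔛 hL.1; ⟨Z, hZ, (Coh 𝔛 hL.1).le_ind _ hP⟩)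
    (fun _ _ f hX hY => prop_kernel hL hX hY f)
    (fun _ _ f hX hY => prop_cokernel hL hX hY f)
    fun S hS h₁ h₃ => prop_of_shortExact hL S hS h₁ h₃

end Groth.Agent.H8FSch
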