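import Groth.Agent.H15Site.SiteCmpTrunc

/-!
# Cohomology in a weak Serre subcategory under a functor of bounded amplitude
-/

set_option autoImplicit false
set_option linter.style.haveILetI false

open CategoryTheory CategoryTheory.Limits CategoryTheory.Pretriangulated DerivedCategory
open DerivedCategory.TStructure

namespace Groth.Agent.H8FSch.CohBound

open H16Derived H15Site

universe w w' v v' u u'

section Abstract

variable {A : Type u} [Category.{v} A] [Abelian A] [HasDerivedCategory.{w} A]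
  {B : Type u'} [Category.{v'} B] [Abelian B] [HasDerivedCategory.{w'} B]
  (R : DerivedCategory A ⥤ DerivedCategory B) [R.CommShift ℤ] [R.IsTriangulated]
  (P : ObjectProperty A) [P.IsClosedUnderIsomorphisms] (P' : ObjectProperty B) [WSerre.IsWeakSerre P']

/-- Unbounded complexes, under a uniform bound. -/
theorem cohIn_map (hP : ∀ Z : A, IsZero Z → P Z)
    (h : ∀ M : A, P M → WSerre.cohIn P' (R.obj ((singleFunctor A 0).obj M)))
    (hR : ∀ n₁ : ℤ, ∃ n₂ : ℤ, ∀ Y : DerivedCategory A, Y.IsGE n₂ → (R.obj Y).IsGE n₁)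
    (e : ℕ) (he : ∀ Y : DerivedCategory A, WSerre.cohIn P Y → ∀ i₀ : ℤ,
      (∀ i : ℤ, i₀ ≤ i → IsZero ((homologyFunctor A i).obj Y)) →
      ∀ i : ℤ, i₀ + e ≤ i → IsZero ((homologyFunctor B i).obj (R.obj Y)))
    (X : DerivedCategory A) (hX : WSerre.cohIn P X) : WSerre.cohIn P' (R.obj X) := fun i => by
  let n := i - e - 1
  have h1 : DerivedCategory.IsLE ((t.truncLT n).obj X) (n - 1) := inferInstanceAs (t.IsLE _ (n - 1))
  have h2 : DerivedCategory.IsGE ((t.truncGE n).obj X) n := inferInstanceAs (t.IsGE _ n)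
  have h3 := CohInTri.cohIn_map_of_isGE R P P' hP h hR _ n (WayOut.p_truncGE P hP hX n)
  have hz : ∀ j : ℤ, n ≤ j → IsZero ((homologyFunctor A j).obj ((t.truncLT n).obj X)) := fun j hj =>
    DerivedCategory.isZero_of_isLE _ (n - 1) j (by omega)
  have hz' := he _ (WayOut.p_truncLT P hP hX n) n hz
  have hT := R.map_distinguished _ (t.triangleLTGE_distinguished n X)
  haveI : Mono ((homologyFunctor B i).map (R.mapTriangle.obj ((t.triangleLTGE n).obj X)).mor₂) :=
    (HomologySequence.mono_homologyMap_mor₂_iff _ hT i).2 ((hz' i (by omega)).eq_of_src _ _)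
  haveI : Epi ((homologyFunctor B i).map (R.mapTriangle.obj ((t.triangleLTGE n).obj X)).mor₂) :=
    (HomologySequence.epi_homologyMap_mor₂_iff _ hT i (i + 1)).2
      ((hz' (i + 1) (by omega)).eq_of_tgt _ _)
  haveI := isIso_of_mono_of_epi
    ((homologyFunctor B i).map (R.mapTriangle.obj ((t.triangleLTGE n).obj X)).mor₂)
  exact P'.prop_of_iso (asIso
    ((homologyFunctor B i).map (R.mapTriangle.obj ((t.triangleLTGE n).obj X)).mor₂)).symm (h3 i)



/-- A right adjoint of a triangulated functor is triangulated. -/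
theorem cohIn_map_rightAdjoint {L : DerivedCategory B ⥤ DerivedCategory A} [L.CommShift ℤ]
    [L.IsTriangulated] {R : DerivedCategory A ⥤ DerivedCategory B} (adj : L ⊣ R)
    (hP : ∀ Z : A, IsZero Z → P Z)
    (h : ∀ M : A, P M → WSerre.cohIn P' (R.obj ((singleFunctor A 0).obj M)))
    (hR : ∀ (n : ℤ) (Y : DerivedCategory A), Y.IsGE n → (R.obj Y).IsGE n)
    (e : ℕ) (he : ∀ Y : DerivedCategory A, WSerre.cohIn P Y → ∀ i₀ : ℤ,
      (∀ i : ℤ, i₀ ≤ i → IsZero ((homologyFunctor A i).obj Y)) →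
      ∀ i : ℤ, i₀ + e ≤ i → IsZero ((homologyFunctor B i).obj (R.obj Y)))
    (X : DerivedCategory A) (hX : WSerre.cohIn P X) : WSerre.cohIn P' (R.obj X) := by
  letI := adj.rightAdjointCommShift ℤ
  haveI : adj.CommShift ℤ := adj.commShift_of_leftAdjoint ℤ
  haveI := adj.isTriangulated_rightAdjoint
  exact cohIn_map R P P' hP h (fun n => ⟨n, hR n⟩) e he X hX

end Abstract

section Push

universe u₀

attribute [local instance] HasDerivedCategory.standard
attribute [local instance] H15Site.PullKFlat.additive_pull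
attribute [local instance 10000] H15Site.SiteInst.hasSheafifySite H15Site.SiteInst.hasWeakSheafifySite

variable {C D : Type u₀} [SmallCategory C] [SmallCategory D] {J : GrothendieckTopology C}
  {K : GrothendieckTopology D} {O_C : Sheaf J CommRingCat.{u₀}} {O_D : Sheaf K CommRingCat.{u₀}}
  (f : ModSite.RMor O_C O_D) [SiteCmp.HasRpushD f]
  (P : ObjectProperty (ModSite.Mod O_C)) [P.IsClosedUnderIsomorphisms]
  (P' : ObjectProperty (ModSite.Mod O_D)) [WSerre.IsWeakSerre P']

/-- Direct images preserve cohomology in weak Serre subcategories. -/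
theorem cohIn_push [HasInjectiveResolutions (ModSite.Mod O_C)]
    (hP : ∀ Z : ModSite.Mod O_C, IsZero Z → P Z)
    (h : ∀ F : ModSite.Mod O_C, P F → ∀ p : ℕ, P' ((f.Rpush p).obj F))
    (e : ℕ) (he : ∀ Y : DerivedCategory (ModSite.Mod O_C), WSerre.cohIn P Y → ∀ i₀ : ℤ,
      (∀ i : ℤ, i₀ ≤ i → IsZero (SiteCmp.HMod Y i)) →
      ∀ i : ℤ, i₀ + e ≤ i → IsZero (SiteCmp.HMod ((SiteCmp.RpushD f).obj Y) i))
    (X : DerivedCategory (ModSite.Mod O_C)) (hX : WSerre.cohIn P X) :
    WSerre.cohIn P' ((SiteCmp.RpushD f).obj X) := by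
  haveI := H10Coh.isGrothendieckAbelian_sheafOfModules (ModSite.ringSh O_C)
  obtain ⟨L, _, _, -, ⟨adj⟩⟩ := H15Site.FreePush.exists_leftAdjoint (G := f.pull) (F := f.push) f.adj
    (H15Site.PullAdapted.pullAdapted f)
  exact cohIn_map_rightAdjoint P P' adj hP
    (fun F hF => H15Site.SiteCmpTrunc.cohIn_push_single f F P' (h F hF))
    (fun n Y hY => H15Site.SiteCmpTrunc.isGE_push f Y n) e he X hX

end Push

end Groth.Agent.H8FSch.CohBound
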