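import Groth.Agent.H8FSch.DVanBound
import Groth.Agent.H15Site.HDUNeg

/-!
# Classes on acyclic objects are detected in cohomology
-/

set_option autoImplicit false
set_option linter.style.haveILetI false

universe w u

open CategoryTheory CategoryTheory.Limits CategoryTheory.Pretriangulated Opposite DerivedCategory
  DerivedCategory.TStructure

namespace Groth.Agent.H8FSch.DVanBound

open H15Site H15Site.SiteGen H15Site.RlimTrunc H15Site.SiteGenInst

variable {C : Type u} [SmallCategory C] {J : GrothendieckTopology C}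
  {A : Type (u + 1)} [Category.{u} A] [Abelian A] [HasDerivedCategory.{w} A]
  [HasLimitsOfShape (Discrete ℕ) A] [EnoughInjectives A]
  (𝔾 : Gen J A) (B : Set C)
  (hB : ∀ U : C, ∃ (ι : Type u) (Y : ι → C) (f : ∀ i, Y i ⟶ U), Sieve.ofArrows Y f ∈ J U ∧ ∀ i, Y i ∈ B)

include hB in
/-- On a member of a class of acyclic objects, a class is zero when its image in cohomology is. -/
theorem eq_zero_of_cls (G : DerivedCategory A)
    (hvan : ∀ U ∈ B, ∀ (q : ℤ) (k : ℕ), 0 < k → Van 𝔾 k U ((homologyFunctor A q).obj G))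
    (U : C) (hU : U ∈ B) (i : ℤ)
    (z : (singleFunctor A 0).obj (𝔾.G.obj U) ⟶ G⟦i⟧) (hz : cls z = 0) : z = 0 := by
  let X := (t.truncLT i).obj G
  let Y := (t.truncGE i).obj G
  haveI : X.IsLE (i - 1) := inferInstanceAs (t.IsLE ((t.truncLT i).obj G) (i - 1))
  haveI : DerivedCategory.IsGE (Y⟦i⟧) 0 :=
    haveI : t.IsGE Y i := inferInstanceAs (t.IsGE ((t.truncGE i).obj G) i)
    t.isGE_shift Y i i 0 (by omega)
  have hw : z ≫ ((t.truncGEπ i).app G)⟦i⟧' = 0 := by
    refine (HDUNeg.bijective_cls_of_isGE (𝔾.G.obj U) (Y⟦i⟧)).1 ?_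
    dsimp only
    rw [Functor.map_comp, cls_eq_zero z hz, zero_comp, Functor.map_zero]
  obtain ⟨g, hg⟩ : ∃ g : (singleFunctor A 0).obj (𝔾.G.obj U) ⟶ X⟦i⟧,
      z = g ≫ ((t.truncLTι i).app G)⟦i⟧' := by
    have he : ∃ g : (singleFunctor A 0).obj (𝔾.G.obj U) ⟶ X⟦i⟧,
        z = g ≫ (i.negOnePow • ((t.truncLTι i).app G)⟦i⟧') :=
      Triangle.coyoneda_exact₂ _
        (Triangle.shift_distinguished _ (t.triangleLTGE_distinguished i G) i) z
        (by
          show z ≫ (i.negOnePow • ((t.truncGEπ i).app G)⟦i⟧') = 0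
          rw [Linear.comp_units_smul, hw, smul_zero])
    obtain ⟨g, hg⟩ := he
    refine ⟨i.negOnePow • g, hg.trans ?_⟩
    rw [Linear.comp_units_smul, Linear.units_smul_comp]
  have hX : ∀ q : ℤ, i - 1 < q → IsZero ((homologyFunctor A q).obj X) :=
    fun q hq => DerivedCategory.isZero_of_isLE X (i - 1) q hq
  have hvanX : ∀ V ∈ B, ∀ (q : ℤ) (k : ℕ), 0 < k → Van 𝔾 k V ((homologyFunctor A q).obj X) :=
    fun V hV q k hk => by
      by_cases hq : q < i
      · haveI := H16Derived.DTrunc.isIso_homology_truncLTι G i q hq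
        exact van_of_iso 𝔾 (asIso ((homologyFunctor A q).map ((t.truncLTι i).app G))) (hvan V hV q k hk)
      · exact van_of_isZero 𝔾 (hX q (by omega))
  rw [hg, eq_zero_of_van 𝔾 B hB X (i - 1) hX hvanX U 0 (fun q k hk => hvanX U hU q k hk) i (by omega) g,
    zero_comp]

end Groth.Agent.H8FSch.DVanBound
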