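import Groth.Agent.H15Site.RlimTruncApps
import Groth.Agent.H16Derived.KInjRes.Countable

/-!
# Classes into complexes with acyclic cohomology vanish above the top degree, abstractly
-/

set_option autoImplicit false
set_option linter.style.haveILetI false

universe w u

open CategoryTheory CategoryTheory.Limits Opposite DerivedCategory DerivedCategory.TStructure

namespace Groth.Agent.H8FSch.DVanBound

open H15Site H15Site.SiteGen H15Site.RlimTrunc H15Site.SiteGenInst

variable {C : Type u} [SmallCategory C] {J : GrothendieckTopology C}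
  {A : Type (u + 1)} [Category.{u} A] [Abelian A] [HasDerivedCategory.{w} A]
  [HasLimitsOfShape (Discrete ℕ) A] [EnoughInjectives A]
  (𝔾 : Gen J A) (B : Set C)
  (hB : ∀ U : C, ∃ (ι : Type u) (Y : ι → C) (f : ∀ i, Y i ⟶ U), Sieve.ofArrows Y f ∈ J U ∧ ∀ i, Y i ∈ B)

include hB in
/-- Over a class of objects on which all cohomology objects are acyclic, classes on `U` of degree
above the top cohomological degree plus the cohomological dimension of `U` vanish. -/
theorem eq_zero_of_van (G : DerivedCategory A) (e : ℤ)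
    (he : ∀ q, e < q → IsZero ((homologyFunctor A q).obj G))
    (hvan : ∀ U ∈ B, ∀ (q : ℤ) (k : ℕ), 0 < k → Van 𝔾 k U ((homologyFunctor A q).obj G))
    (U : C) (d : ℕ) (hU : ∀ (q : ℤ) (k : ℕ), d < k → Van 𝔾 k U ((homologyFunctor A q).obj G))
    (i : ℤ) (hi : e + d < i)
    (z : (singleFunctor A 0).obj (𝔾.G.obj U) ⟶ G⟦i⟧) : z = 0 := by
  haveI : HasProduct (CohCx.truncTower G) :=
    H16Derived.KInjRes.Countable.hasProduct_of_isGE _ fun n =>
      ⟨-(n : ℤ), inferInstanceAs (t.IsGE ((t.truncGE (-(n : ℤ))).obj G) (-(n : ℤ)))⟩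
  have hR : CohCx.IsRlimVia (CohCx.truncTower G) (CohCx.truncTowerMap G) G (CohCx.toTruncTower G) := by
    refine RlimTruncApps.isRlimVia_truncTower_of_bound 𝔾 G B hB fun V hV =>
      ⟨fun _ => 0, fun T hT => ?_⟩
    obtain ⟨ι, Y, g, h1, h2, h3⟩ := exists_cofinal_mem B hB hT
    exact ⟨ι, Y, g, h1, h2, fun j m k hk => hvan (Y j) (h3 j) _ k (by simpa using hk)⟩
  let N : ℕ := (d - i).toNat + 1
  have hg : GoodTr 𝔾 (CohCx.truncTower G) (CohCx.truncTowerMap G) i N U :=
    goodTr_truncTower 𝔾 G i N U fun j hj k hk => hU _ k (by omega)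
  refine detInj_of_goodTr 𝔾 (CohCx.toTruncTower G) hR hg z ?_
  haveI : DerivedCategory.IsGE (CohCx.truncTower G N) (-(N : ℤ)) :=
    inferInstanceAs (t.IsGE ((t.truncGE (-(N : ℤ))).obj G) (-(N : ℤ)))
  refine DVanish.eq_zero_of_homology (𝔾.G.obj U) (CohCx.truncTower G N) (-(N : ℤ)) i
    (fun k q hq => ?_) _
  by_cases hqN : -(N : ℤ) ≤ q
  · haveI : IsIso ((homologyFunctor A q).map (CohCx.toTruncTower G N)) :=
      H16Derived.DTrunc.isIso_homology_truncGEπ G (-(N : ℤ)) q hqN
    let ε := (asIso ((homologyFunctor A q).map (CohCx.toTruncTower G N))).symm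
    by_cases hk : d < k
    · exact van_of_iso 𝔾 ε (hU q k hk)
    · exact van_of_iso 𝔾 ε (van_of_isZero 𝔾 (he q (by omega)))
  · exact van_of_isZero 𝔾 (DerivedCategory.isZero_of_isGE _ (-(N : ℤ)) q (by omega))

end Groth.Agent.H8FSch.DVanBound
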