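import Groth.Agent.H8FSch.KerInd
import Mathlib.CategoryTheory.Limits.Presentation
import Mathlib.Algebra.Homology.ShortComplex.ShortExact

/-!
# Extensions of filtered colimits of a compact coreflective class
-/

set_option autoImplicit false
set_option linter.style.haveILetI false

universe v u

open CategoryTheory CategoryTheory.Limits

namespace Groth.Agent.H8FSch.Coreflect

variable {B : Type u} [Category.{v} B] [Abelian B]

section Stages

variable {Λ : Type v} [SmallCategory Λ] (S : ShortComplex B) (P : ColimitPresentation Λ S.X₁)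

/-- The stages of the kernel part in the extension. -/
noncomputable abbrev stageMap (k : Λ) : P.diag.obj k ⟶ S.X₂ := P.ι.app k ≫ S.f

/-- The quotient of an extension by a stage of its kernel part. -/
noncomputable def stageQuot : Λ ⥤ B where
  obj k := cokernel (stageMap S P k)
  map {i j} f := cokernel.desc _ (cokernel.π (stageMap S P j)) (by
    rw [show stageMap S P i = P.diag.map f ≫ stageMap S P j from by
      show _ = _ ≫ P.ι.app j ≫ S.f
      rw [← Category.assoc, (P.ι.naturality f).trans (Category.comp_id _)],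
      Category.assoc, cokernel.condition, comp_zero])
  map_id k := coequalizer.hom_ext (by
    rw [cokernel.π_desc]; exact (Category.comp_id _).symm)
  map_comp f g := coequalizer.hom_ext (by
    rw [cokernel.π_desc, ← Category.assoc, cokernel.π_desc, cokernel.π_desc])

/-- The map of a quotient stage to the quotient. -/
noncomputable def stageLeg (k : Λ) : cokernel (stageMap S P k) ⟶ S.X₃ :=
  cokernel.desc _ S.g (by rw [Category.assoc, S.zero, comp_zero])

/-- The quotient stages map to the quotient. -/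
noncomputable def stageCocone : Cocone (stageQuot S P) where
  pt := S.X₃
  ι :=
    { app := stageLeg S P
      naturality := fun i j f => coequalizer.hom_ext (by
        show cokernel.π _ ≫ cokernel.desc _ _ _ ≫ stageLeg S P j = cokernel.π _ ≫ stageLeg S P i ≫ 𝟙 _
        rw [cokernel.π_desc_assoc, Category.comp_id, stageLeg, stageLeg, cokernel.π_desc, cokernel.π_desc]) }

variable [IsFiltered Λ]

theorem nonempty_isColimit_stageCocone (hS : S.ShortExact) :
    Nonempty (IsColimit (stageCocone S P)) := by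
  haveI := hS.epi_g
  have key : ∀ (s : Cocone (stageQuot S P)) (i j : Λ), cokernel.π (stageMap S P i) ≫ s.ι.app i =
      cokernel.π (stageMap S P j) ≫ s.ι.app j := fun s i j => by
    have h : ∀ {i j : Λ} (_ : i ⟶ j), cokernel.π (stageMap S P i) ≫ s.ι.app i =
        cokernel.π (stageMap S P j) ≫ s.ι.app j := fun {i j} f => by
      refine (congrArg (cokernel.π (stageMap S P i) ≫ ·)
        ((s.ι.naturality f).trans (Category.comp_id _)).symm).trans ?_
      exact cokernel.π_desc_assoc _ _ _ _
    exact (h (IsFiltered.leftToMax i j)).trans (h (IsFiltered.rightToMax i j)).symm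
  obtain ⟨i₀⟩ := (IsFiltered.nonempty : Nonempty Λ)
  have hker : ∀ s : Cocone (stageQuot S P), S.f ≫ cokernel.π (stageMap S P i₀) ≫ s.ι.app i₀ = 0 :=
    fun s => P.isColimit.hom_ext fun k => by
      rw [key s i₀ k, comp_zero, ← Category.assoc, ← Category.assoc]
      exact (congrArg (· ≫ s.ι.app k) (cokernel.condition (stageMap S P k))).trans zero_comp
  have hd := fun s => hS.gIsCokernel.fac (CokernelCofork.ofπ _ (hker s)) WalkingParallelPair.one
  exact ⟨{
    desc := fun s => hS.gIsCokernel.desc (CokernelCofork.ofπ _ (hker s))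
    fac := fun s j => coequalizer.hom_ext (by
      show cokernel.π _ ≫ stageLeg S P j ≫ _ = _
      rw [stageLeg, cokernel.π_desc_assoc]
      exact (hd s).trans (key s i₀ j))
    uniq := fun s m hm => (cancel_epi S.g).1 (by
      have h : S.g ≫ m = cokernel.π (stageMap S P i₀) ≫ s.ι.app i₀ := by
        rw [← hm i₀]
        exact (cokernel.π_desc_assoc _ _ _ _).symm
      exact h.trans (hd s).symm) }⟩

end Stages

variable {P Q : ObjectProperty B}

/-- An extension of a compact member by a filtered colimit of members. -/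
theorem prop_extension_coh [Q.IsClosedUnderIsomorphisms] [P.IsClosedUnderIsomorphisms] (hPQ : P ≤ Q)
    (hcoim : ∀ ⦃X Y : B⦄ (u : X ⟶ Y), P X → ObjectProperty.ind.{v} P Y → P (Abelian.coimage u))
    (hext : ∀ S : ShortComplex B, S.ShortExact → P S.X₁ → P S.X₃ → P S.X₂)
    (hbi : ∀ X Y, Q X → Q Y → Q (X ⊞ Y))
    (hcok : ∀ ⦃X Y : B⦄ (f : X ⟶ Y), Q X → Q Y → Q (cokernel f))
    (hlift : ∀ ⦃X : B⦄, P X → ∀ ⦃Λ : Type v⦄ [SmallCategory Λ] [IsFiltered Λ] (D : Λ ⥤ B) (c : Cocone D),
      IsColimit c → ∀ φ : X ⟶ c.pt, ∃ (k : Λ) (ψ : X ⟶ D.obj k), ψ ≫ c.ι.app k = φ)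
    (S : ShortComplex B) (hS : S.ShortExact) (h₁ : ObjectProperty.ind.{v} P S.X₁) (h₁' : Q S.X₁)
    (h₃ : P S.X₃) : Q S.X₂ := by
  haveI := hS.mono_f
  haveI := hS.epi_g
  have hind := h₁
  obtain ⟨Λ, _, _, pres, hp⟩ := h₁
  obtain ⟨hc⟩ := nonempty_isColimit_stageCocone S pres hS
  obtain ⟨k, ψ, hψ⟩ := hlift h₃ _ _ hc (𝟙 _)
  let π : S.X₂ ⟶ cokernel (stageMap S pres k) := cokernel.π _
  let ψ' : S.X₃ ⟶ cokernel (stageMap S pres k) := ψ
  have hψ' : ψ' ≫ stageLeg S pres k = 𝟙 _ := hψ
  have hπq : π ≫ stageLeg S pres k = S.g := cokernel.π_desc _ _ _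
  let w : pullback π ψ' ⟶ S.X₂ := pullback.fst _ _
  let r : pullback π ψ' ⟶ S.X₃ := pullback.snd _ _
  have hcond : w ≫ π = r ≫ ψ' := pullback.condition
  have hwr : w ≫ S.g = r := by rw [← hπq, reassoc_of% hcond, hψ', Category.comp_id]
  let i : kernel π ⟶ pullback π ψ' :=
    pullback.lift (kernel.ι π) 0 (by rw [kernel.condition, zero_comp])
  have hiw : i ≫ w = kernel.ι π := pullback.lift_fst _ _ _
  have hir : i ≫ r = 0 := pullback.lift_snd _ _ _
  haveI : Mono i := mono_of_mono_fac hiw
  haveI : Epi r := inferInstanceAs (Epi (pullback.snd π ψ'))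
  let T := ShortComplex.mk i r hir
  have hT : T.ShortExact :=
    ⟨T.exact_of_f_is_kernel (KernelFork.IsLimit.ofι i hir
      (fun {Z} z hz => kernel.lift π (z ≫ w) (by rw [Category.assoc, hcond, reassoc_of% hz, zero_comp]))
      (fun {Z} z hz => pullback.hom_ext
        (by rw [Category.assoc]; exact (congrArg (_ ≫ ·) hiw).trans (kernel.lift_ι _ _ _))
        (by rw [Category.assoc]; exact ((congrArg (_ ≫ ·) hir).trans comp_zero).trans hz.symm))
      (fun {Z} z hz m hm => (cancel_mono (kernel.ι π)).1 (by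
        rw [kernel.lift_ι, ← hiw, ← Category.assoc, hm])))⟩
  have hkπ : P (kernel π) := by
    refine P.prop_of_iso (Abelian.coimageIsoImage (stageMap S pres k)) ?_
    refine P.prop_of_iso ?_ (hcoim (pres.ι.app k) (hp k) hind)
    exact (cokernelEpiComp (kernelCompMono (pres.ι.app k) S.f).hom (kernel.ι (pres.ι.app k))).symm ≪≫
      cokernelIsoOfEq (kernelCompMono_hom (pres.ι.app k) S.f ▸ kernel.lift_ι _ _ _)
  have hG : P (pullback π ψ') := hext T hT hkπ h₃
  let l : kernel π ⟶ S.X₁ := hS.exact.lift (kernel.ι π) (by rw [← hπq, kernel.condition_assoc, zero_comp])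
  have hl : l ≫ S.f = kernel.ι π := hS.exact.lift_f _ _
  let m : kernel π ⟶ S.X₁ ⊞ pullback π ψ' := biprod.lift (-l) i
  let d : S.X₁ ⊞ pullback π ψ' ⟶ S.X₂ := biprod.desc S.f w
  have hmd : m ≫ d = 0 := by simp [m, d, hl, hiw]
  haveI : Epi d := (Preadditive.epi_iff_cancel_zero _).2 fun Z t ht => by
    have h1 : S.f ≫ t = 0 := by
      have := congrArg (biprod.inl ≫ ·) ht
      simpa [d] using this
    have h2 : w ≫ t = 0 := by
      have := congrArg (biprod.inr ≫ ·) ht
      simpa [d] using this
    obtain ⟨t', ht'⟩ := CokernelCofork.IsColimit.desc' hS.gIsCokernel t h1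
    replace ht' : S.g ≫ t' = t := ht'
    rw [← ht', ← Category.assoc, hwr] at h2
    rw [← ht', (cancel_epi r).1 (h2.trans comp_zero.symm), comp_zero]
  haveI : Mono m := mono_of_mono_fac (show m ≫ biprod.snd = i from biprod.lift_snd _ _)
  have hcl : IsColimit (CokernelCofork.ofπ d hmd) := by
    refine (ShortComplex.mk m d hmd).exact_of_f_is_kernel (KernelFork.IsLimit.ofι m hmd
      (fun {Z} z hz => kernel.lift π (z ≫ biprod.snd ≫ w) ?_) (fun {Z} z hz => ?_)
      (fun {Z} z hz v hv => ?_)) |>.gIsCokernel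
    · have h := congrArg (· ≫ S.g) hz
      simp only [d, biprod.desc_eq, Preadditive.comp_add, Preadditive.add_comp, Category.assoc, S.zero,
        comp_zero, zero_add, zero_comp, hwr] at h
      rw [Category.assoc, Category.assoc, hcond, reassoc_of% h, zero_comp]
    · have h := congrArg (· ≫ S.g) hz
      simp only [d, biprod.desc_eq, Preadditive.comp_add, Preadditive.add_comp, Category.assoc, S.zero,
        comp_zero, zero_add, zero_comp, hwr] at h
      refine biprod.hom_ext _ _ ((cancel_mono S.f).1 ?_) ?_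
      · have h' := hz
        simp only [d, biprod.desc_eq, Preadditive.comp_add] at h'
        simp only [m, Category.assoc, biprod.lift_fst_assoc, Preadditive.neg_comp, hl,
          Preadditive.comp_neg, kernel.lift_ι]
        exact (neg_eq_of_add_eq_zero_left h')
      · simp only [m, Category.assoc, biprod.lift_snd]
        refine pullback.hom_ext ?_ ?_
        · rw [Category.assoc]
          exact ((congrArg (_ ≫ ·) hiw).trans (kernel.lift_ι _ _ _)).trans (Category.assoc _ _ _).symm
        · rw [Category.assoc]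
          exact (((congrArg (_ ≫ ·) hir).trans comp_zero)).trans (by rw [Category.assoc]; exact h.symm)
    · refine (cancel_mono (kernel.ι π)).1 ?_
      rw [kernel.lift_ι, ← hv]
      simp [m, hiw]
  exact Q.prop_of_iso ((cokernelIsCokernel m).coconePointUniqueUpToIso hcl)
    (hcok m (hPQ _ hkπ) (hbi _ _ h₁' (hPQ _ hG)))

variable [IsGrothendieckAbelian.{v} B]

/-- Extensions of filtered colimits of members are such. -/
theorem prop_extension_ind [ObjectProperty.EssentiallySmall.{v} P] [P.IsClosedUnderIsomorphisms]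
    (hzero : ∃ Z, IsZero Z ∧ P Z)
    (hsum : ∀ X Y, P X → P Y → P (X ⊞ Y))
    (hcok : ∀ ⦃X Y : B⦄ (f : X ⟶ Y), P X → P Y → P (cokernel f))
    (hker : CoveredKernels P)
    (hbi : ∀ X Y, ObjectProperty.ind.{v} P X → ObjectProperty.ind.{v} P Y →
      ObjectProperty.ind.{v} P (X ⊞ Y))
    (hcok' : ∀ ⦃X Y : B⦄ (f : X ⟶ Y), ObjectProperty.ind.{v} P X → ObjectProperty.ind.{v} P Y →
      ObjectProperty.ind.{v} P (cokernel f))
    (hcoim : ∀ ⦃X Y : B⦄ (u : X ⟶ Y), P X → ObjectProperty.ind.{v} P Y → P (Abelian.coimage u))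
    (hext : ∀ S : ShortComplex B, S.ShortExact → P S.X₁ → P S.X₃ → P S.X₂)
    (hlift : ∀ ⦃X : B⦄, P X → ∀ ⦃Λ : Type v⦄ [SmallCategory Λ] [IsFiltered Λ] (D : Λ ⥤ B) (c : Cocone D),
      IsColimit c → ∀ φ : X ⟶ c.pt, ∃ (k : Λ) (ψ : X ⟶ D.obj k), ψ ≫ c.ι.app k = φ)
    (S : ShortComplex B) (hS : S.ShortExact) (h₁ : ObjectProperty.ind.{v} P S.X₁)
    (h₃ : ObjectProperty.ind.{v} P S.X₃) : ObjectProperty.ind.{v} P S.X₂ := by
  haveI := hS.mono_f
  haveI := hS.epi_g
  obtain ⟨R, ε, hR, h⟩ := exists_coreflection hzero hsum hcok hker S.X₂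
  haveI : Mono ε := by
    let u : R ⟶ S.X₃ := ε ≫ S.g
    let v : kernel u ⟶ S.X₁ := hS.exact.lift (kernel.ι u ≫ ε) (by
      rw [Category.assoc]; exact kernel.condition u)
    have hv : v ≫ S.f = kernel.ι u ≫ ε := hS.exact.lift_f _ _
    have hku := prop_kernel_ind hzero hsum hcok hker hR h₃ u
    have h0 : kernel.ι v ≫ kernel.ι u = 0 := by
      refine coveredKernels_ind hker hku h₁ v _ fun X hX q => ?_
      refine (h X (P.le_ind _ hX) 0).unique ?_ zero_comp
      rw [Category.assoc, Category.assoc, ← hv, kernel.condition_assoc, zero_comp, comp_zero]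
    haveI : Mono v := Preadditive.mono_of_kernel_iso_zero
      (IsZero.isoZero (IsZero.of_mono_eq_zero (kernel.ι v)
        ((cancel_mono (kernel.ι u)).1 (h0.trans zero_comp.symm))))
    refine Preadditive.mono_of_cancel_zero _ fun {Z} z hz => ?_
    have hz' : z ≫ u = 0 := by rw [← Category.assoc, hz, zero_comp]
    have : kernel.lift u z hz' ≫ v ≫ S.f = 0 := by rw [hv, kernel.lift_ι_assoc, hz]
    rw [← Category.assoc, ← zero_comp (f := S.f), cancel_mono, ← zero_comp (f := v), cancel_mono] at this
    rw [← kernel.lift_ι u z hz', this, zero_comp]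
  haveI : Epi ε := (Preadditive.epi_iff_cancel_zero _).2 fun T t ht => by
    obtain ⟨J, _, _, pres, hp⟩ := h₃
    let e := (colimit.isColimit pres.diag).coconePointUniqueUpToIso pres.isColimit
    refine hom_eq_zero_of_pullbacks (S.g ≫ e.inv) t fun j Z p q hpq => ?_
    have hq : q ≫ pres.ι.app j = p ≫ S.g := by
      have h' := congrArg (· ≫ e.hom) hpq
      simp only [Category.assoc, Iso.inv_hom_id, Category.comp_id] at h'
      rw [h']
      exact congrArg (q ≫ ·) ((colimit.isColimit pres.diag).comp_coconePointUniqueUpToIso_hom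
        pres.isColimit j).symm
    let E := pullback S.g (pres.ι.app j)
    let w : E ⟶ S.X₂ := pullback.fst _ _
    let r : E ⟶ pres.diag.obj j := pullback.snd _ _
    have hwr : w ≫ S.g = r ≫ pres.ι.app j := pullback.condition
    let i : S.X₁ ⟶ E := pullback.lift S.f 0 (by rw [S.zero, zero_comp])
    haveI : Mono i := mono_of_mono_fac (show i ≫ w = S.f from pullback.lift_fst _ _ _)
    haveI : Epi r := inferInstanceAs (Epi (pullback.snd S.g (pres.ι.app j)))
    have hir : i ≫ r = 0 := pullback.lift_snd _ _ _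
    have hT : (ShortComplex.mk i r hir).ShortExact :=
      ⟨(ShortComplex.mk i r hir).exact_of_f_is_kernel (KernelFork.IsLimit.ofι i hir
        (fun {Z} z hz => hS.exact.lift (z ≫ w) (by rw [Category.assoc, hwr, reassoc_of% hz, zero_comp]))
        (fun {Z} z hz => pullback.hom_ext
          (by rw [Category.assoc, pullback.lift_fst]; exact hS.exact.lift_f _ _)
          (by rw [Category.assoc, pullback.lift_snd, comp_zero]; exact hz.symm))
        (fun {Z} z hz m hm => (cancel_mono S.f).1 (by
          rw [hS.exact.lift_f, ← hm, Category.assoc, show i ≫ w = S.f from pullback.lift_fst _ _ _])))⟩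
    have hE : ObjectProperty.ind.{v} P E :=
      prop_extension_coh P.le_ind hcoim hext hbi hcok' hlift _ hT h₁ h₁ (hp j)
    obtain ⟨g, hg, -⟩ := h E hE w
    calc p ≫ t = pullback.lift p q hq.symm ≫ w ≫ t := by rw [pullback.lift_fst_assoc]
      _ = 0 := by rw [← hg, Category.assoc, ht, comp_zero, comp_zero]
  haveI := isIso_of_mono_of_epi ε
  exact (ObjectProperty.ind.{v} P).prop_of_iso (asIso ε) hR

end Groth.Agent.H8FSch.Coreflect
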