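import Groth.Agent.H24Formal3.CohRpush
import Groth.Agent.H8FSch.IndCoh
import Groth.Agent.H15Site.QcColim
import Groth.Agent.H10Coh.ToSheaf

/-!
# Higher direct images commute with filtered colimits on Noetherian formal schemes
-/

set_option autoImplicit false
set_option linter.style.haveILetI false
set_option linter.unusedSectionVars false

universe u

attribute [-instance] CategoryTheory.catToReflQuiver

open AlgebraicGeometry CategoryTheory CategoryTheory.Limits TopologicalSpace Opposite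

namespace Groth.Agent.H8FSch

attribute [local instance 10000] H15Site.SiteInst.hasSheafifySite H15Site.SiteInst.hasWeakSheafifySite
  H15Site.SiteInst.hasExtSite H15Site.SiteInst.enoughInjSite

open H24Formal3

variable {𝔛 : FSch.Sys.{u}} (hX : 𝔛.IsLocNoethFormal) [CompactSpace (𝔛.X 0)]
  {𝔜 : FSch.Sys.{u}} (hY : 𝔜.IsFormal) (f : 𝔛 ⟶ 𝔜) [HasInjectiveResolutions (FSch.ModF 𝔛 hX.1)]

/-- Higher direct images commute with filtered colimits. -/
theorem preservesColimitsOfShape_rpushF (q : ℕ) (Λ : Type u) [SmallCategory Λ] [IsFiltered Λ] :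
    PreservesColimitsOfShape Λ (FSch.RpushF f hX.1 hY q) := by
  haveI := hX.2.2 0
  haveI : IsNoetherian (𝔛.X 0) := ⟨⟩
  haveI : NoetherianSpace (𝔛.X 0) := inferInstance
  refine ⟨fun {D} => ?_⟩
  let φ := FSch.homMor f hX.1 hY
  let TC := SheafOfModules.toSheaf.{u} (ModSite.ringSh (𝔛.Osh hX.1))
  let TD := SheafOfModules.toSheaf.{u} (ModSite.ringSh (𝔜.Osh hY))
  haveI : PreservesColimitsOfShape Λ TC := H10Coh.preservesColimitsOfShape_toSheaf _ Λ
  haveI : PreservesColimitsOfShape Λ TD := H10Coh.preservesColimitsOfShape_toSheaf _ Λ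
  haveI : HasColimitsOfShape Λ (FSch.ModF 𝔜 hY) := by
    haveI := H10Coh.isGrothendieckAbelian_sheafOfModules (ModSite.ringSh (𝔜.Osh hY))
    infer_instance
  haveI : ReflectsColimitsOfShape Λ TD := reflectsColimitsOfShape_of_reflectsIsomorphisms
  haveI hc : PreservesColimit (D ⋙ TC)
      (CohSite.Rpush (Opens.grothendieckTopology (𝔛.X 0)) (Opens.grothendieckTopology (𝔜.X 0)) φ.fn q) :=
    H15Site.RpushColim.main φ.fn (D ⋙ TC) q fun V =>
      ⟨PUnit, fun _ => V, fun _ => 𝟙 V, fun x hx => ⟨V, 𝟙 V, Sieve.ofArrows_mk _ _ PUnit.unit, hx⟩,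
        fun _ => H15Site.QcColim.preservesColimit_cohomology _ (NoetherianSpace.isCompact _) q _⟩
  obtain ⟨e₁⟩ := ModRpush.nonempty_modRpushIso φ q
  obtain ⟨e₂⟩ := ModRpush.nonempty_rpushAbIso (J := Opens.grothendieckTopology (𝔛.X 0))
    (K := Opens.grothendieckTopology (𝔜.X 0)) φ.fn q
  haveI : PreservesColimit D (TC ⋙ CohSite.Rpush _ (Opens.grothendieckTopology (𝔜.X 0)) φ.fn q) :=
    inferInstance
  haveI : PreservesColimit D (FSch.RpushF f hX.1 hY q ⋙ TD) :=
    preservesColimit_of_natIso D (Functor.isoWhiskerLeft TC e₂ ≪≫ e₁.symm)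
  exact preservesColimit_of_reflects_of_preserves (FSch.RpushF f hX.1 hY q) TD

/-- Higher direct images of ind-coherent modules along proper morphisms are ind-coherent. -/
theorem ind_rpushF {𝔜 : FSch.Sys.{u}} (hY : 𝔜.IsLocNoethFormal) (f : 𝔛 ⟶ 𝔜) (hf : FSch.IsProperHom f)
    (F : FSch.ModF 𝔛 hX.1) (hF : ObjectProperty.ind.{u} (Coh 𝔛 hX.1) F) (q : ℕ) :
    ObjectProperty.ind.{u} (Coh 𝔜 hY.1) ((FSch.RpushF f hX.1 hY.1 q).obj F) := by
  obtain ⟨Λ, _, _, pres, hp⟩ := hF
  haveI := preservesColimitsOfShape_rpushF hX hY.1 f q Λ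
  exact ⟨Λ, inferInstance, inferInstance, pres.map (FSch.RpushF f hX.1 hY.1 q), fun i =>
    CohRpush.isCohF_rpushF hX hY f (pres.diag.obj i) q hf (hp i)⟩

end Groth.Agent.H8FSch
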